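import Cfsg.Agent.Lib.SymDesign.Transvection
import Cfsg.Agent.S3704
import Cfsg.Agent.S3732

/-!
# An index-degree subgroup unfaithful on an orbit

The plane case goes through the Ostrom-Wagner theorem, the other cases through the field of the
spread.
-/

set_option autoImplicit false
set_option linter.unusedSectionVars false
set_option linter.style.haveILetI false

namespace Cfsg.Agent.SymDesign

open MulAction Finset Module
open scoped Pointwise Classical

variable {G Ω : Type*} [Group G] [MulAction G Ω] [Finite G] [Finite Ω] [FaithfulSMul G Ω]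

namespace Datum

variable {d : Datum G Ω} [Fintype Ω] [Fintype (G ⧸ d.H)]
variable {p : ℕ} {Z : Subgroup G}

theorem hasCoords_of_plane (hl : d.lam = 1) : d.HasCoords := by
  let M : Membership Ω (G ⧸ d.H) := ⟨fun c x => x ∈ d.S c⟩
  letI := M
  have hmem : ∀ (x : Ω) (c : G ⧸ d.H), x ∈ c ↔ x ∈ d.S c := fun _ _ => Iff.rfl
  have hk := d.lam_add_two_le
  have hkm := d.k_mul
  rw [hl, one_mul] at hkm
  have hn := d.k_add_two_le
  have hsq : d.k + d.k < d.n + 1 := by
    obtain ⟨t, ht⟩ : ∃ t, d.k = t + 3 := ⟨d.k - 3, by omega⟩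
    rw [ht, show t + 3 - 1 = t + 2 by omega] at hkm
    have : (t + 3) * 2 ≤ (t + 3) * (t + 2) := Nat.mul_le_mul_left _ (by omega)
    omega
  have huniqP : ∀ {x y : Ω} {c c' : G ⧸ d.H},
      x ∈ d.S c → y ∈ d.S c → x ∈ d.S c' → y ∈ d.S c' → x = y ∨ c = c' := by
    intro x y c c' h1 h2 h3 h4
    by_contra h
    push Not at h
    have hle := Finset.card_le_one.1 ((d.card_through_two h.1).trans hl).le
    exact h.2 (hle c (by simp [h1, h2]) c' (by simp [h3, h4]))
  have hline : ∀ {x y : Ω}, x ≠ y → ∃ c, x ∈ d.S c ∧ y ∈ d.S c := by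
    intro x y h
    obtain ⟨c, hc⟩ : (d.through x ∩ d.through y).Nonempty := by
      rw [← Finset.card_pos, d.card_through_two h, hl]
      exact one_pos
    exact ⟨c, by simpa using hc⟩
  have hpoint : ∀ {c c' : G ⧸ d.H}, c ≠ c' → ∃ x, x ∈ d.S c ∧ x ∈ d.S c' := by
    intro c c' h
    obtain ⟨x, hx⟩ : (d.S c ∩ d.S c').Nonempty := by
      refine Set.nonempty_of_ncard_ne_zero ?_
      rw [d.card_inter h, hl]
      exact one_ne_zero
    exact ⟨x, hx.1, hx.2⟩
  have hex_pt : ∀ c : G ⧸ d.H, ∃ x, x ∉ d.S c := by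
    intro c
    by_contra h
    push Not at h
    have h2 := d.ncard_S c
    rw [Set.eq_univ_of_forall h, Set.ncard_univ] at h2
    have : Nat.card Ω = d.n := rfl
    omega
  have hex_ln : ∀ x : Ω, ∃ c : G ⧸ d.H, x ∉ d.S c := by
    intro x
    by_contra h
    push Not at h
    have h2 := d.card_through x
    rw [show d.through x = univ by ext c; simp [h c], Finset.card_univ, d.card_blk] at h2
    omega
  letI : Configuration.ProjectivePlane Ω (G ⧸ d.H) :=
    { exists_point := hex_pt
      exists_line := hex_ln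
      eq_or_eq := huniqP
      mkPoint := fun {c c'} h => (hpoint h).choose
      mkPoint_ax := fun {c c'} h => (hpoint h).choose_spec
      mkLine := fun {x y} h => (hline h).choose
      mkLine_ax := fun {x y} h => (hline h).choose_spec
      exists_config := by
        obtain ⟨c₂, c₃, h23⟩ : ∃ c₂ c₃ : G ⧸ d.H, c₂ ≠ c₃ := by
          obtain ⟨c, hc⟩ := Semi.exists_ne_o (d := d)
          exact ⟨c, d.o, hc⟩
        obtain ⟨p₂, h22, h32⟩ := hpoint h23
        obtain ⟨p₃, hp3, hp32⟩ : ∃ p₃, p₃ ∈ d.S c₂ ∧ p₃ ≠ p₂ :=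
          Set.exists_ne_of_one_lt_ncard (by rw [d.ncard_S]; omega) p₂
        have h33 : p₃ ∉ d.S c₃ := fun h => (huniqP hp3 h22 h h32).elim hp32 h23
        obtain ⟨c₁, hc1⟩ : ∃ c₁, c₁ ∉ d.through p₂ ∪ d.through p₃ := by
          by_contra h
          push Not at h
          have h2 := Finset.card_union_le (d.through p₂) (d.through p₃)
          rw [show d.through p₂ ∪ d.through p₃ = univ from Finset.eq_univ_of_forall h,
            Finset.card_univ, d.card_blk, d.card_through, d.card_through] at h2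
          have h4 := Finset.card_union_add_card_inter (d.through p₂) (d.through p₃)
          rw [show d.through p₂ ∪ d.through p₃ = univ from Finset.eq_univ_of_forall h,
            Finset.card_univ, d.card_blk, d.card_through, d.card_through,
            d.card_through_two hp32.symm, hl] at h4
          omega
        obtain ⟨p₁, hp1⟩ : ∃ p₁, p₁ ∉ d.S c₂ ∪ d.S c₃ := by
          by_contra h
          push Not at h
          have h4 := Set.ncard_union_add_ncard_inter (d.S c₂) (d.S c₃)
          rw [Set.eq_univ_of_forall h, Set.ncard_univ, d.ncard_S, d.ncard_S, d.card_inter h23, hl]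
            at h4
          have : Nat.card Ω = d.n := rfl
          omega
        simp only [Finset.mem_union, mem_through, not_or] at hc1
        simp only [Set.mem_union, not_or] at hp1
        exact ⟨p₁, p₂, p₃, c₁, c₂, c₃, hp1.1, hp1.2, hc1.1, h22, h32, hc1.2, hp3, h33⟩ }
  obtain ⟨F, iF, iT, φ, hφ1, hφ2⟩ := S3732.result (P := Ω) (L := G ⧸ d.H) (by
    intro x₁ x₂ y₁ y₂ hx hy
    obtain ⟨g, h1, h2⟩ := d.h2 hx hy
    exact ⟨MulAction.toPerm g, MulAction.toPerm g, fun x c => d.smul_mem_S_iff g x c, h1, h2⟩)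
  have hiff : ∀ (W : Submodule F (Fin 3 → F)) (x : Ω), (φ x).submodule ≤ W ↔ (φ x).rep ∈ W := by
    intro W x
    rw [Projectivization.submodule_eq, Submodule.span_singleton_le_iff_mem]
  refine ⟨F, iF, iT, 2, le_rfl, φ, fun ψ hψ => ?_, fun c => ?_⟩
  · obtain ⟨c, hc⟩ := hφ2 (LinearMap.ker ψ) (by
      have h3 := LinearMap.finrank_range_add_finrank_ker ψ
      rw [LinearMap.range_eq_top.2 (ψ.surjective_of_ne_zero hψ), finrank_top, Module.finrank_self,
        Module.finrank_fin_fun] at h3
      show Module.finrank F (LinearMap.ker ψ) = 2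
      linarith)
    exact ⟨c, fun x => by rw [← hmem, hc, hiff, LinearMap.mem_ker]⟩
  · obtain ⟨W, hW, hc⟩ := hφ1 c
    have hcard : Nat.card W * Nat.card F = Nat.card (Fin 3 → F) := by
      rw [Module.natCard_eq_pow_finrank (K := F) (V := W), hW, Nat.card_fun, Nat.card_fin,
        ← pow_succ]
    obtain ⟨ψ, hψ, hker⟩ := exists_ker_eq hcard
    exact ⟨ψ, hψ, fun x => by rw [← hmem, hc, hiff, ← LinearMap.mem_ker, hker]⟩

theorem Elem.hasCoords (hZ : d.Elem p Z) : d.HasCoords := by
  obtain ⟨C, hC⟩ := Semi.exists_ne_o (d := d)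
  rcases lt_or_ge (blkOrbit Z C).ncard (Nat.card (stab Z C)) with hbig | hle
  · haveI := Fact.mk hZ.prime
    exact hasCoords_of_big hZ hC hbig
  · refine hasCoords_of_plane ?_
    have hsq := hZ.card_le_sq hC
    rw [← card_blkOrbit Z C] at hsq
    have heq : (blkOrbit Z C).ncard = Nat.card (stab Z C) :=
      le_antisymm (Nat.le_of_mul_le_mul_right hsq Nat.card_pos) hle
    obtain ⟨w, -, hkw, -, hws⟩ := hZ.toSemi.exists_w hC
    have hk := hZ.k_eq hC
    obtain rfl : w = 1 := by omega
    rw [one_mul, heq] at hws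
    have h2 := hZ.two_le_orbit hC
    rw [heq] at h2
    exact (mul_eq_right₀ (show Nat.card (stab Z C) - 1 ≠ 0 by omega)).1 hws.symm

end Datum

/-- The theorem of Ito. -/
theorem main (h2 : IsMultiplyPretransitive G Ω 2) (H : Subgroup G) (hidx : H.index = Nat.card Ω)
    (hnt : ¬ IsPretransitive H Ω) (hfix : ∀ a : Ω, ∃ h : H, h • a ≠ a)
    (hunf : ∃ a : Ω, ∃ h : H, h ≠ 1 ∧ ∀ b ∈ MulAction.orbit H a, h • b = b) :
    ∃ (m : ℕ) (F : Type) (_ : Field F) (_ : Fintype F), 2 ≤ m ∧
      Nat.card Ω = (Fintype.card F ^ (m + 1) - 1) / (Fintype.card F - 1) ∧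
      ∃ N : Subgroup G, N.Normal ∧
        Nonempty (N ≃* Matrix.ProjectiveSpecialLinearGroup (Fin (m + 1)) F) ∧
        Subgroup.centralizer (N : Set G) = ⊥ := by
  obtain ⟨a, ⟨h, hh⟩, hh1, hhb⟩ := hunf
  have htwo : Nat.card (orbitRel.Quotient H Ω) = 2 := S3704.result h2 H hidx hnt hfix
  have hpair : ∀ x : Ω, 2 ≤ (orbit H x).ncard := by
    intro x
    obtain ⟨g, hg⟩ := hfix x
    exact (Set.one_lt_ncard (Set.toFinite _)).2
      ⟨g • x, mem_orbit _ _, x, mem_orbit_self _, hg⟩
  have hout : ∀ x y, x ∉ orbit H a → y ∉ orbit H a → ∃ h ∈ H, h • x = y := by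
    intro x y hx hy
    by_contra hno
    have hne : ∀ {u v : Ω}, u ∉ orbit H v → (Quotient.mk'' u : orbitRel.Quotient H Ω) ≠ Quotient.mk'' v :=
      fun {u v} hu he => hu (Quotient.exact' he)
    have h1 := hne hx
    have h2' := hne hy
    have h3 : (Quotient.mk'' y : orbitRel.Quotient H Ω) ≠ Quotient.mk'' x := by
      refine hne ?_
      rintro ⟨⟨g, hg⟩, hgx⟩
      exact hno ⟨g, hg, hgx⟩
    have := Fintype.ofFinite (orbitRel.Quotient H Ω)
    have h4 := Finset.card_le_univ ({Quotient.mk'' a, Quotient.mk'' x, Quotient.mk'' y} :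
      Finset (orbitRel.Quotient H Ω))
    rw [Finset.card_insert_of_notMem (by simp [h1.symm, h2'.symm]),
      Finset.card_insert_of_notMem (by simpa using h3.symm), Finset.card_singleton,
      ← Nat.card_eq_fintype_card, htwo] at h4
    omega
  obtain ⟨z, hz⟩ : ∃ z, z ∉ orbit H a := by
    by_contra hall
    push Not at hall
    refine hnt ⟨fun x y => ?_⟩
    have hx := hall x
    have hy := hall y
    rw [← orbit_eq_iff.2 hx] at hy
    exact hy
  let d : Datum G Ω :=
    { H := H
      B := orbit H a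
      a := a
      h2 := fun hwx hyz => is_two_pretransitive_iff.1 h2 hwx hyz
      idx := hidx
      hB := rfl
      trans_compl := hout
      two_le := hpair a
      two_le_compl := by
        refine (hpair z).trans (Set.ncard_le_ncard (fun x hx => ?_) (Set.toFinite _))
        intro hxa
        exact hz (orbit_eq_iff.1 ((orbit_eq_iff.2 hx).symm.trans (orbit_eq_iff.2 hxa))) }
  haveI : Fintype Ω := Fintype.ofFinite Ω
  haveI : Fintype (G ⧸ d.H) := Fintype.ofFinite _
  obtain ⟨p, Z, hZ⟩ := d.exists_elem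
    ⟨h, fun h' => hh1 (Subtype.ext h'), fun b hb => hhb b hb⟩
  exact Datum.conclusion hZ hZ.hasCoords

end Cfsg.Agent.SymDesign
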