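import Cfsg.Agent.Lib.SymDesign.Basic
import Mathlib.GroupTheory.Sylow

/-!
# Elements fixing a block pointwise

An element fixing a block pointwise fixes at most one point outside it. A normal semiregular
subgroup of such elements is a group of prime power order.
-/

set_option autoImplicit false
set_option linter.unusedSectionVars false
set_option linter.style.haveILetI false

namespace Cfsg.Agent.SymDesign

open MulAction Finset
open scoped Pointwise

variable {G Ω : Type*} [Group G] [MulAction G Ω] [Finite G] [Finite Ω] [FaithfulSMul G Ω]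

namespace Datum

variable (d : Datum G Ω) [Fintype Ω] [Fintype (G ⧸ d.H)]

theorem mem_H_of_fix {σ : G} (h : ∀ b ∈ d.B, σ • b = b) : σ ∈ d.H := by
  refine d.mem_H_of_smul_B ?_
  ext x
  rw [Set.mem_smul_set]
  constructor
  · rintro ⟨b, hb, rfl⟩
    rw [h b hb]
    exact hb
  · exact fun hx => ⟨x, hx, h x hx⟩

theorem blk_fixed_of_fix {σ : G} (hB : ∀ b ∈ d.B, σ • b = b) {y : Ω} (hy : σ • y = y)
    (hyB : y ∉ d.B) {c : G ⧸ d.H} (hc : y ∈ d.S c) : σ • c = c := by
  classical
  by_contra hne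
  have hco : c ≠ d.o := by
    intro h
    rw [h, d.S_o] at hc
    exact hyB hc
  have hsub : insert y (d.S c ∩ d.S d.o) ⊆ d.S c ∩ d.S (σ • c) := by
    rintro x (rfl | ⟨hx, hxo⟩)
    · refine ⟨hc, ?_⟩
      rw [← hy, d.smul_mem_S_iff]
      exact hc
    · refine ⟨hx, ?_⟩
      rw [← hB x (by simpa using hxo), d.smul_mem_S_iff]
      exact hx
  have h := Set.ncard_le_ncard hsub (Set.toFinite _)
  rw [d.card_inter (Ne.symm hne), Set.ncard_insert_of_notMem (by simp [hyB]) (Set.toFinite _),
    d.card_inter hco] at h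
  omega

/-- An element fixing the block pointwise fixes at most one further point. -/
theorem fix_le_one {σ : G} (hB : ∀ b ∈ d.B, σ • b = b) (hσ : σ ≠ 1) {y y' : Ω} (hy : σ • y = y)
    (hy' : σ • y' = y') (hyB : y ∉ d.B) (hyB' : y' ∉ d.B) : y = y' := by
  classical
  by_contra hne
  set T := d.through y ∩ d.through y' with hT
  have key : ∀ z, σ • z ≠ z → ∀ w, σ • w = w → w ∉ d.B →
      d.through z ∩ d.through w = d.through z ∩ d.through (σ • z) := by
    intro z hz w hw hwB
    apply Finset.eq_of_subset_of_card_le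
    · intro c hc
      simp only [Finset.mem_inter, mem_through] at hc ⊢
      refine ⟨hc.1, ?_⟩
      rw [← d.blk_fixed_of_fix hB hw hwB hc.2, d.smul_mem_S_iff]
      exact hc.1
    · rw [d.card_through_two (Ne.symm hz), d.card_through_two (show z ≠ w from fun h => hz (h ▸ hw))]
  have hmoved : ∀ z, σ • z ≠ z → d.through z ∩ d.through (σ • z) = T := by
    intro z hz
    refine Finset.eq_of_subset_of_card_le ?_ ?_
    · intro c hc
      have h1 := hc
      rw [← key z hz y hy hyB] at h1
      have h2 := hc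
      rw [← key z hz y' hy' hyB'] at h2
      exact Finset.mem_inter.2 ⟨(Finset.mem_inter.1 h1).2, (Finset.mem_inter.1 h2).2⟩
    · rw [hT, d.card_through_two hne, d.card_through_two (Ne.symm hz)]
  obtain ⟨z, hz⟩ : ∃ z : Ω, σ • z ≠ z := by
    by_contra hh
    push Not at hh
    exact hσ (eq_of_smul_eq_smul (α := Ω) fun z => by rw [hh z, one_smul])
  obtain ⟨c, hc⟩ : T.Nonempty := by
    rw [← Finset.card_pos, hT, d.card_through_two hne]
    exact d.lam_pos
  have hall : ∀ x, x ∉ d.B → x ∈ d.S c := by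
    intro x hx
    by_cases hxf : σ • x = x
    · have h1 := hc
      rw [← hmoved z hz, ← key z hz x hxf hx] at h1
      simpa using (Finset.mem_inter.1 h1).2
    · have h1 := hc
      rw [← hmoved x hxf] at h1
      simpa using (Finset.mem_inter.1 h1).1
  have hco : c ≠ d.o := by
    intro h
    have := hall y hyB
    rw [h, d.S_o] at this
    exact hyB this
  have h1 : d.Bᶜ ⊆ d.S c \ (d.S c ∩ d.S d.o) := fun x hx =>
    ⟨hall x hx, fun hh => hx (by simpa using hh.2)⟩
  have h2 := Set.ncard_le_ncard h1 (Set.toFinite _)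
  rw [Set.ncard_sdiff Set.inter_subset_left, d.ncard_S, d.card_inter hco, d.card_compl] at h2
  have h3 := d.k_sub_one_mul
  have h4 := d.lam_add_two_le
  have h5 : d.lam * (d.n - d.k) ≤ d.lam * (d.k - d.lam) := Nat.mul_le_mul_left _ h2
  rw [← h3] at h5
  have h6 := Nat.le_of_mul_le_mul_right h5 (by omega)
  omega

/-- A subgroup fixing the block pointwise, normalised by `H`, semiregular outside. -/
structure Semi (R : Subgroup G) : Prop where
  fixB : ∀ r ∈ R, ∀ b ∈ d.B, r • b = b
  norm : ∀ h ∈ d.H, ∀ r ∈ R, h * r * h⁻¹ ∈ R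
  semi : ∀ r ∈ R, r ≠ 1 → ∀ x : Ω, r • x = x → x ∈ d.B

variable {d}

theorem Semi.le_H {R : Subgroup G} (hR : d.Semi R) : R ≤ d.H := fun r hr =>
  d.mem_H_of_fix (hR.fixB r hr)

theorem Semi.fix_iff {R : Subgroup G} (hR : d.Semi R) {r : G} (hr : r ∈ R) (h1 : r ≠ 1) (x : Ω) :
    r • x = x ↔ x ∈ d.B :=
  ⟨hR.semi r hr h1 x, hR.fixB r hr x⟩

open scoped Classical in
theorem Semi.card_fix_blk {R : Subgroup G} (hR : d.Semi R) {r : G} (hr : r ∈ R) (h1 : r ≠ 1) :
    (univ.filter fun c : G ⧸ d.H => r • c = c).card = d.k := by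
  rw [← d.card_fix, ← d.card_S d.o]
  congr 1
  ext x
  simp [hR.fix_iff hr h1]

open scoped Classical in
theorem Semi.count {R : Subgroup G} (hR : d.Semi R) (Y : Finset G)
    (hY : ∀ y ∈ Y, y ∈ R ∧ y ≠ 1) (hinv : ∀ h ∈ d.H, ∀ y ∈ Y, h * y * h⁻¹ ∈ Y)
    {C : G ⧸ d.H} (hC : C ≠ d.o) :
    Y.card * (d.k - 1) = (d.n - 1) * (Y.filter fun y => y • C = C).card := by
  have h1 : ∀ y ∈ Y, ((univ.erase d.o).filter fun c => y • c = c).card = d.k - 1 := by
    intro y hy
    rw [Finset.filter_erase, Finset.card_erase_of_mem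
      (by simpa using d.smul_o_iff.2 (hR.le_H (hY y hy).1)), hR.card_fix_blk (hY y hy).1 (hY y hy).2]
  have h2 : ∀ c ∈ univ.erase d.o,
      (Y.filter fun y => y • c = c).card = (Y.filter fun y => y • C = C).card := by
    intro c hc
    obtain ⟨h, hh, rfl⟩ := d.trans_blk hC (Finset.mem_erase.1 hc).1
    refine Finset.card_equiv (MulAut.conj h⁻¹).toEquiv fun y => ?_
    simp only [Finset.mem_filter, MulEquiv.toEquiv_eq_coe, EquivLike.coe_coe,
      MulAut.conj_apply, inv_inv]
    constructor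
    · rintro ⟨hy, hfix⟩
      refine ⟨by simpa using hinv h⁻¹ (d.H.inv_mem hh) y hy, ?_⟩
      rw [mul_smul, mul_smul, hfix, inv_smul_smul]
    · rintro ⟨hy, hfix⟩
      refine ⟨by simpa [mul_assoc] using hinv h hh _ hy, ?_⟩
      rw [mul_smul, mul_smul, inv_smul_eq_iff] at hfix
      exact hfix
  calc Y.card * (d.k - 1) = ∑ y ∈ Y, ((univ.erase d.o).filter fun c => y • c = c).card := by
        rw [Finset.sum_congr rfl h1, Finset.sum_const, smul_eq_mul]
    _ = ∑ c ∈ univ.erase d.o, (Y.filter fun y => y • c = c).card := by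
        simp only [Finset.card_filter]
        exact Finset.sum_comm
    _ = _ := by
        rw [Finset.sum_congr rfl h2, Finset.sum_const, smul_eq_mul,
          Finset.card_erase_of_mem (Finset.mem_univ _), Finset.card_univ, d.card_blk]

open scoped Classical in
theorem Semi.count' {R : Subgroup G} (hR : d.Semi R) (Y : Finset G)
    (hY : ∀ y ∈ Y, y ∈ R ∧ y ≠ 1) (hinv : ∀ h ∈ d.H, ∀ y ∈ Y, h * y * h⁻¹ ∈ Y)
    {C : G ⧸ d.H} (hC : C ≠ d.o) :
    d.lam * Y.card = d.k * (Y.filter fun y => y • C = C).card := by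
  have h := hR.count Y hY hinv hC
  have hk := d.k_mul
  have h1 : 2 ≤ d.k := d.two_le
  apply Nat.eq_of_mul_eq_mul_left (show 0 < d.n - 1 by have := d.k_add_two_le; omega)
  calc (d.n - 1) * (d.lam * Y.card) = d.lam * (d.n - 1) * Y.card := by ring
    _ = d.k * (Y.card * (d.k - 1)) := by rw [← hk]; ring
    _ = _ := by rw [h]; ring

/-- The stabiliser of a block in `R`. -/
def stab (R : Subgroup G) (c : G ⧸ d.H) : Subgroup G := R ⊓ stabilizer G c

theorem Semi.card_stab_eq {R : Subgroup G} (hR : d.Semi R) {c e : G ⧸ d.H} (hc : c ≠ d.o)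
    (he : e ≠ d.o) : Nat.card (stab R c) = Nat.card (stab R e) := by
  obtain ⟨h, hh, rfl⟩ := d.trans_blk hc he
  refine Nat.card_congr ((MulAut.conj h).toEquiv.subtypeEquiv fun g => ?_)
  simp only [stab, Subgroup.mem_inf, mem_stabilizer_iff, MulEquiv.toEquiv_eq_coe,
    EquivLike.coe_coe, MulAut.conj_apply]
  constructor
  · rintro ⟨hg, hfix⟩
    refine ⟨hR.norm h hh g hg, ?_⟩
    rw [mul_smul, mul_smul, inv_smul_smul, hfix]
  · rintro ⟨hg, hfix⟩
    refine ⟨by simpa [mul_assoc] using hR.norm h⁻¹ (d.H.inv_mem hh) _ hg, ?_⟩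
    rw [mul_smul, mul_smul, inv_smul_smul] at hfix
    exact MulAction.injective h hfix

/-- `k (s - 1) = λ (|R| - 1)`. -/
theorem Semi.card_eq {R : Subgroup G} (hR : d.Semi R) {C : G ⧸ d.H} (hC : C ≠ d.o) :
    d.k * (Nat.card (stab R C) - 1) = d.lam * (Nat.card R - 1) := by
  classical
  have := Fintype.ofFinite G
  set Y : Finset G := (univ.filter fun g => g ∈ R).erase 1 with hY
  have h := hR.count' Y (fun y hy => by simpa [hY, and_comm] using hy) (fun h hh y hy => by
    simp only [hY, Finset.mem_erase, Finset.mem_filter, Finset.mem_univ, true_and] at hy ⊢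
    exact ⟨fun h1 => hy.1 (conj_eq_one_iff.1 h1), hR.norm h hh y hy.2⟩) hC
  have h1 : Y.card = Nat.card R - 1 := by
    rw [hY, Finset.card_erase_of_mem (by simp [R.one_mem]), Nat.card_eq_fintype_card,
      Fintype.card_subtype]
  have h2 : (Y.filter fun y => y • C = C).card = Nat.card (stab R C) - 1 := by
    rw [hY, Finset.filter_erase, Finset.card_erase_of_mem (by simp [R.one_mem]),
      Nat.card_eq_fintype_card, Fintype.card_subtype, Finset.filter_filter]
    congr 2
    ext x
    simp [stab]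
  rw [h1, h2] at h
  exact h.symm

/-- The orbit of a block under `R`. -/
def blkOrbit (R : Subgroup G) (c : G ⧸ d.H) : Set (G ⧸ d.H) := (fun r : G => r • c) '' (R : Set G)

theorem card_blkOrbit (R : Subgroup G) (c : G ⧸ d.H) :
    (blkOrbit R c).ncard * Nat.card (stab R c) = Nat.card R := by
  letI : MulAction R (G ⧸ d.H) := MulAction.compHom (G ⧸ d.H) R.subtype
  have h1 : blkOrbit R c = orbit R c := by
    ext e
    constructor
    · rintro ⟨r, hr, rfl⟩
      exact ⟨⟨r, hr⟩, rfl⟩
    · rintro ⟨⟨r, hr⟩, rfl⟩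
      exact ⟨r, hr, rfl⟩
  have h2 : Nat.card (stab R c) = Nat.card (stabilizer R c) :=
    Nat.card_congr
      { toFun := fun g => ⟨⟨g.1, g.2.1⟩, g.2.2⟩
        invFun := fun g => ⟨g.1.1, g.1.2, g.2⟩
        left_inv := fun _ => rfl
        right_inv := fun _ => rfl }
  rw [h1, h2, ← index_stabilizer, mul_comm, Subgroup.card_mul_index]

/-- `λ |R| ≤ (k - 1) s`. -/
theorem Semi.lam_mul_card_le {R : Subgroup G} (hR : d.Semi R) {C : G ⧸ d.H} (hC : C ≠ d.o) :
    d.lam * Nat.card R ≤ (d.k - 1) * Nat.card (stab R C) := by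
  classical
  obtain ⟨x, hx⟩ : ∃ x, x ∉ d.B := by
    by_contra hh
    push Not at hh
    have h := d.two_le_compl
    rw [Set.eq_univ_of_forall hh, Set.compl_univ, Set.ncard_empty] at h
    omega
  set y := d.a with hy
  have hyB : y ∈ d.B := d.a_mem
  set P := d.through x ∩ d.through y with hP
  have hPo : ∀ c ∈ P, c ≠ d.o := by
    intro c hc h
    subst h
    exact hx (by simpa using (Finset.mem_inter.1 hc).1)
  have hdisj : (P : Set (G ⧸ d.H)).PairwiseDisjoint fun c => (blkOrbit R c).toFinset := by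
    intro c hc c' hc' hne
    show Disjoint _ _
    rw [Finset.disjoint_left]
    intro e he he'
    simp only [Set.mem_toFinset] at he he'
    obtain ⟨r, hr, rfl⟩ := he
    obtain ⟨r', hr', he'⟩ := he'
    set ρ := r'⁻¹ * r with hρ
    have hρR : ρ ∈ R := R.mul_mem (R.inv_mem hr') hr
    have hc'eq : c' = ρ • c := by
      rw [hρ, mul_smul, eq_inv_smul_iff]
      exact he'
    simp only [hP, Finset.mem_coe, Finset.mem_inter, mem_through] at hc hc'
    have hsub : insert x (d.S c ∩ d.S d.o) ⊆ d.S c ∩ d.S c' := by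
      rintro w (rfl | ⟨hw, hwo⟩)
      · exact ⟨hc.1, hc'.1⟩
      · refine ⟨hw, ?_⟩
        rw [hc'eq, ← hR.fixB ρ hρR w (by simpa using hwo), d.smul_mem_S_iff]
        exact hw
    have h := Set.ncard_le_ncard hsub (Set.toFinite _)
    have hco : c ≠ d.o := hPo c (by simp [hP, hc])
    rw [d.card_inter hne, Set.ncard_insert_of_notMem (by simp [hx]) (Set.toFinite _),
      d.card_inter hco] at h
    omega
  have hsubset : P.biUnion (fun c => (blkOrbit R c).toFinset) ⊆ (d.through y).erase d.o := by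
    intro e he
    simp only [Finset.mem_biUnion, Set.mem_toFinset] at he
    obtain ⟨c, hc, r, hr, rfl⟩ := he
    refine Finset.mem_erase.2 ⟨fun h => hPo c hc ?_, ?_⟩
    · have h' : r • c = d.o := h
      rw [← inv_smul_smul r c, h', d.smul_o_iff.2 (d.H.inv_mem (hR.le_H hr))]
    · rw [mem_through, ← hR.fixB r hr y hyB, d.smul_mem_S_iff]
      simpa using (Finset.mem_inter.1 hc).2
  have h := Finset.card_le_card hsubset
  rw [Finset.card_biUnion hdisj, Finset.card_erase_of_mem (by simp [hyB]), d.card_through] at h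
  have h2 := Nat.mul_le_mul_right (Nat.card (stab R C)) h
  rw [Finset.sum_mul] at h2
  have h3 : ∀ c ∈ P, (blkOrbit R c).toFinset.card * Nat.card (stab R C) = Nat.card R := by
    intro c hc
    rw [hR.card_stab_eq hC (hPo c hc), ← Set.ncard_eq_toFinset_card', card_blkOrbit]
  rw [Finset.sum_congr rfl h3, Finset.sum_const, smul_eq_mul, hP,
    d.card_through_two (show x ≠ y from fun e => hx (e ▸ hyB))] at h2
  exact h2

open scoped Classical in
theorem Semi.exists_ne_o : ∃ C : G ⧸ d.H, C ≠ d.o := by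
  haveI : Nontrivial (G ⧸ d.H) := by
    rw [← Fintype.one_lt_card_iff_nontrivial, d.card_blk]
    have := d.k_add_two_le
    omega
  exact exists_ne _

/-- A normal semiregular subgroup fixing the block pointwise has prime power order. -/
theorem Semi.exists_prime_isPGroup {R : Subgroup G} (hR : d.Semi R) (hne : R ≠ ⊥) :
    ∃ p : ℕ, p.Prime ∧ IsPGroup p R := by
  classical
  have := Fintype.ofFinite G
  obtain ⟨C, hC⟩ := Semi.exists_ne_o (d := d)
  set N := Nat.card R with hN
  set s := Nat.card (stab R C) with hs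
  set e := (blkOrbit R C).ncard with he
  have hes : e * s = N := card_blkOrbit R C
  have hN1 : 1 < N := Subgroup.one_lt_card_iff_ne_bot R |>.2 hne
  have heq := hR.card_eq hC
  have hle := hR.lam_mul_card_le hC
  rw [← hs, ← hN] at heq hle
  have hk2 : 2 ≤ d.k := d.two_le
  have hl := d.lam_pos
  obtain ⟨g, a, b, hg, hab, hka, hlb⟩ :=
    Nat.exists_coprime' (Nat.gcd_pos_of_pos_left d.lam (show 0 < d.k by omega))
  have hb : 1 ≤ b := by
    rcases Nat.eq_zero_or_pos b with h | h
    · rw [h, zero_mul] at hlb; omega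
    · exact h
  have heq' : a * (s - 1) = b * (N - 1) := by
    apply Nat.eq_of_mul_eq_mul_right hg
    rw [hka, hlb] at heq
    calc a * (s - 1) * g = a * g * (s - 1) := by ring
      _ = b * g * (N - 1) := heq
      _ = _ := by ring
  have hs1 : 1 ≤ s := Nat.card_pos
  have hlt : b * e < a := by
    have h1 : d.lam * N < d.k * s := lt_of_le_of_lt hle
      (Nat.mul_lt_mul_of_pos_right (by omega) (by omega))
    rw [hka, hlb, ← hes] at h1
    by_contra hcon
    push Not at hcon
    have : a * g * s ≤ b * g * (e * s) := by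
      calc a * g * s ≤ b * e * g * s := Nat.mul_le_mul_right _ (Nat.mul_le_mul_right _ hcon)
        _ = _ := by ring
    omega
  have he1 : 1 ≤ e := by
    rcases Nat.eq_zero_or_pos e with h | h
    · rw [h, zero_mul] at hes; omega
    · exact h
  have hsle : s ≤ b * e := by
    by_contra hcon
    push Not at hcon
    have h1 : (b * e + 1) * (s - 1) ≤ a * (s - 1) := Nat.mul_le_mul_right _ hlt
    rw [heq', ← hes] at h1
    clear_value s e
    obtain ⟨t, rfl⟩ : ∃ t, s = t + 1 := ⟨s - 1, by omega⟩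
    obtain ⟨u, hu⟩ : ∃ u, e * (t + 1) = u + 1 := ⟨e * (t + 1) - 1, by omega⟩
    rw [Nat.add_sub_cancel, hu, Nat.add_sub_cancel] at h1
    nlinarith
  have hNa : N < a * a := by
    rw [← hes]
    have h1 : e * s ≤ (b * e) * (b * e) :=
      Nat.mul_le_mul (Nat.le_mul_of_pos_left _ hb) hsle
    exact lt_of_le_of_lt h1 (Nat.mul_lt_mul_of_lt_of_le hlt hlt.le (by omega))
  have hcop : Nat.Coprime a N := by
    have h1 : a ∣ N - 1 := hab.dvd_of_dvd_mul_left ⟨s - 1, heq'.symm⟩
    refine Nat.Coprime.coprime_dvd_left h1 ?_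
    have h2 : N = N - 1 + 1 := by omega
    rw [h2, Nat.add_sub_cancel, Nat.coprime_self_add_right]
    exact Nat.coprime_one_right _
  -- the Sylow bound
  have key : ∀ p, p.Prime → p ∣ N → a < p ^ N.factorization p := by
    intro p hp hpN
    have := Fact.mk hp
    set v := N.factorization p with hv
    let 𝒬 : Finset (Subgroup G) := univ.filter fun Q => Q ≤ R ∧ Nat.card Q = p ^ v
    have hcard𝒬 : 𝒬.card = Nat.card (Sylow p R) := by
      rw [← Fintype.card_subtype, ← Nat.card_eq_fintype_card]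
      refine (Nat.card_congr (Equiv.ofBijective
        (fun Q : Sylow p R => ⟨(Q : Subgroup R).map R.subtype,
          Subgroup.map_subtype_le _, by
            rw [Subgroup.card_map_of_injective R.subtype_injective, Sylow.card_eq_multiplicity]⟩)
        ⟨?_, ?_⟩)).symm
      · intro Q Q' h
        exact Sylow.ext (Subgroup.map_injective R.subtype_injective (congrArg Subtype.val h))
      · rintro ⟨Q, hQR, hQc⟩
        refine ⟨Sylow.ofCard (Q.subgroupOf R) ?_, Subtype.ext ?_⟩
        · rw [Nat.card_congr (Subgroup.subgroupOfEquivOfLe hQR).toEquiv, hQc]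
        · simp only [Sylow.coe_ofCard, Subgroup.map_subgroupOf_eq_of_le hQR]
    have h𝒬N : 𝒬.card ∣ N := by
      rw [hcard𝒬]
      exact (Sylow.card_dvd_index default).trans (Subgroup.index_dvd_card _)
    obtain ⟨Q, hQ⟩ : 𝒬.Nonempty := by
      rw [← Finset.card_pos, hcard𝒬]
      exact Nat.card_pos
    have hQ' := hQ
    simp only [𝒬, Finset.mem_filter, Finset.mem_univ, true_and] at hQ'
    -- central elements
    let cen : Subgroup G → G → Prop := fun Q' y => y ∈ Q' ∧ ∀ q ∈ Q', q * y = y * q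
    have hQp : IsPGroup p Q := IsPGroup.of_card hQ'.2
    have hQne : Nontrivial Q := by
      rw [← Finite.one_lt_card_iff_nontrivial, hQ'.2]
      exact Nat.one_lt_pow (Nat.Prime.factorization_pos_of_dvd hp (by omega) hpN).ne' hp.one_lt
    have := hQp.center_nontrivial
    obtain ⟨⟨⟨z, hzQ⟩, hzc⟩, hz1⟩ := exists_ne (1 : Subgroup.center Q)
    have hzc' : cen Q z := ⟨hzQ, fun q hq =>
      congrArg Subtype.val (Subgroup.mem_center_iff.1 hzc ⟨q, hq⟩)⟩
    have hz1' : z ≠ 1 := fun h => hz1 (Subtype.ext (Subtype.ext h))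
    let Y : Finset G := (univ.filter fun h : G => h ∈ d.H).image fun h => h * z * h⁻¹
    have hYmem : ∀ y, y ∈ Y ↔ ∃ h ∈ d.H, h * z * h⁻¹ = y := fun y => by simp [Y]
    have hYR : ∀ y ∈ Y, y ∈ R ∧ y ≠ 1 := by
      intro y hy
      obtain ⟨h, hh, rfl⟩ := (hYmem y).1 hy
      exact ⟨hR.norm h hh z (hQ'.1 hzQ), fun h1 => hz1' (conj_eq_one_iff.1 h1)⟩
    have hYinv : ∀ h ∈ d.H, ∀ y ∈ Y, h * y * h⁻¹ ∈ Y := by
      intro h hh y hy
      obtain ⟨h', hh', rfl⟩ := (hYmem y).1 hy
      exact (hYmem _).2 ⟨h * h', d.H.mul_mem hh hh', by group⟩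
    have hdvd : a ∣ Y.card := by
      have h := hR.count' Y hYR hYinv hC
      rw [hka, hlb] at h
      refine hab.dvd_of_dvd_mul_left ⟨(Y.filter fun y => y • C = C).card, ?_⟩
      apply Nat.eq_of_mul_eq_mul_right hg
      calc b * Y.card * g = b * g * Y.card := by ring
        _ = a * g * (Y.filter fun y => y • C = C).card := h
        _ = _ := by ring
    -- conjugation invariance of `𝒬` and `cen`
    have h𝒬conj : ∀ h ∈ d.H, ∀ Q' ∈ 𝒬, Q'.map (MulAut.conj h).toMonoidHom ∈ 𝒬 := by
      intro h hh Q' hQ''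
      simp only [𝒬, Finset.mem_filter, Finset.mem_univ, true_and] at hQ'' ⊢
      refine ⟨?_, ?_⟩
      · rintro _ ⟨q, hq, rfl⟩
        exact hR.norm h hh q (hQ''.1 hq)
      · rw [Subgroup.card_map_of_injective (MulAut.conj h).injective, hQ''.2]
    have hcenconj : ∀ (h : G) (Q' : Subgroup G) (y : G), cen Q' y →
        cen (Q'.map (MulAut.conj h).toMonoidHom) (h * y * h⁻¹) := by
      rintro h Q' y ⟨h1, h2⟩
      refine ⟨⟨y, h1, rfl⟩, ?_⟩
      rintro _ ⟨q, hq, rfl⟩
      show h * q * h⁻¹ * (h * y * h⁻¹) = h * y * h⁻¹ * (h * q * h⁻¹)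
      calc h * q * h⁻¹ * (h * y * h⁻¹) = h * (q * y) * h⁻¹ := by group
        _ = _ := by rw [h2 q hq]; group
    have hmapinv : ∀ (h : G) (Q' : Subgroup G),
        (Q'.map (MulAut.conj h⁻¹).toMonoidHom).map (MulAut.conj h).toMonoidHom = Q' := by
      intro h Q'
      rw [Subgroup.map_map]
      convert Subgroup.map_id Q'
      ext x
      simp [mul_assoc]
    have hA : ∀ y ∈ Y, (𝒬.filter fun Q' => cen Q' y).card =
        (𝒬.filter fun Q' => cen Q' z).card := by
      intro y hy
      obtain ⟨h, hh, rfl⟩ := (hYmem y).1 hy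
      refine Finset.card_bij' (fun Q' _ => Q'.map (MulAut.conj h⁻¹).toMonoidHom)
        (fun Q' _ => Q'.map (MulAut.conj h).toMonoidHom) ?_ ?_ ?_ ?_
      · intro Q' hQ''
        rw [Finset.mem_filter] at hQ'' ⊢
        refine ⟨h𝒬conj _ (d.H.inv_mem hh) _ hQ''.1, ?_⟩
        simpa [mul_assoc] using hcenconj h⁻¹ _ _ hQ''.2
      · intro Q' hQ''
        rw [Finset.mem_filter] at hQ'' ⊢
        exact ⟨h𝒬conj _ hh _ hQ''.1, hcenconj h _ _ hQ''.2⟩
      · exact fun Q' _ => hmapinv h Q'
      · intro Q' _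
        simpa using hmapinv h⁻¹ Q'
    have hB : ∀ Q' ∈ 𝒬, (Y.filter fun y => cen Q' y).card = (Y.filter fun y => cen Q y).card := by
      intro Q' hQ''
      simp only [𝒬, Finset.mem_filter, Finset.mem_univ, true_and] at hQ''
      obtain ⟨r, hr⟩ := MulAction.exists_smul_eq R
        (Sylow.ofCard (Q.subgroupOf R) (by
          rw [Nat.card_congr (Subgroup.subgroupOfEquivOfLe hQ'.1).toEquiv, hQ'.2]) : Sylow p R)
        (Sylow.ofCard (Q'.subgroupOf R) (by
          rw [Nat.card_congr (Subgroup.subgroupOfEquivOfLe hQ''.1).toEquiv, hQ''.2]) : Sylow p R)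
      have hr' : Q.map (MulAut.conj (r : G)).toMonoidHom = Q' := by
        have h1 := congrArg (fun S : Sylow p R => (S : Subgroup R).map R.subtype) hr
        simp only [Sylow.coe_subgroup_smul, Sylow.coe_ofCard, Subgroup.map_subgroupOf_eq_of_le hQ''.1] at h1
        rw [← h1]
        ext x
        simp only [Subgroup.mem_map, Subgroup.pointwise_smul_def]
        constructor
        · rintro ⟨q, hq, rfl⟩
          exact ⟨r * ⟨q, hQ'.1 hq⟩ * r⁻¹, ⟨⟨q, hQ'.1 hq⟩, hq, rfl⟩, rfl⟩
        · rintro ⟨_, ⟨q, hq, rfl⟩, rfl⟩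
          exact ⟨(q : G), hq, rfl⟩
      have hrH : (r : G) ∈ d.H := hR.le_H r.2
      refine Finset.card_bij' (fun y _ => (r : G)⁻¹ * y * r) (fun y _ => r * y * (r : G)⁻¹)
        ?_ ?_ ?_ ?_
      · intro y hy
        rw [Finset.mem_filter] at hy ⊢
        refine ⟨by simpa using hYinv _ (d.H.inv_mem hrH) y hy.1, ?_⟩
        have h1 := hcenconj (r : G)⁻¹ _ _ hy.2
        rw [← hr'] at h1
        have h2 := hmapinv (r : G)⁻¹ Q
        rw [inv_inv] at h2
        rw [h2, inv_inv] at h1
        exact h1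
      · intro y hy
        rw [Finset.mem_filter] at hy ⊢
        exact ⟨hYinv _ hrH y hy.1, hr' ▸ hcenconj _ _ _ hy.2⟩
      · intro y _; group
      · intro y _; group
    have hdc : Y.card * (𝒬.filter fun Q' => cen Q' z).card =
        𝒬.card * (Y.filter fun y => cen Q y).card := by
      have h : ∑ y ∈ Y, (𝒬.filter fun Q' => cen Q' y).card =
          ∑ Q' ∈ 𝒬, (Y.filter fun y => cen Q' y).card := by
        simp only [Finset.card_filter]
        exact Finset.sum_comm
      rwa [Finset.sum_congr rfl hA, Finset.sum_congr rfl hB, Finset.sum_const, Finset.sum_const,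
        smul_eq_mul, smul_eq_mul] at h
    have hdvd2 : a ∣ (Y.filter fun y => cen Q y).card :=
      (Nat.Coprime.coprime_dvd_right h𝒬N hcop).dvd_of_dvd_mul_left
        (hdc ▸ hdvd.mul_right _)
    have hpos : 0 < (Y.filter fun y => cen Q y).card := Finset.card_pos.2
      ⟨z, Finset.mem_filter.2 ⟨(hYmem z).2 ⟨1, d.H.one_mem, by simp⟩, hzc'⟩⟩
    have hlt : (Y.filter fun y => cen Q y).card < p ^ v := by
      rw [← hQ'.2, Nat.card_eq_fintype_card, Fintype.card_subtype]
      refine Finset.card_lt_card (Finset.ssubset_iff_of_subset ?_ |>.2 ⟨1, by simp [Q.one_mem], ?_⟩)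
      · intro y hy
        simpa using (Finset.mem_filter.1 hy).2.1
      · intro h1
        exact (hYR 1 (Finset.mem_filter.1 h1).1).2 rfl
    exact lt_of_le_of_lt (Nat.le_of_dvd hpos hdvd2) hlt
  obtain ⟨p, hp, hpN⟩ := Nat.exists_prime_and_dvd (show N ≠ 1 by omega)
  refine ⟨p, hp, ?_⟩
  have hN0 : N ≠ 0 := by omega
  have hall : ∀ r, r.Prime → r ∣ N → r = p := by
    intro r hr hrN
    by_contra hne'
    have h1 := key p hp hpN
    have h2 := key r hr hrN
    have hdiv : p ^ N.factorization p * r ^ N.factorization r ∣ N :=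
      Nat.Coprime.mul_dvd_of_dvd_of_dvd
        (Nat.Coprime.pow _ _ ((Nat.coprime_primes hp hr).2 (Ne.symm hne')))
        (Nat.ordProj_dvd N p) (Nat.ordProj_dvd N r)
    have h3 := Nat.le_of_dvd (by omega) hdiv
    have h4 : a * a < p ^ N.factorization p * r ^ N.factorization r :=
      Nat.mul_lt_mul_of_lt_of_lt h1 h2
    omega
  exact IsPGroup.of_card
    (Nat.eq_prime_pow_of_unique_prime_dvd hN0 fun hq hqN => hall _ hq hqN)

end Datum

end Cfsg.Agent.SymDesign
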