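import Mathlib.GroupTheory.GroupAction.MultipleTransitivity
import Mathlib.GroupTheory.GroupAction.Quotient
import Mathlib.Data.Set.Card
import Mathlib.Algebra.Group.Pointwise.Set.Finite
import Mathlib.GroupTheory.Index
import Mathlib.Tactic.LinearCombination

/-!
# The symmetric design of a 2-transitive group with a second subgroup of index the degree

If `H` has index `n` in a group which is 2-transitive on `n` points and has exactly two orbits,
the translates of one orbit form a symmetric design, indexed by `G ⧸ H`.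
-/

set_option autoImplicit false
set_option linter.unusedSectionVars false

namespace Cfsg.Agent.SymDesign

open MulAction Finset
open scoped Pointwise

section Orbit

variable {G α : Type*} [Group G] [MulAction G α] [Fintype α] [Finite G]

/-- The orders of the stabilisers along one orbit sum to the order of the group. -/
theorem sum_card_stab_orbit (X : Subgroup G) (x : α) [DecidablePred (· ∈ orbit X x)] :
    ∑ y ∈ univ.filter (fun y => y ∈ orbit X x), Nat.card (stabilizer X y) = Nat.card X := by
  have h : ∀ y ∈ univ.filter (fun y => y ∈ orbit X x),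
      Nat.card (stabilizer X y) = Nat.card (stabilizer X x) := by
    intro y hy
    simp only [Finset.mem_filter, Finset.mem_univ, true_and] at hy
    obtain ⟨g, rfl⟩ := hy
    exact Nat.card_congr (stabilizerEquivStabilizer rfl).symm.toEquiv
  rw [Finset.sum_congr rfl h, Finset.sum_const, smul_eq_mul,
    ← (stabilizer X x).card_mul_index, index_stabilizer, mul_comm]
  congr 1
  rw [Set.ncard_eq_toFinset_card', Set.toFinset]
  simp

end Orbit

variable (G Ω : Type*) [Group G] [MulAction G Ω]

/-- A 2-transitive group, a subgroup of index the degree, and one of its two orbits. -/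
structure Datum where
  /-- The second subgroup of index the degree. -/
  H : Subgroup G
  /-- One of its orbits. -/
  B : Set Ω
  /-- A point of this orbit. -/
  a : Ω
  h2 : ∀ {w x y z : Ω}, w ≠ x → y ≠ z → ∃ g : G, g • w = y ∧ g • x = z
  idx : H.index = Nat.card Ω
  hB : B = orbit H a
  trans_compl : ∀ x y, x ∉ B → y ∉ B → ∃ h ∈ H, h • x = y
  two_le : 2 ≤ B.ncard
  two_le_compl : 2 ≤ Bᶜ.ncard

variable {G Ω} [Finite G] [Finite Ω] (d : Datum G Ω)

namespace Datum

theorem a_mem : d.a ∈ d.B := d.hB ▸ mem_orbit_self _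

theorem smul_B {h : G} (hh : h ∈ d.H) : h • d.B = d.B := by
  rw [d.hB]
  exact smul_orbit (⟨h, hh⟩ : d.H) d.a

theorem smul_mem_B_iff {h : G} (hh : h ∈ d.H) {x : Ω} : h • x ∈ d.B ↔ x ∈ d.B := by
  conv_lhs => rw [← d.smul_B hh]
  exact Set.smul_mem_smul_set_iff

theorem trans_B {x y : Ω} (hx : x ∈ d.B) (hy : y ∈ d.B) : ∃ h ∈ d.H, h • x = y := by
  rw [d.hB] at hx hy
  rw [← orbit_eq_iff.2 hx] at hy
  obtain ⟨⟨h, hh⟩, rfl⟩ := hy
  exact ⟨h, hh, rfl⟩

/-- The size of a block. -/
noncomputable def k : ℕ := d.B.ncard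

/-- The number of points. -/
noncomputable def n (_d : Datum G Ω) : ℕ := Nat.card Ω

theorem card_compl : d.Bᶜ.ncard = d.n - d.k := by
  rw [Set.ncard_compl]
  rfl

theorem k_add_two_le : d.k + 2 ≤ d.n := by
  have h := d.two_le_compl
  have := Set.ncard_add_ncard_compl d.B
  unfold k n
  omega

include d in
theorem pretrans : IsPretransitive G Ω := by
  refine ⟨fun x y => ?_⟩
  rcases eq_or_ne x y with rfl | h
  · exact ⟨1, one_smul G x⟩
  · obtain ⟨g, hg, -⟩ := d.h2 h h.symm
    exact ⟨g, hg⟩

/-- The blocks: translates of the orbit, indexed by the cosets. -/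
def S (c : G ⧸ d.H) : Set Ω :=
  Quotient.liftOn' c (fun g => g • d.B) (by
    intro g g' h
    rw [QuotientGroup.leftRel_apply] at h
    show g • d.B = g' • d.B
    conv_rhs => rw [← mul_inv_cancel_left g g', mul_smul, d.smul_B h])

/-- The base block. -/
def o : G ⧸ d.H := ((1 : G) : G ⧸ d.H)

theorem S_mk (g : G) : d.S (g : G ⧸ d.H) = g • d.B := rfl

@[simp] theorem S_o : d.S d.o = d.B := by
  show (1 : G) • d.B = d.B
  rw [one_smul]

theorem S_smul (g : G) (c : G ⧸ d.H) : d.S (g • c) = g • d.S c := by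
  induction c using QuotientGroup.induction_on with
  | H a =>
    show (g * a) • d.B = g • a • d.B
    rw [mul_smul]

theorem smul_mem_S_iff (g : G) (x : Ω) (c : G ⧸ d.H) : g • x ∈ d.S (g • c) ↔ x ∈ d.S c := by
  rw [S_smul, Set.smul_mem_smul_set_iff]

theorem mem_S_smul_iff (g : G) (x : Ω) (c : G ⧸ d.H) : x ∈ d.S (g • c) ↔ g⁻¹ • x ∈ d.S c := by
  rw [S_smul, Set.mem_smul_set_iff_inv_smul_mem]

theorem ncard_S (c : G ⧸ d.H) : (d.S c).ncard = d.k := by
  induction c using QuotientGroup.induction_on with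
  | H a => rw [S_mk, Set.ncard_smul_set]; rfl

theorem smul_o_iff {g : G} : g • d.o = d.o ↔ g ∈ d.H := by
  show ((g * 1 : G) : G ⧸ d.H) = ((1 : G) : G ⧸ d.H) ↔ _
  rw [mul_one, QuotientGroup.eq]
  simp

theorem exists_smul_o (c : G ⧸ d.H) : ∃ g : G, g • d.o = c := by
  induction c using QuotientGroup.induction_on with
  | H a => exact ⟨a, congrArg _ (mul_one a)⟩

variable [Fintype Ω] [Fintype (G ⧸ d.H)]

theorem card_blk : Fintype.card (G ⧸ d.H) = d.n := by
  rw [← Nat.card_eq_fintype_card]
  exact d.idx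

theorem card_pts : Fintype.card Ω = d.n := Nat.card_eq_fintype_card.symm

open scoped Classical in
/-- The blocks through a point. -/
noncomputable def through (x : Ω) : Finset (G ⧸ d.H) := univ.filter fun c => x ∈ d.S c

@[simp] theorem mem_through {x : Ω} {c : G ⧸ d.H} : c ∈ d.through x ↔ x ∈ d.S c := by
  classical
  simp [through]

omit [Fintype (G ⧸ d.H)] in
open scoped Classical in
theorem card_S (c : G ⧸ d.H) : (univ.filter fun x => x ∈ d.S c).card = d.k := by
  rw [← d.ncard_S c, Set.ncard_eq_toFinset_card']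
  congr 1
  ext x
  simp

theorem card_through (x : Ω) : (d.through x).card = d.k := by
  classical
  have hconst : ∀ y, (d.through y).card = (d.through x).card := by
    intro y
    obtain ⟨g, rfl⟩ := d.pretrans.exists_smul_eq x y
    refine (Finset.card_equiv (MulAction.toPerm g) fun c => ?_).symm
    simp [smul_mem_S_iff]
  have h : ∑ y : Ω, (d.through y).card = Fintype.card (G ⧸ d.H) * d.k := by
    calc ∑ y : Ω, (d.through y).card
        = ∑ c : G ⧸ d.H, (univ.filter fun y => y ∈ d.S c).card := by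
          simp only [through, Finset.card_filter]
          exact Finset.sum_comm
      _ = _ := by simp [card_S]
  simp only [hconst, Finset.sum_const, Finset.card_univ, smul_eq_mul, d.card_blk, d.card_pts] at h
  exact Nat.eq_of_mul_eq_mul_left (by have := d.k_add_two_le; omega) h

/-- The number of blocks through two points. -/
noncomputable def lam : ℕ :=
  sInf {t | ∃ x y : Ω, x ≠ y ∧ (d.S ⁻¹' {s | x ∈ s ∧ y ∈ s}).ncard = t}

open scoped Classical in
theorem card_through_two {x y : Ω} (h : x ≠ y) :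
    (d.through x ∩ d.through y).card = d.lam := by
  classical
  have h1 : (d.through x ∩ d.through y).card = (d.S ⁻¹' {s | x ∈ s ∧ y ∈ s}).ncard := by
    rw [Set.ncard_eq_toFinset_card']
    congr 1
    ext c
    simp
  have h2 : d.lam ∈ {t | ∃ x y : Ω, x ≠ y ∧ (d.S ⁻¹' {s | x ∈ s ∧ y ∈ s}).ncard = t} :=
    Nat.sInf_mem ⟨_, x, y, h, rfl⟩
  obtain ⟨w, z, hwz, hw⟩ := h2
  obtain ⟨g, rfl, rfl⟩ := d.h2 hwz h
  rw [h1, ← hw]
  symm
  rw [← Set.ncard_image_of_injective _ (MulAction.injective g)]
  congr 1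
  ext c
  simp only [Set.mem_image, Set.mem_preimage, Set.mem_ofPred_eq]
  constructor
  · rintro ⟨c, ⟨h1, h2⟩, rfl⟩
    exact ⟨(d.smul_mem_S_iff g w c).2 h1, (d.smul_mem_S_iff g z c).2 h2⟩
  · rintro ⟨h1, h2⟩
    exact ⟨g⁻¹ • c, ⟨by rw [← d.smul_mem_S_iff g, smul_inv_smul]; exact h1,
      by rw [← d.smul_mem_S_iff g, smul_inv_smul]; exact h2⟩, smul_inv_smul g c⟩

theorem k_mul : d.k * (d.k - 1) = d.lam * (d.n - 1) := by
  classical
  have h1 : ∑ y ∈ univ.erase d.a, (d.through d.a ∩ d.through y).card =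
      (d.n - 1) * d.lam := by
    rw [Finset.sum_congr rfl fun y hy => d.card_through_two (Finset.mem_erase.1 hy).1.symm,
      Finset.sum_const, Finset.card_erase_of_mem (Finset.mem_univ _), Finset.card_univ,
      d.card_pts, smul_eq_mul]
  have h2 : ∀ y, (d.through d.a ∩ d.through y).card =
      ∑ c ∈ d.through d.a, if y ∈ d.S c then 1 else 0 := by
    intro y
    rw [← Finset.card_filter]
    congr 1
    ext c
    simp
  simp only [h2] at h1
  rw [Finset.sum_comm] at h1
  have h3 : ∀ c ∈ d.through d.a,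
      (∑ y ∈ univ.erase d.a, if y ∈ d.S c then 1 else 0) = d.k - 1 := by
    intro c hc
    rw [← Finset.card_filter, Finset.filter_erase, Finset.card_erase_of_mem (by simpa using hc),
      card_S]
  rw [Finset.sum_congr rfl h3, Finset.sum_const, d.card_through, smul_eq_mul] at h1
  rw [h1, mul_comm]

theorem lam_pos : 1 ≤ d.lam := by
  have h := d.k_mul
  have h1 : 2 ≤ d.k := d.two_le
  rcases Nat.eq_zero_or_pos d.lam with h0 | h0
  · rw [h0, zero_mul] at h
    rcases Nat.mul_eq_zero.1 h with h2 | h2 <;> omega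
  · exact h0

theorem lam_add_two_le : d.lam + 2 ≤ d.k := by
  have h := d.k_mul
  have h1 : 2 ≤ d.k := d.two_le
  have h2 := d.k_add_two_le
  by_contra hc
  have hle : d.k - 1 ≤ d.lam := by omega
  have h3 : d.k * (d.k - 1) < (d.n - 1) * (d.k - 1) :=
    Nat.mul_lt_mul_of_pos_right (by omega) (by omega)
  have h4 : (d.k - 1) * (d.n - 1) ≤ d.lam * (d.n - 1) := Nat.mul_le_mul_right _ hle
  rw [mul_comm (d.k - 1)] at h4
  omega

omit [Fintype (G ⧸ d.H)] in
theorem n_pos : 0 < d.n := by have := d.k_add_two_le; omega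

/-- The derived identity used throughout. -/
theorem k_sub_one_mul : (d.k - 1) * (d.k - d.lam) = d.lam * (d.n - d.k) := by
  have h := d.k_mul
  have h1 : 2 ≤ d.k := d.two_le
  have h2 := d.k_add_two_le
  have h3 := d.lam_add_two_le
  rw [Nat.mul_sub, mul_comm (d.k - 1) d.k, h, mul_comm (d.k - 1) d.lam, ← Nat.mul_sub]
  congr 1
  omega

/-- Two distinct blocks meet in `λ` points. -/
theorem card_inter {c e : G ⧸ d.H} (h : c ≠ e) : (d.S c ∩ d.S e).ncard = d.lam := by
  classical
  have hI : ∀ e, (d.S c ∩ d.S e).ncard =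
      ((univ.filter fun x => x ∈ d.S c).filter fun x => x ∈ d.S e).card := by
    intro e
    rw [Set.ncard_eq_toFinset_card']
    congr 1
    ext x
    simp
  set P := univ.filter fun x => x ∈ d.S c with hP
  have hPc : P.card = d.k := d.card_S c
  -- first moment
  have hm1 : ∑ e ∈ univ.erase c, ((P.filter fun x => x ∈ d.S e).card : ℤ) =
      d.k * ((d.k : ℤ) - 1) := by
    have : ∀ x ∈ P, ((univ.erase c).filter fun e => x ∈ d.S e).card = d.k - 1 := by
      intro x hx
      rw [Finset.filter_erase, Finset.card_erase_of_mem (by simpa [hP] using hx),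
        show univ.filter (fun e => x ∈ d.S e) = d.through x by ext; simp, d.card_through]
    have h' : ∑ e ∈ univ.erase c, (P.filter fun x => x ∈ d.S e).card = d.k * (d.k - 1) := by
      simp only [Finset.card_filter]
      rw [Finset.sum_comm]
      simp only [← Finset.card_filter]
      rw [Finset.sum_congr rfl this, Finset.sum_const, hPc, smul_eq_mul]
    have h1 : 1 ≤ d.k := le_trans (by norm_num) d.two_le
    have h'' := congrArg (Nat.cast : ℕ → ℤ) h'
    push_cast [Nat.cast_sub h1] at h''
    exact h''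
  -- second moment
  have hm2 : ∑ e ∈ univ.erase c, ((P.filter fun x => x ∈ d.S e).card : ℤ) ^ 2 =
      d.k * ((d.k : ℤ) - 1) + d.k * ((d.k : ℤ) - 1) * ((d.lam : ℤ) - 1) := by
    have hsq : ∀ e, ((P.filter fun x => x ∈ d.S e).card : ℤ) ^ 2 =
        ((P.filter fun x => x ∈ d.S e).card : ℤ) +
          ((P.filter fun x => x ∈ d.S e).offDiag.card : ℤ) := by
      intro e
      rw [Finset.offDiag_card, Nat.cast_sub (Nat.le_mul_self _)]
      push_cast
      ring
    have hoff : ∀ e, (P.filter fun x => x ∈ d.S e).offDiag =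
        P.offDiag.filter fun p => p.1 ∈ d.S e ∧ p.2 ∈ d.S e := by
      intro e
      ext p
      simp only [Finset.mem_offDiag, Finset.mem_filter]
      tauto
    have hcount : ∀ p ∈ P.offDiag,
        ((univ.erase c).filter fun e => p.1 ∈ d.S e ∧ p.2 ∈ d.S e).card = d.lam - 1 := by
      intro p hp
      simp only [hP, Finset.mem_offDiag, Finset.mem_filter, Finset.mem_univ, true_and] at hp
      rw [Finset.filter_erase, Finset.card_erase_of_mem (by simp [hp.1, hp.2.1])]
      rw [← d.card_through_two hp.2.2]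
      congr 2
      ext e
      simp
    have h' : ∑ e ∈ univ.erase c, (P.filter fun x => x ∈ d.S e).offDiag.card =
        P.offDiag.card * (d.lam - 1) := by
      simp only [hoff, Finset.card_filter]
      rw [Finset.sum_comm]
      simp only [← Finset.card_filter]
      rw [Finset.sum_congr rfl hcount, Finset.sum_const, smul_eq_mul]
    rw [Finset.sum_congr rfl fun e _ => hsq e, Finset.sum_add_distrib, hm1]
    congr 1
    rw [← Nat.cast_sum, h', Finset.offDiag_card, hPc, Nat.cast_mul,
      Nat.cast_sub (Nat.le_mul_self _), Nat.cast_sub d.lam_pos]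
    push_cast
    ring
  have hn : ((univ.erase c).card : ℤ) = (d.n : ℤ) - 1 := by
    rw [Finset.card_erase_of_mem (Finset.mem_univ _), Finset.card_univ, d.card_blk,
      Nat.cast_sub d.n_pos]
    simp
  have hkm : (d.k : ℤ) * ((d.k : ℤ) - 1) = (d.lam : ℤ) * ((d.n : ℤ) - 1) := by
    have h1 : 1 ≤ d.k := le_trans (by norm_num) d.two_le
    have := congrArg (Nat.cast : ℕ → ℤ) d.k_mul
    push_cast [Nat.cast_sub h1, Nat.cast_sub d.n_pos] at this
    exact this
  have hzero : ∑ e ∈ univ.erase c,
      (((P.filter fun x => x ∈ d.S e).card : ℤ) - d.lam) ^ 2 = 0 := by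
    simp only [sub_sq, Finset.sum_add_distrib, Finset.sum_sub_distrib]
    rw [hm2, ← Finset.sum_mul, ← Finset.mul_sum, hm1, Finset.sum_const, nsmul_eq_mul, hn]
    linear_combination (-(d.lam : ℤ)) * hkm
  have he := (Finset.sum_eq_zero_iff_of_nonneg fun e _ => sq_nonneg _).1 hzero e
    (Finset.mem_erase.2 ⟨h.symm, Finset.mem_univ _⟩)
  rw [sq_eq_zero_iff, sub_eq_zero] at he
  rw [hI e]
  exact_mod_cast he

theorem S_injective : Function.Injective d.S := by
  intro c e h
  by_contra hne
  have h1 := d.card_inter hne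
  rw [h, Set.inter_self, d.ncard_S] at h1
  have := d.lam_add_two_le
  omega

theorem mem_H_of_smul_B {g : G} (h : g • d.B = d.B) : g ∈ d.H := by
  refine d.smul_o_iff.1 (d.S_injective ?_)
  rw [d.S_smul, d.S_o, h]

/-- An element fixes as many blocks as points. -/
theorem card_fix [DecidableEq Ω] [DecidableEq (G ⧸ d.H)] (g : G) :
    (univ.filter fun x : Ω => g • x = x).card =
      (univ.filter fun c : G ⧸ d.H => g • c = c).card := by
  classical
  obtain ⟨δ, hδ⟩ : ∃ δ, d.k = d.lam + δ := ⟨d.k - d.lam, by have := d.lam_add_two_le; omega⟩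
  have hδ0 : 0 < δ := by have := d.lam_add_two_le; omega
  have hb : ∀ c : G ⧸ d.H, (univ.filter fun x => x ∈ d.S c ∧ x ∈ d.S (g • c)).card =
      d.lam + if g • c = c then δ else 0 := by
    intro c
    split_ifs with h
    · rw [h, ← hδ, ← d.card_S c]
      simp only [and_self]
    · rw [add_zero, ← d.card_inter (Ne.symm h), Set.ncard_eq_toFinset_card']
      congr 1
      ext x
      simp
  have hp : ∀ x : Ω, (univ.filter fun c => x ∈ d.S c ∧ x ∈ d.S (g • c)).card =
      d.lam + if g • x = x then δ else 0 := by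
    intro x
    simp only [d.mem_S_smul_iff g x]
    split_ifs with h
    · have h' : g⁻¹ • x = x := by rw [inv_smul_eq_iff, h]
      rw [h', ← hδ, ← d.card_through x]
      congr 1
      ext c
      simp
    · have h' : x ≠ g⁻¹ • x := fun hh => h (by
        conv_lhs => rw [hh]
        exact smul_inv_smul g x)
      rw [add_zero, ← d.card_through_two h']
      congr 1
      ext c
      simp
  have hcomm : ∑ c : G ⧸ d.H, (univ.filter fun x => x ∈ d.S c ∧ x ∈ d.S (g • c)).card =
      ∑ x : Ω, (univ.filter fun c => x ∈ d.S c ∧ x ∈ d.S (g • c)).card := by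
    simp only [Finset.card_filter]
    exact Finset.sum_comm
  simp only [hb, hp, Finset.sum_add_distrib, Finset.sum_const, Finset.card_univ, d.card_blk,
    d.card_pts, smul_eq_mul, add_right_inj, ← Finset.sum_filter] at hcomm
  exact (Nat.eq_of_mul_eq_mul_right hδ0 hcomm).symm

/-- Double counting of fixed points of a family of elements. -/
theorem sum_fix_eq {ι : Type*} [Fintype ι] [DecidableEq Ω] [DecidableEq (G ⧸ d.H)] (f : ι → G) :
    ∑ x : Ω, (univ.filter fun i => f i • x = x).card =
      ∑ c : G ⧸ d.H, (univ.filter fun i => f i • c = c).card := by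
  simp only [Finset.card_filter]
  rw [Finset.sum_comm]
  conv_rhs => rw [Finset.sum_comm]
  simp only [← Finset.card_filter, d.card_fix]

omit [Fintype Ω] [Fintype (G ⧸ d.H)] in
theorem card_stab_subgroup {α : Type*} [MulAction G α] (X : Subgroup G)
    [Fintype X] (x : α) [DecidablePred fun g : X => (g : G) • x = x] :
    (univ.filter fun g : X => (g : G) • x = x).card = Nat.card (stabilizer X x) := by
  rw [← Fintype.card_subtype, ← Nat.card_eq_fintype_card]
  exact Nat.card_congr (Equiv.subtypeEquivRight fun g => Iff.rfl)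

/-- A subgroup has equally large stabiliser sums on points and on blocks. -/
theorem sum_stab_eq (X : Subgroup G) :
    ∑ x : Ω, Nat.card (stabilizer X x) = ∑ c : G ⧸ d.H, Nat.card (stabilizer X c) := by
  classical
  have := Fintype.ofFinite X
  have h := d.sum_fix_eq (fun g : X => (g : G))
  have hx : ∀ x : Ω, _ = _ := fun x => card_stab_subgroup (G := G) X x
  have hc : ∀ c : G ⧸ d.H, _ = _ := fun c => card_stab_subgroup (G := G) X c
  simp only [hx, hc] at h
  exact h

/-- `H` is transitive on the other blocks. -/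
theorem trans_blk {c e : G ⧸ d.H} (hc : c ≠ d.o) (he : e ≠ d.o) : ∃ h ∈ d.H, h • c = e := by
  classical
  have hl : ∑ x : Ω, Nat.card (stabilizer d.H x) = 2 * Nat.card d.H := by
    obtain ⟨z, hz⟩ : ∃ z, z ∉ d.B := by
      by_contra hh
      push Not at hh
      have h := d.two_le_compl
      rw [Set.eq_univ_of_forall hh, Set.compl_univ, Set.ncard_empty] at h
      omega
    rw [← Finset.sum_filter_add_sum_filter_not univ (fun x => x ∈ d.B)]
    have h1 : univ.filter (fun x => x ∈ d.B) = univ.filter (fun y => y ∈ orbit d.H d.a) := by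
      rw [d.hB]
    have h2 : univ.filter (fun x => ¬ x ∈ d.B) = univ.filter (fun y => y ∈ orbit d.H z) := by
      refine Finset.filter_congr fun x _ => ⟨fun hx => ?_, ?_⟩
      · obtain ⟨h, hh, rfl⟩ := d.trans_compl z x hz hx
        exact ⟨⟨h, hh⟩, rfl⟩
      · rintro ⟨⟨h, hh⟩, rfl⟩
        exact fun hm => hz ((d.smul_mem_B_iff hh).1 hm)
    rw [h1, h2, sum_card_stab_orbit, sum_card_stab_orbit, two_mul]
  rw [d.sum_stab_eq, ← Finset.add_sum_erase _ _ (Finset.mem_univ d.o)] at hl
  have ho : Nat.card (stabilizer d.H d.o) = Nat.card d.H := by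
    have : stabilizer d.H d.o = ⊤ := by
      ext ⟨g, hg⟩
      simp only [mem_stabilizer_iff, Subgroup.mem_top, iff_true]
      exact d.smul_o_iff.2 hg
    rw [this, Subgroup.card_top]
  rw [ho, two_mul, add_right_inj] at hl
  have hsub : univ.filter (fun y => y ∈ orbit d.H c) ⊆ univ.erase d.o := by
    intro y hy
    simp only [Finset.mem_filter, Finset.mem_univ, true_and] at hy
    obtain ⟨⟨h, hh⟩, rfl⟩ := hy
    refine Finset.mem_erase.2 ⟨fun heq => hc ?_, Finset.mem_univ _⟩
    have heq' : h • c = d.o := heq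
    rw [← inv_smul_smul h c, heq', d.smul_o_iff.2 (d.H.inv_mem hh)]
  by_contra hno
  have hnot : e ∉ univ.filter (fun y => y ∈ orbit d.H c) := by
    simp only [Finset.mem_filter, Finset.mem_univ, true_and]
    rintro ⟨⟨h, hh⟩, hhe⟩
    exact hno ⟨h, hh, hhe⟩
  have hlt := Finset.sum_lt_sum_of_subset hsub (Finset.mem_erase.2 ⟨he, Finset.mem_univ _⟩) hnot
    (f := fun y => Nat.card (stabilizer d.H y)) Nat.card_pos (fun _ _ _ => Nat.zero_le _)
  exact lt_irrefl _ (lt_of_eq_of_lt (sum_card_stab_orbit d.H c).symm (hlt.trans_eq hl))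

/-- The group is 2-transitive on blocks. -/
theorem two_trans_blk {c c' e e' : G ⧸ d.H} (hc : c ≠ c') (he : e ≠ e') :
    ∃ g : G, g • c = e ∧ g • c' = e' := by
  obtain ⟨g, hg⟩ := d.exists_smul_o c
  obtain ⟨g', hg'⟩ := d.exists_smul_o e
  have h1 : g⁻¹ • c' ≠ d.o := fun h => hc (by rw [← hg, ← h, smul_inv_smul])
  have h2 : g'⁻¹ • e' ≠ d.o := fun h => he (by rw [← hg', ← h, smul_inv_smul])
  obtain ⟨h, hh, he'⟩ := d.trans_blk h1 h2
  refine ⟨g' * h * g⁻¹, ?_, ?_⟩
  · rw [mul_smul, mul_smul, ← hg, inv_smul_smul, d.smul_o_iff.2 hh, hg']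
  · rw [mul_smul, mul_smul, he', smul_inv_smul]

end Datum

end Cfsg.Agent.SymDesign
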