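import Cfsg.Agent.Lib.SymDesign.Spread
import Mathlib.LinearAlgebra.Dual.Lemmas
import Mathlib.RingTheory.LittleWedderburn
import Mathlib.FieldTheory.Finite.Basic
import Mathlib.Algebra.Ring.TransferInstance
import Mathlib.Algebra.Field.TransferInstance

/-!
# The field of a family of subspaces with all transvections
-/

set_option autoImplicit false
set_option linter.unusedSectionVars false
set_option linter.style.haveILetI false

namespace Cfsg.Agent.SymDesign

open Module

variable {p : ℕ} [Fact p.Prime] {V : Type*} [AddCommGroup V] [Module (ZMod p) V] [Finite V]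

/-- A family of subspaces of index `e`, one in each hyperplane, with all transvections along
each member. -/
structure Family (e : ℕ) (𝓛 : Set (Submodule (ZMod p) V)) : Prop where
  card : ∀ L ∈ 𝓛, Nat.card L * e = Nat.card V
  big : e * e < Nat.card V
  two_le : 2 ≤ e
  exists_le : ∀ W : Submodule (ZMod p) V, p * Nat.card W = Nat.card V → ∃ L ∈ 𝓛, L ≤ W
  unique : ∀ W : Submodule (ZMod p) V, p * Nat.card W = Nat.card V →
    ∀ L ∈ 𝓛, ∀ L' ∈ 𝓛, L ≤ W → L' ≤ W → L = L'
  transv : ∀ L ∈ 𝓛, ∃ T : Set (V →ₗ[ZMod p] V), (0 ∈ T) ∧ (∀ a ∈ T, ∀ b ∈ T, a + b ∈ T) ∧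
    (∀ τ ∈ T, ∀ v ∈ L, τ v = 0) ∧ (∀ τ ∈ T, ∀ v, τ v ∈ L) ∧
    (∀ τ ∈ T, ∀ L' ∈ 𝓛, L'.comap (LinearMap.id + τ) ∈ 𝓛) ∧
    ∀ q ∉ L, ∀ l ∈ L, ∃ τ ∈ T, τ q = l

theorem natCard_dual (W : Type*) [AddCommGroup W] [Module (ZMod p) W] [Finite W] :
    Nat.card (Dual (ZMod p) W) = Nat.card W := by
  classical
  exact (Nat.card_congr (Module.finBasis (ZMod p) W).toDualEquiv.toEquiv).symm

instance finite_dual : Finite (Dual (ZMod p) V) :=
  Finite.of_injective _ DFunLike.coe_injective

theorem natCard_ker {g : Dual (ZMod p) V} (hg : g ≠ 0) :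
    p * Nat.card (LinearMap.ker g) = Nat.card V := by
  rw [Submodule.card_eq_card_quotient_mul_card (LinearMap.ker g),
    Nat.card_congr (g.quotKerEquivOfSurjective (g.surjective_of_ne_zero hg)).toEquiv, Nat.card_zmod,
    mul_comm]

variable {e : ℕ} {𝓛 : Set (Submodule (ZMod p) V)}

theorem Family.card_ann (hF : Family e 𝓛) {L : Submodule (ZMod p) V} (hL : L ∈ 𝓛) :
    Nat.card L.dualAnnihilator = e := by
  have : Finite (V ⧸ L) := Finite.of_surjective _ L.mkQ_surjective
  rw [← Nat.card_congr L.dualQuotEquivDualAnnihilator.toEquiv, natCard_dual]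
  have h := hF.card L hL
  rw [Submodule.card_eq_card_quotient_mul_card L, mul_comm (Nat.card L)] at h
  rw [mul_comm (Nat.card L)] at h
  exact (Nat.eq_of_mul_eq_mul_right Nat.card_pos h).symm

open scoped Classical in
/-- The subspace in the kernel of a functional. -/
noncomputable def Family.sub (hF : Family e 𝓛) (g : Dual (ZMod p) V) : Submodule (ZMod p) V :=
  if h : g = 0 then ⊤
  else (hF.exists_le (LinearMap.ker g) (natCard_ker h)).choose

theorem Family.sub_mem (hF : Family e 𝓛) {g : Dual (ZMod p) V} (h : g ≠ 0) : hF.sub g ∈ 𝓛 := by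
  rw [Family.sub, dif_neg h]
  exact (hF.exists_le (LinearMap.ker g) (natCard_ker h)).choose_spec.1

theorem Family.sub_le (hF : Family e 𝓛) (g : Dual (ZMod p) V) : hF.sub g ≤ LinearMap.ker g := by
  rcases eq_or_ne g 0 with rfl | h
  · simp
  rw [Family.sub, dif_neg h]
  exact (hF.exists_le (LinearMap.ker g) (natCard_ker h)).choose_spec.2

theorem Family.sub_eq (hF : Family e 𝓛) {g : Dual (ZMod p) V} (h : g ≠ 0)
    {L : Submodule (ZMod p) V} (hL : L ∈ 𝓛) (hg : g ∈ L.dualAnnihilator) : hF.sub g = L :=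
  hF.unique _ (natCard_ker h) _ (hF.sub_mem h) _ hL (hF.sub_le g)
    fun v hv => (Submodule.mem_dualAnnihilator g).1 hg v hv

/-- The component of a functional. -/
noncomputable def Family.comp (hF : Family e 𝓛) (g : Dual (ZMod p) V) :
    AddSubgroup (Dual (ZMod p) V) :=
  (hF.sub g).dualAnnihilator.toAddSubgroup

theorem Family.mem_comp (hF : Family e 𝓛) {g f : Dual (ZMod p) V} :
    f ∈ hF.comp g ↔ ∀ v ∈ hF.sub g, f v = 0 := by
  simp [Family.comp, Submodule.mem_dualAnnihilator]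

/-- The plane property. -/
theorem Family.comp_plane (hF : Family e 𝓛) (y z u : Dual (ZMod p) V)
    (hu : u ∈ hF.comp y ⊔ hF.comp z) (hu0 : u ≠ 0) : hF.comp u ≤ hF.comp y ⊔ hF.comp z := by
  obtain ⟨a₁, ha₁, a₂, ha₂, rfl⟩ := AddSubgroup.mem_sup.1 hu
  rcases eq_or_ne a₁ 0 with rfl | h1
  · rw [zero_add] at hu0 ⊢
    refine le_trans (le_of_eq ?_) le_sup_right
    rcases eq_or_ne z 0 with rfl | hz
    · exact absurd (LinearMap.ext fun v =>
        hF.mem_comp.1 ha₂ v (by simp [Family.sub])) hu0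
    rw [Family.comp, Family.comp, hF.sub_eq hu0 (hF.sub_mem hz) ha₂]
  rcases eq_or_ne a₂ 0 with rfl | h2
  · rw [add_zero] at hu0 ⊢
    refine le_trans (le_of_eq ?_) le_sup_left
    rcases eq_or_ne y 0 with rfl | hy
    · exact absurd (LinearMap.ext fun v =>
        hF.mem_comp.1 ha₁ v (by simp [Family.sub])) h1
    rw [Family.comp, Family.comp, hF.sub_eq hu0 (hF.sub_mem hy) ha₁]
  have hy : y ≠ 0 := by
    rintro rfl
    exact h1 (LinearMap.ext fun v => hF.mem_comp.1 ha₁ v (by simp [Family.sub]))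
  have hz : z ≠ 0 := by
    rintro rfl
    exact h2 (LinearMap.ext fun v => hF.mem_comp.1 ha₂ v (by simp [Family.sub]))
  set L₁ := hF.sub y with hL₁
  set L₂ := hF.sub z with hL₂
  by_cases h12 : L₁ = L₂
  · refine le_trans (le_of_eq ?_) le_sup_left
    rw [Family.comp, Family.comp, ← hL₁, hF.sub_eq hu0 (hF.sub_mem hy)]
    exact Submodule.add_mem _ ha₁ (by rw [hL₁.symm.trans h12]; exact ha₂)
  -- every element of the first component is `a₂ ∘ τ`
  obtain ⟨T, hT0, hTadd, hTker, hTim, hTcomap, hTsurj⟩ := hF.transv L₁ (hF.sub_mem hy)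
  let R : Submodule (ZMod p) (Dual (ZMod p) V) :=
    { carrier := {f | ∃ τ ∈ T, a₂.comp τ = f}
      zero_mem' := ⟨0, hT0, LinearMap.comp_zero _⟩
      add_mem' := by
        rintro _ _ ⟨τ, hτ, rfl⟩ ⟨τ', hτ', rfl⟩
        exact ⟨τ + τ', hTadd τ hτ τ' hτ', LinearMap.comp_add _ _ _⟩
      smul_mem' := by
        rintro c _ ⟨τ, hτ, rfl⟩
        have hn : ∀ n : ℕ, n • τ ∈ T := by
          intro n
          induction n with
          | zero => simpa using hT0
          | succ n ih => rw [succ_nsmul]; exact hTadd _ ih τ hτ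
        refine ⟨c.val • τ, hn _, ?_⟩
        rw [← Nat.cast_smul_eq_nsmul (ZMod p), ZMod.natCast_zmod_val, LinearMap.comp_smul] }
  have hRle : R ≤ L₁.dualAnnihilator := by
    rintro _ ⟨τ, hτ, rfl⟩
    rw [Submodule.mem_dualAnnihilator]
    intro v hv
    rw [LinearMap.comp_apply, hTker τ hτ v hv, map_zero]
  have hRann : R = L₁.dualAnnihilator := by
    refine le_antisymm hRle ?_
    have hco : R.dualCoannihilator ≤ L₁ := by
      intro q hq
      by_contra hqL
      have ha₂L : a₂ ∈ L₁.dualAnnihilator := by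
        rw [Submodule.mem_dualAnnihilator]
        intro l hl
        obtain ⟨τ, hτ, rfl⟩ := hTsurj q hqL l hl
        exact (Submodule.mem_dualCoannihilator q).1 hq _ ⟨τ, hτ, rfl⟩
      exact h12 ((hF.sub_eq h2 (hF.sub_mem hy) ha₂L).symm.trans
        (hF.sub_eq h2 (hF.sub_mem hz) ha₂))
    have h := Submodule.dualAnnihilator_anti hco
    rwa [Subspace.dualCoannihilator_dualAnnihilator_eq] at h
  have ha₁R : a₁ ∈ R := by rw [hRann]; exact ha₁
  obtain ⟨τ, hτ, hτa⟩ := ha₁R
  have hL' : L₂.comap (LinearMap.id + τ) ∈ 𝓛 := hTcomap τ hτ L₂ (hF.sub_mem hz)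
  have hsub : hF.sub (a₁ + a₂) = L₂.comap (LinearMap.id + τ) := by
    refine hF.sub_eq hu0 hL' ?_
    rw [Submodule.mem_dualAnnihilator]
    intro v hv
    rw [← hτa, LinearMap.add_apply, LinearMap.comp_apply, add_comm, ← map_add]
    exact hF.mem_comp.1 ha₂ _ hv
  intro f hf
  rw [hF.mem_comp, hsub] at hf
  set h := f - f.comp τ with hh
  have hττ : ∀ v, τ (τ v) = 0 := fun v => hTker τ hτ _ (hTim τ hτ v)
  have hh2 : h ∈ hF.comp z := by
    rw [hF.mem_comp]
    intro v hv
    have h3 := hf (v - τ v) (by simp [hττ, hL₂, hv])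
    simpa [hh] using h3
  have hh1 : h.comp τ ∈ hF.comp y := by
    rw [hF.mem_comp]
    intro v hv
    rw [LinearMap.comp_apply, hTker τ hτ v hv, map_zero]
  have hsum : f = h.comp τ + h := by
    ext v
    simp [hh, hττ]
  rw [hsum]
  exact AddSubgroup.add_mem _ (AddSubgroup.mem_sup_left hh1) (AddSubgroup.mem_sup_right hh2)

theorem Family.spread (hF : Family e 𝓛) : Spread e hF.comp where
  mem y := hF.mem_comp.2 fun v hv => hF.sub_le y hv
  eq_of_mem y z hz hz0 := by
    rcases eq_or_ne y 0 with rfl | hy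
    · exact absurd (LinearMap.ext fun v => hF.mem_comp.1 hz v (by simp [Family.sub])) hz0
    rw [Family.comp, Family.comp, hF.sub_eq hz0 (hF.sub_mem hy) hz]
  card y hy := hF.card_ann (hF.sub_mem hy)
  plane := hF.comp_plane
  third y z := by
    intro htop
    have h1 : Nat.card ↥(hF.comp y ⊔ hF.comp z) ≤ Nat.card (hF.comp y) * Nat.card (hF.comp z) := by
      rw [← Nat.card_prod]
      refine Nat.card_le_card_of_surjective
        (fun a => ⟨a.1 + a.2, AddSubgroup.mem_sup.2 ⟨a.1, a.1.2, a.2, a.2.2, rfl⟩⟩) ?_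
      rintro ⟨w, hw⟩
      obtain ⟨b, hb, c, hc, rfl⟩ := AddSubgroup.mem_sup.1 hw
      exact ⟨(⟨b, hb⟩, ⟨c, hc⟩), rfl⟩
    have hle : ∀ y, Nat.card (hF.comp y) ≤ e ∨ hF.comp y = ⊥ := by
      intro y
      rcases eq_or_ne y 0 with rfl | hy
      · refine Or.inr ((AddSubgroup.eq_bot_iff_forall _).2 fun f hf => ?_)
        exact LinearMap.ext fun v => hF.mem_comp.1 hf v (by simp [Family.sub])
      · exact Or.inl (hF.card_ann (hF.sub_mem hy)).le
    have hV : Nat.card ↥(hF.comp y ⊔ hF.comp z) = Nat.card V := by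
      rw [htop, AddSubgroup.card_top, natCard_dual]
    have hb := hF.big
    have he : 1 ≤ e := le_trans one_le_two hF.two_le
    have hbd : ∀ y, Nat.card (hF.comp y) ≤ e := fun y => by
      rcases hle y with h | h
      · exact h
      · rw [h, AddSubgroup.card_bot]; exact he
    have := Nat.mul_le_mul (hbd y) (hbd z)
    omega
  zero := (AddSubgroup.eq_bot_iff_forall _).2 fun f hf =>
    LinearMap.ext fun v => hF.mem_comp.1 hf v (by simp [Family.sub])

theorem Family.exists_sub (hF : Family e 𝓛) {L : Submodule (ZMod p) V} (hL : L ∈ 𝓛) :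
    ∃ g : Dual (ZMod p) V, g ≠ 0 ∧ hF.sub g = L := by
  have : Nontrivial L.dualAnnihilator := by
    rw [← Finite.one_lt_card_iff_nontrivial, hF.card_ann hL]
    exact hF.two_le
  obtain ⟨⟨g, hg⟩, hne⟩ := exists_ne (0 : L.dualAnnihilator)
  have hg0 : g ≠ 0 := fun h => hne (Subtype.ext h)
  exact ⟨g, hg0, hF.sub_eq hg0 hL hg⟩

/-- The ring of maps preserving every member. -/
def stabEnd (𝓛 : Set (Submodule (ZMod p) V)) : Subring (Module.End (ZMod p) V) where
  carrier := {ψ | ∀ L ∈ 𝓛, ∀ v ∈ L, ψ v ∈ L}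
  zero_mem' := fun L _ _ _ => L.zero_mem
  one_mem' := fun _ _ _ hv => hv
  add_mem' := fun {a b} ha hb L hL v hv => L.add_mem (ha L hL v hv) (hb L hL v hv)
  neg_mem' := fun {a} ha L hL v hv => L.neg_mem (ha L hL v hv)
  mul_mem' := fun {a b} ha hb L hL v hv => ha L hL _ (hb L hL v hv)

/-- The members are invariant under a field with `e` elements. -/
theorem Family.exists_field (hF : Family e 𝓛) :
    ∃ (F : Type) (_ : Field F) (_ : Fintype F) (f : F →+* Module.End (ZMod p) V),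
      Fintype.card F = e ∧ ∀ a, ∀ L ∈ 𝓛, ∀ v ∈ L, f a v ∈ L := by
  classical
  have hS := hF.spread
  have hdual : ∀ ψ ∈ stabEnd 𝓛, ∀ y : Dual (ZMod p) V, ψ.dualMap y ∈ hF.comp y := by
    intro ψ hψ y
    rw [hF.mem_comp]
    intro v hv
    rw [LinearMap.dualMap_apply]
    rcases eq_or_ne y 0 with rfl | hy
    · rfl
    · exact hF.sub_le y (hψ _ (hF.sub_mem hy) v hv)
  obtain ⟨g₀, hg₀⟩ : ∃ g : Dual (ZMod p) V, g ≠ 0 := by
    by_contra hh
    push Not at hh
    refine hS.third 0 0 ((AddSubgroup.eq_top_iff' _).2 fun y => ?_)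
    rw [hh y]
    exact zero_mem _
  -- evaluation at `g₀`
  let ev : stabEnd 𝓛 → hF.comp g₀ := fun ψ => ⟨ψ.1.dualMap g₀, hdual ψ.1 ψ.2 g₀⟩
  have hzero : ∀ ψ ∈ stabEnd 𝓛, ∀ y : Dual (ZMod p) V, y ≠ 0 → ψ.dualMap y = 0 → ψ = 0 := by
    intro ψ hψ y hy hψy
    have h := hS.eq_zero_of_apply (φ := ψ.dualMap.toAddMonoidHom) (hdual ψ hψ) hy hψy
    refine LinearMap.ext fun v => (Module.forall_dual_apply_eq_zero_iff (ZMod p) _).1 fun g => ?_
    have h' := LinearMap.congr_fun (DFunLike.congr_fun h g) v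
    simpa using h'
  have hev : Function.Bijective ev := by
    constructor
    · intro ψ ψ' h
      have h' : ψ.1.dualMap g₀ = ψ'.1.dualMap g₀ := congrArg Subtype.val h
      refine Subtype.ext (sub_eq_zero.1 (hzero _ (Subring.sub_mem _ ψ.2 ψ'.2) g₀ hg₀ ?_))
      ext v
      simpa [sub_eq_zero] using LinearMap.congr_fun h' v
    · rintro ⟨a', ha'⟩
      obtain ⟨φ, hφ, hφa⟩ := hS.exists_end hg₀ ha'
      let φl : Dual (ZMod p) V →ₗ[ZMod p] Dual (ZMod p) V := AddMonoidHom.toZModLinearMap p φ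
      let ψ : Module.End (ZMod p) V :=
        (Module.evalEquiv (ZMod p) V).symm.toLinearMap ∘ₗ φl.dualMap ∘ₗ
          (Module.evalEquiv (ZMod p) V).toLinearMap
      have hψ : ∀ (g : Dual (ZMod p) V) v, g (ψ v) = φ g v := by
        intro g v
        simp [ψ, φl]
      refine ⟨⟨ψ, fun L hL v hv => ?_⟩, Subtype.ext (LinearMap.ext fun v => ?_)⟩
      · rw [← Subspace.dualAnnihilator_dualCoannihilator_eq (W := L),
          Submodule.mem_dualCoannihilator]
        intro g hg
        rw [hψ]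
        rcases eq_or_ne g 0 with rfl | hg0
        · simp
        have h1 := hF.mem_comp.1 (hφ g) v
        rw [hF.sub_eq hg0 hL hg] at h1
        exact h1 hv
      · show g₀ (ψ v) = a' v
        rw [hψ, hφa]
  have hinj : ∀ ψ : stabEnd 𝓛, ψ ≠ 0 → Function.Injective ψ.1 := by
    intro ψ hψ
    rw [← LinearMap.dualMap_surjective_iff]
    refine LinearMap.surjective_of_injective ?_
    rw [← LinearMap.ker_eq_bot, LinearMap.ker_eq_bot']
    intro y hy
    by_contra hy0
    exact hψ (Subtype.ext (hzero ψ.1 ψ.2 y hy0 hy))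
  have : Finite (Module.End (ZMod p) V) := Finite.of_injective _ DFunLike.coe_injective
  have : NoZeroDivisors (stabEnd 𝓛) := by
    refine ⟨fun {a b} hab => ?_⟩
    by_contra hh
    push Not at hh
    refine hh.2 (Subtype.ext (LinearMap.ext fun v => hinj a hh.1 ?_))
    have h1 := LinearMap.congr_fun (congrArg Subtype.val hab) v
    simpa using h1
  have : Nontrivial (stabEnd 𝓛) := by
    rw [← Finite.one_lt_card_iff_nontrivial, Nat.card_eq_of_bijective ev hev,
      hS.card g₀ hg₀]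
    exact hF.two_le
  have : IsDomain (stabEnd 𝓛) := NoZeroDivisors.to_isDomain _
  let := Fintype.ofFinite (stabEnd 𝓛)
  letI : DivisionRing (stabEnd 𝓛) := Fintype.divisionRingOfIsDomain _
  letI : Field (stabEnd 𝓛) := littleWedderburn _
  obtain ⟨eqv⟩ : Nonempty (Fin e ≃ stabEnd 𝓛) :=
    ⟨(Finite.equivFinOfCardEq ((Nat.card_eq_of_bijective ev hev).trans (hS.card g₀ hg₀))).symm⟩
  letI : Field (Fin e) := eqv.field
  refine ⟨Fin e, inferInstance, inferInstance,
    (stabEnd 𝓛).subtype.comp (Equiv.ringEquiv eqv).toRingHom, Fintype.card_fin e, ?_⟩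
  intro a L hL v hv
  exact ((Equiv.ringEquiv eqv) a).2 L hL v hv

end Cfsg.Agent.SymDesign
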