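import Cfsg.Agent.Lib.SymDesign.Regular
import Cfsg.Agent.Lib.SymDesign.Field
import Mathlib.FieldTheory.Finiteness

/-!
# The field structure on the elementary abelian group
-/

set_option autoImplicit false
set_option linter.unusedSectionVars false
set_option linter.style.haveILetI false

namespace Cfsg.Agent.SymDesign

open MulAction Finset
open scoped Pointwise Classical

variable {G Ω : Type*} [Group G] [MulAction G Ω] [Finite G] [Finite Ω] [FaithfulSMul G Ω]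

namespace Datum

variable {d : Datum G Ω} [Fintype Ω] [Fintype (G ⧸ d.H)]
variable {p : ℕ} {Z : Subgroup G}

theorem Elem.two_le_orbit (hZ : d.Elem p Z) {C : G ⧸ d.H} (hC : C ≠ d.o) :
    2 ≤ (blkOrbit Z C).ncard := by
  have hes := card_blkOrbit Z C
  by_contra hcon
  have h3 := (Subgroup.one_lt_card_iff_ne_bot Z).2 hZ.ne_bot
  rcases Nat.lt_succ_iff.1 (show (blkOrbit Z C).ncard < 2 by omega) |>.eq_or_lt with h | h
  · rw [h, one_mul] at hes
    have h2 := hZ.toSemi.card_eq hC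
    rw [hes] at h2
    have h5 := Nat.eq_of_mul_eq_mul_right (by omega) h2
    have h4 := d.lam_add_two_le
    omega
  · rw [show (blkOrbit Z C).ncard = 0 by omega, zero_mul] at hes
    omega

/-- The number of translates is independent of the block. -/
theorem Elem.orbit_eq (hZ : d.Elem p Z) {C c : G ⧸ d.H} (hC : C ≠ d.o) (hc : c ≠ d.o) :
    (blkOrbit Z c).ncard = (blkOrbit Z C).ncard := by
  have h1 := card_blkOrbit Z c
  rw [hZ.toSemi.card_stab_eq hc hC, ← card_blkOrbit Z C] at h1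
  exact Nat.eq_of_mul_eq_mul_right Nat.card_pos h1

/-- An additive copy of the elementary abelian group. -/
structure Chart (p : ℕ) (Z : Subgroup G) (V : Type*) [AddCommGroup V] [Module (ZMod p) V] where
  /-- The embedding. -/
  ι : V → G
  mem : ∀ v, ι v ∈ Z
  inj : Function.Injective ι
  surj : ∀ z ∈ Z, ∃ v, ι v = z
  map_add : ∀ a b, ι (a + b) = ι a * ι b

variable {V : Type*} [AddCommGroup V] [Module (ZMod p) V] (χ : Chart p Z V)

theorem Chart.map_zero : χ.ι 0 = 1 := by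
  have h := χ.map_add 0 0
  rw [add_zero] at h
  exact mul_left_cancel (a := χ.ι 0) (by rw [mul_one]; exact h.symm)

theorem Chart.map_neg (v : V) : χ.ι (-v) = (χ.ι v)⁻¹ := by
  rw [eq_inv_iff_mul_eq_one, ← χ.map_add, neg_add_cancel, χ.map_zero]

theorem Chart.map_sub (a b : V) : χ.ι (a - b) = χ.ι a * (χ.ι b)⁻¹ := by
  rw [sub_eq_add_neg, χ.map_add, χ.map_neg]

theorem Chart.eq_zero_iff (v : V) : χ.ι v = 1 ↔ v = 0 :=
  ⟨fun h => χ.inj (h.trans χ.map_zero.symm), fun h => h ▸ χ.map_zero⟩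

include χ in
theorem Chart.card_eq : Nat.card V = Nat.card Z :=
  Nat.card_eq_of_bijective (fun v => (⟨χ.ι v, χ.mem v⟩ : Z))
    ⟨fun _ _ h => χ.inj (congrArg Subtype.val h), fun z => by
      obtain ⟨v, hv⟩ := χ.surj z.1 z.2
      exact ⟨v, Subtype.ext hv⟩⟩

/-- The subspace fixing a block. -/
def Chart.fixer (c : G ⧸ d.H) : Submodule (ZMod p) V :=
  AddSubgroup.toZModSubmodule p
    { carrier := {v | χ.ι v • c = c}
      zero_mem' := by
        show χ.ι 0 • c = c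
        rw [χ.map_zero, one_smul]
      add_mem' := fun {a b} (ha : χ.ι a • c = c) (hb : χ.ι b • c = c) => by
        show χ.ι (a + b) • c = c
        rw [χ.map_add, mul_smul, hb, ha]
      neg_mem' := fun {a} (ha : χ.ι a • c = c) => by
        show χ.ι (-a) • c = c
        rw [χ.map_neg, inv_smul_eq_iff]
        exact ha.symm }

@[simp] theorem Chart.mem_fixer {c : G ⧸ d.H} {v : V} : v ∈ χ.fixer c ↔ χ.ι v • c = c := Iff.rfl

theorem Chart.card_fixer (c : G ⧸ d.H) : Nat.card (χ.fixer c) = Nat.card (stab Z c) :=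
  Nat.card_eq_of_bijective
    (fun v => (⟨χ.ι v.1, χ.mem v.1, v.2⟩ : stab Z c))
    ⟨fun _ _ h => Subtype.ext (χ.inj (congrArg Subtype.val h)), fun z => by
      obtain ⟨v, hv⟩ := χ.surj z.1 z.2.1
      exact ⟨⟨v, show χ.ι v • c = c by rw [hv]; exact z.2.2⟩, Subtype.ext hv⟩⟩

/-- The image of a subspace. -/
def Chart.img (W : Submodule (ZMod p) V) : Subgroup G where
  carrier := χ.ι '' (W : Set V)
  one_mem' := ⟨0, W.zero_mem, χ.map_zero⟩
  mul_mem' := by
    rintro _ _ ⟨a, ha, rfl⟩ ⟨b, hb, rfl⟩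
    exact ⟨a + b, W.add_mem ha hb, χ.map_add a b⟩
  inv_mem' := by
    rintro _ ⟨a, ha, rfl⟩
    exact ⟨-a, W.neg_mem ha, χ.map_neg a⟩

theorem Chart.img_hyperplane {W : Submodule (ZMod p) V} (h : p * Nat.card W = Nat.card V) :
    Hyperplane p Z (χ.img W) where
  le := by
    rintro _ ⟨a, -, rfl⟩
    exact χ.mem a
  card := by
    rw [← χ.card_eq, ← h]
    congr 1
    exact (Nat.card_congr (Equiv.Set.image χ.ι (W : Set V) χ.inj)).symm

theorem Chart.stab_le_img_iff {W : Submodule (ZMod p) V} (c : G ⧸ d.H) :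
    stab Z c ≤ χ.img W ↔ χ.fixer c ≤ W := by
  constructor
  · intro h v hv
    obtain ⟨w, hw, hwv⟩ := h (show χ.ι v ∈ stab Z c from ⟨χ.mem v, hv⟩)
    exact χ.inj hwv ▸ hw
  · intro h z hz
    obtain ⟨v, rfl⟩ := χ.surj z hz.1
    exact ⟨v, h hz.2, rfl⟩

theorem Chart.fixer_eq_iff (c c' : G ⧸ d.H) :
    χ.fixer c = χ.fixer c' ↔ stab Z c = stab Z c' := by
  constructor
  · intro h
    ext z
    constructor <;> intro hz <;> obtain ⟨v, rfl⟩ := χ.surj z hz.1
    · exact ⟨χ.mem v, (show v ∈ χ.fixer c' from h ▸ hz.2)⟩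
    · exact ⟨χ.mem v, (show v ∈ χ.fixer c from h.symm ▸ hz.2)⟩
  · intro h
    ext v
    have := SetLike.ext_iff.1 h (χ.ι v)
    simpa [stab, χ.mem v] using this

variable [Fact p.Prime] [Finite V]

/-- The stabilisers form a family with all transvections. -/
theorem Chart.family (hZ : d.Elem p Z) {C : G ⧸ d.H} (hC : C ≠ d.o)
    (hbig : (blkOrbit Z C).ncard < Nat.card (stab Z C)) :
    Family (blkOrbit Z C).ncard {L : Submodule (ZMod p) V | ∃ c, c ≠ d.o ∧ χ.fixer c = L} where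
  two_le := hZ.two_le_orbit hC
  card := by
    rintro _ ⟨c, hc, rfl⟩
    rw [χ.card_fixer, hZ.toSemi.card_stab_eq hc hC, mul_comm, card_blkOrbit, χ.card_eq]
  big := by
    rw [χ.card_eq, ← card_blkOrbit Z C]
    exact Nat.mul_lt_mul_of_pos_left hbig (by have := hZ.two_le_orbit hC; omega)
  exists_le W hW := by
    have h := hZ.card_hyperplane hC (χ.img_hyperplane hW)
    obtain ⟨c, hc⟩ : ((univ.erase d.o).filter fun c => stab Z c ≤ χ.img W).Nonempty := by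
      rw [← Finset.card_pos, h]
      have := hZ.two_le_orbit hC
      omega
    rw [Finset.mem_filter, Finset.mem_erase] at hc
    exact ⟨_, ⟨c, hc.1.1, rfl⟩, (χ.stab_le_img_iff c).1 hc.2⟩
  unique W hW := by
    rintro _ ⟨c, hc, rfl⟩ _ ⟨c', hc', rfl⟩ h h'
    rw [χ.fixer_eq_iff]
    exact (hZ.stab_eq_of_le hc (χ.img_hyperplane hW) ((χ.stab_le_img_iff c).2 h) hc'
      ((χ.stab_le_img_iff c').2 h')).symm
  transv := by
    rintro _ ⟨c, hc, rfl⟩
    have hconjZ : ∀ {m : G}, m ∈ opp Z c → ∀ v, m * χ.ι v * m⁻¹ * (χ.ι v)⁻¹ ∈ stab Z c := by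
      intro m hm v
      have h := (stab Z c).inv_mem (hZ.comm_mem_stab hc (χ.mem v) hm)
      simpa [mul_assoc] using h
    have hex : ∀ m ∈ opp Z c, ∃ τ : V →ₗ[ZMod p] V,
        ∀ v, χ.ι (τ v) = m * χ.ι v * m⁻¹ * (χ.ι v)⁻¹ := by
      intro m hm
      choose f hf using fun v => χ.surj _ (hconjZ hm v).1
      refine ⟨AddMonoidHom.toZModLinearMap p (AddMonoidHom.mk' f fun a b => χ.inj ?_), hf⟩
      rw [χ.map_add, hf, hf, hf, χ.map_add]
      have h1 : χ.ι a * (m * χ.ι b * m⁻¹ * (χ.ι b)⁻¹) =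
          (m * χ.ι b * m⁻¹ * (χ.ι b)⁻¹) * χ.ι a :=
        hZ.comm _ (χ.mem a) _ (hconjZ hm b).1
      calc m * (χ.ι a * χ.ι b) * m⁻¹ * (χ.ι a * χ.ι b)⁻¹
          = (m * χ.ι a * m⁻¹) * ((m * χ.ι b * m⁻¹ * (χ.ι b)⁻¹) * (χ.ι a)⁻¹) := by group
        _ = (m * χ.ι a * m⁻¹) * ((χ.ι a)⁻¹ * (m * χ.ι b * m⁻¹ * (χ.ι b)⁻¹)) := by
            rw [hZ.comm _ (hconjZ hm b).1 _ (Z.inv_mem (χ.mem a))]
        _ = _ := by group
    refine ⟨{τ | ∃ m ∈ opp Z c, ∀ v, χ.ι (τ v) = m * χ.ι v * m⁻¹ * (χ.ι v)⁻¹}, ?_, ?_, ?_, ?_, ?_,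
      ?_⟩
    · exact ⟨1, (opp Z c).one_mem, fun v => by simp [χ.map_zero]⟩
    · rintro a ⟨m, hm, ha⟩ b ⟨m', hm', hb⟩
      refine ⟨m * m', (opp Z c).mul_mem hm hm', fun v => ?_⟩
      rw [LinearMap.add_apply, χ.map_add, ha, hb]
      have h1 := hZ.toSemi.stab_comm_opp hc (hconjZ hm' v) hm
      calc m * χ.ι v * m⁻¹ * (χ.ι v)⁻¹ * (m' * χ.ι v * m'⁻¹ * (χ.ι v)⁻¹)
          = (m' * χ.ι v * m'⁻¹ * (χ.ι v)⁻¹) * (m * χ.ι v * m⁻¹ * (χ.ι v)⁻¹) :=
            hZ.comm _ (hconjZ hm v).1 _ (hconjZ hm' v).1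
        _ = ((m' * χ.ι v * m'⁻¹ * (χ.ι v)⁻¹) * m) * χ.ι v * m⁻¹ * (χ.ι v)⁻¹ := by group
        _ = (m * (m' * χ.ι v * m'⁻¹ * (χ.ι v)⁻¹)) * χ.ι v * m⁻¹ * (χ.ι v)⁻¹ := by rw [h1]
        _ = _ := by group
    · rintro τ ⟨m, hm, hτ⟩ v hv
      refine χ.inj ?_
      rw [hτ, χ.map_zero,
        ← hZ.toSemi.stab_comm_opp hc (show χ.ι v ∈ stab Z c from ⟨χ.mem v, hv⟩) hm]
      group
    · rintro τ ⟨m, hm, hτ⟩ v
      show χ.ι (τ v) • c = c
      rw [hτ]
      exact (hconjZ hm v).2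
    · rintro τ ⟨m, hm, hτ⟩ _ ⟨c', hc', rfl⟩
      refine ⟨m⁻¹ • c', ?_, ?_⟩
      · intro h
        refine hc' ?_
        rw [← smul_inv_smul m c', h, d.smul_o_iff.2 hm.2]
      · ext v
        simp only [Submodule.mem_comap, LinearMap.add_apply, LinearMap.id_apply, χ.mem_fixer,
          χ.map_add, hτ]
        rw [hZ.comm _ (χ.mem v) _ (hconjZ hm v).1, inv_mul_cancel_right, mul_smul, mul_smul,
          eq_inv_smul_iff]
    · intro q hq l hl
      have hqs : χ.ι q ∉ stab Z c := fun h => hq h.2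
      have hf : Set.SurjOn (fun m => m * χ.ι q * m⁻¹ * (χ.ι q)⁻¹) (els (opp Z c) : Set G)
          (els (stab Z c) : Set G) := by
        refine Finset.surjOn_of_injOn_of_card_le _ ?_ ?_ ?_
        · intro m hm
          exact mem_els.2 (hconjZ (mem_els.1 hm) q)
        · intro m hm m' hm' h
          refine hZ.eq_of_comm_eq (χ.mem q) hqs (mem_els.1 hm) (mem_els.1 hm') ?_
          have h' := congrArg (·⁻¹) h
          simpa [mul_assoc] using h'
        · rw [card_els, card_els, hZ.toSemi.card_opp hc]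
      obtain ⟨m, hm, hml⟩ := hf (mem_els.2 (show χ.ι l ∈ stab Z c from ⟨χ.mem l, hl⟩))
      obtain ⟨τ, hτ⟩ := hex m (mem_els.1 hm)
      exact ⟨τ, ⟨m, mem_els.1 hm, hτ⟩, χ.inj ((hτ q).trans hml)⟩

end Datum

end Cfsg.Agent.SymDesign
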