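import Cfsg.Agent.Lib.SymDesign.Chart
import Mathlib.LinearAlgebra.Projectivization.Cardinality
import Mathlib.LinearAlgebra.FiniteDimensional.Lemmas
import Mathlib.LinearAlgebra.Pi

/-!
# Projective coordinates for the design
-/

set_option autoImplicit false
set_option linter.unusedSectionVars false
set_option linter.style.haveILetI false

namespace Cfsg.Agent.SymDesign

open MulAction Finset Module
open scoped Pointwise Classical

variable {G Ω : Type*} [Group G] [MulAction G Ω] [Finite G] [Finite Ω] [FaithfulSMul G Ω]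

namespace Datum

/-- The design is that of points and hyperplanes of a projective space. -/
def HasCoords (d : Datum G Ω) : Prop :=
  ∃ (F : Type) (_ : Field F) (_ : Fintype F) (m : ℕ), 2 ≤ m ∧
    ∃ φ : Ω ≃ Projectivization F (Fin (m + 1) → F),
      (∀ ψ : Dual F (Fin (m + 1) → F), ψ ≠ 0 →
        ∃ D : G ⧸ d.H, ∀ x, x ∈ d.S D ↔ ψ (φ x).rep = 0) ∧
      (∀ D : G ⧸ d.H, ∃ ψ : Dual F (Fin (m + 1) → F), ψ ≠ 0 ∧
        ∀ x, x ∈ d.S D ↔ ψ (φ x).rep = 0)

section Lin

variable {F V : Type*} [Field F] [Finite F] [AddCommGroup V] [Module F V] [Finite V]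

theorem card_ker_mul {f : Dual F V} (hf : f ≠ 0) :
    Nat.card (LinearMap.ker f) * Nat.card F = Nat.card V := by
  rw [Submodule.card_eq_card_quotient_mul_card (LinearMap.ker f),
    Nat.card_congr (f.quotKerEquivOfSurjective (f.surjective_of_ne_zero hf)).toEquiv, mul_comm]

theorem exists_ker_eq {L : Submodule F V} (hL : Nat.card L * Nat.card F = Nat.card V) :
    ∃ f : Dual F V, f ≠ 0 ∧ LinearMap.ker f = L := by
  have hne : L < ⊤ := by
    refine lt_top_iff_ne_top.2 fun h => ?_
    rw [h, Nat.card_congr (Submodule.topEquiv (R := F) (M := V)).toEquiv] at hL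
    have h1 : 1 < Nat.card F := Finite.one_lt_card
    have h2 : 0 < Nat.card V := Nat.card_pos
    nlinarith
  obtain ⟨f, hf, hle⟩ := L.exists_le_ker_of_lt_top hne
  refine ⟨f, hf, (SetLike.ext' (Set.eq_of_subset_of_ncard_le hle ?_ (Set.toFinite _))).symm⟩
  rw [← Nat.card_coe_set_eq, ← Nat.card_coe_set_eq]
  exact (Nat.eq_of_mul_eq_mul_right Nat.card_pos ((card_ker_mul hf).trans hL.symm)).le

theorem ker_smul_eq {f : Dual F V} {a : F} (ha : a ≠ 0) :
    LinearMap.ker (a • f) = LinearMap.ker f := LinearMap.ker_smul f a ha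

theorem exists_smul_of_ker_eq {f g : Dual F V} (hg : g ≠ 0)
    (h : LinearMap.ker f = LinearMap.ker g) : ∃ a : F, a ≠ 0 ∧ g = a • f := by
  have h1 := mem_span_of_iInf_ker_le_ker (L := fun _ : Unit => f) (K := g) (by simp [h])
  rw [Set.range_const, Submodule.mem_span_singleton] at h1
  obtain ⟨a, ha⟩ := h1
  exact ⟨a, fun h0 => hg (by rw [← ha, h0, zero_smul]), ha.symm⟩

theorem card_ker_class {g : Dual F V} [Fintype (Dual F V)] (hg : g ≠ 0) :
    (univ.filter fun f : Dual F V => f ≠ 0 ∧ LinearMap.ker f = LinearMap.ker g).card =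
      Nat.card F - 1 := by
  have := Fintype.ofFinite F
  rw [Nat.card_eq_fintype_card, ← Finset.card_univ,
    ← Finset.card_erase_of_mem (Finset.mem_univ (0 : F))]
  refine (Finset.card_bij (fun a _ => a • g) ?_ ?_ ?_).symm
  · intro a ha
    have ha' := (Finset.mem_erase.1 ha).1
    exact Finset.mem_filter.2 ⟨Finset.mem_univ _, smul_ne_zero ha' hg, ker_smul_eq ha'⟩
  · intro a _ b _ h
    exact smul_left_injective F hg h
  · intro f hf
    obtain ⟨hf0, hker⟩ := (Finset.mem_filter.1 hf).2
    obtain ⟨a, ha, rfl⟩ := exists_smul_of_ker_eq hf0 hker.symm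
    exact ⟨a, Finset.mem_erase.2 ⟨ha, Finset.mem_univ _⟩, rfl⟩

end Lin

variable {d : Datum G Ω} [Fintype Ω] [Fintype (G ⧸ d.H)]
variable {p : ℕ} {Z : Subgroup G} {V : Type*} [AddCommGroup V] [Module (ZMod p) V]
  [Fact p.Prime] [Finite V]

theorem coords_of_field (χ : Chart p Z V) (hZ : d.Elem p Z) {C : G ⧸ d.H} (hC : C ≠ d.o)
    (hbig : (blkOrbit Z C).ncard < Nat.card (stab Z C))
    {F : Type} [Field F] [Fintype F] [Module F V]
    (hF : Fintype.card F = (blkOrbit Z C).ncard)
    (hinv : ∀ c, c ≠ d.o → ∀ a : F, ∀ v ∈ χ.fixer c, a • v ∈ χ.fixer c) : d.HasCoords := by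
  have hes := card_blkOrbit Z C
  have hklam := hZ.k_sub_lam hC
  have hk := hZ.k_eq hC
  have hnk := hZ.card_compl_eq
  have he2 := hZ.two_le_orbit hC
  have hl := d.lam_pos
  have hq : Nat.card F = (blkOrbit Z C).ncard := by rw [Nat.card_eq_fintype_card, hF]
  set s := Nat.card (stab Z C) with hs
  set e := (blkOrbit Z C).ncard with he
  have hs1 : 1 ≤ s := Nat.card_pos
  set D := Module.finrank F V with hD
  have hcardV : Nat.card V = e ^ D := by rw [Module.natCard_eq_pow_finrank (K := F), hq]
  have hVes : Nat.card V = e * s := by rw [χ.card_eq, hes]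
  have hD2 : 2 ≤ D := by
    by_contra hcon
    have h1 : e ^ D ≤ e ^ 1 := Nat.pow_le_pow_right (by omega) (by omega)
    rw [← hcardV, hVes, pow_one] at h1
    have h2 : e * e < e * s := Nat.mul_lt_mul_of_pos_left hbig (by omega)
    nlinarith
  obtain ⟨x₀, hx₀⟩ : ∃ x, x ∉ d.B := by
    by_contra hh
    push Not at hh
    have h := d.two_le_compl
    rw [Set.eq_univ_of_forall hh, Set.compl_univ, Set.ncard_empty] at h
    omega
  -- the points off the block
  let pt : V → Ω := fun v => χ.ι v • x₀
  have hpt_add : ∀ a b, pt (a + b) = χ.ι a • pt b := fun a b => by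
    simp only [pt, χ.map_add, mul_smul]
  have hptB : ∀ v, pt v ∉ d.B := fun v h =>
    hx₀ ((d.smul_mem_B_iff (hZ.toSemi.le_H (χ.mem v))).1 h)
  have hpt_inj : Function.Injective pt := by
    intro a b h
    by_contra hne
    refine hx₀ (hZ.semi (χ.ι (a - b)) (χ.mem _)
      (fun h1 => hne (sub_eq_zero.1 ((χ.eq_zero_iff _).1 h1))) x₀ ?_)
    have h' : χ.ι a • x₀ = χ.ι b • x₀ := h
    rw [sub_eq_neg_add, χ.map_add, mul_smul, h', ← mul_smul, ← χ.map_add, neg_add_cancel,
      χ.map_zero, one_smul]
  have hpt_surj : ∀ x, x ∉ d.B → ∃ v, pt v = x := by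
    have hsub : Set.range pt ⊆ d.Bᶜ := by
      rintro _ ⟨v, rfl⟩
      exact hptB v
    have heq : Set.range pt = d.Bᶜ := by
      refine Set.eq_of_subset_of_ncard_le hsub ?_ (Set.toFinite _)
      rw [d.card_compl, hnk, Set.ncard_range_of_injective hpt_inj, χ.card_eq]
    intro x hx
    exact (heq ▸ hx : x ∈ Set.range pt)
  -- blocks
  have hlinv : ∀ c, c ≠ d.o → ∃ f : Dual F V, f ≠ 0 ∧ ∀ v, f v = 0 ↔ χ.ι v • c = c := by
    intro c hc
    let L : Submodule F V :=
      { carrier := χ.fixer c
        zero_mem' := (χ.fixer c).zero_mem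
        add_mem' := fun ha hb => (χ.fixer c).add_mem ha hb
        smul_mem' := fun a v hv => hinv c hc a v hv }
    have hL : Nat.card L * Nat.card F = Nat.card V := by
      rw [show Nat.card L = Nat.card (χ.fixer c) from rfl, χ.card_fixer,
        hZ.toSemi.card_stab_eq hc hC, hq, hVes, mul_comm]
    obtain ⟨f, hf, hker⟩ := exists_ker_eq hL
    exact ⟨f, hf, fun v => by rw [← LinearMap.mem_ker, hker]; rfl⟩
  have hcoset : ∀ c, c ≠ d.o → ∃ u, pt u ∈ d.S c ∧
      ∀ v, pt v ∈ d.S c ↔ χ.ι (v - u) • c = c := by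
    intro c hc
    have hcard : (univ.filter fun x => x ∈ d.S c ∧ x ∉ d.B).card = s := by
      have h := Finset.card_filter_add_card_filter_not
        (s := univ.filter fun x => x ∈ d.S c) (fun x => x ∈ d.B)
      rw [d.card_S, Finset.filter_filter, Finset.filter_filter] at h
      have h1 : (univ.filter fun x => x ∈ d.S c ∧ x ∈ d.B).card = d.lam := by
        rw [← d.card_inter hc, Set.ncard_eq_toFinset_card', d.S_o]
        congr 1
        ext x
        simp
      omega
    obtain ⟨x, hx⟩ : (univ.filter fun x => x ∈ d.S c ∧ x ∉ d.B).Nonempty := by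
      rw [← Finset.card_pos, hcard]
      exact hs1
    rw [Finset.mem_filter] at hx
    obtain ⟨u, rfl⟩ := hpt_surj x hx.2.2
    refine ⟨u, hx.2.1, ?_⟩
    have hL : ∀ l, χ.ι l • c = c → pt (l + u) ∈ d.S c := by
      intro l hl
      rw [hpt_add, ← hl, d.smul_mem_S_iff]
      exact hx.2.1
    have himg : (els (stab Z c)).image (fun z => z • pt u) =
        univ.filter fun x => x ∈ d.S c ∧ x ∉ d.B := by
      refine Finset.eq_of_subset_of_card_le ?_ ?_
      · intro y hy
        obtain ⟨z, hz, rfl⟩ := Finset.mem_image.1 hy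
        rw [mem_els] at hz
        obtain ⟨l, rfl⟩ := χ.surj z hz.1
        rw [Finset.mem_filter, ← hpt_add]
        exact ⟨Finset.mem_univ _, hL l hz.2, hptB _⟩
      · rw [hcard, Finset.card_image_of_injOn, card_els, hZ.toSemi.card_stab_eq hc hC]
        intro z hz z' hz' h
        rw [Finset.mem_coe, mem_els] at hz hz'
        obtain ⟨l, rfl⟩ := χ.surj z hz.1
        obtain ⟨l', rfl⟩ := χ.surj z' hz'.1
        simp only [← hpt_add] at h
        rw [add_right_cancel (hpt_inj h)]
    intro v
    constructor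
    · intro hv
      have h1 : pt v ∈ (els (stab Z c)).image (fun z => z • pt u) := by
        rw [himg, Finset.mem_filter]
        exact ⟨Finset.mem_univ _, hv, hptB v⟩
      obtain ⟨z, hz, hzv⟩ := Finset.mem_image.1 h1
      rw [mem_els] at hz
      obtain ⟨l, rfl⟩ := χ.surj z hz.1
      rw [← hpt_add] at hzv
      rw [← hpt_inj hzv, add_sub_cancel_right]
      exact hz.2
    · intro h
      simpa using hL (v - u) h
  -- blocks through `x₀`
  have hkerblk : ∀ f : Dual F V, f ≠ 0 →
      ∃ c, c ≠ d.o ∧ x₀ ∈ d.S c ∧ ∀ v, f v = 0 ↔ χ.ι v • c = c := by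
    intro f hf
    let K : Submodule (ZMod p) V := AddSubgroup.toZModSubmodule p (LinearMap.ker f).toAddSubgroup
    have hKne : K < ⊤ := by
      refine lt_top_iff_ne_top.2 fun h => hf (LinearMap.ext fun v => ?_)
      have : v ∈ K := h ▸ Submodule.mem_top
      exact this
    obtain ⟨g, hg, hKg⟩ := K.exists_le_ker_of_lt_top hKne
    have hW := χ.img_hyperplane (natCard_ker hg)
    obtain ⟨c, hc⟩ : ((univ.erase d.o).filter fun c => stab Z c ≤ χ.img (LinearMap.ker g)).Nonempty := by
      rw [← Finset.card_pos, hZ.card_hyperplane hC hW]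
      omega
    rw [Finset.mem_filter, Finset.mem_erase] at hc
    obtain ⟨f', hf', hf'L⟩ := hlinv c hc.1.1
    have hLg : χ.fixer c ≤ LinearMap.ker g := (χ.stab_le_img_iff c).1 hc.2
    have hker : LinearMap.ker f = LinearMap.ker f' := by
      by_contra hne
      have hsub : ¬ LinearMap.ker f ≤ LinearMap.ker f' := by
        intro hle
        refine hne (SetLike.ext' (Set.eq_of_subset_of_ncard_le hle ?_ (Set.toFinite _)))
        rw [← Nat.card_coe_set_eq, ← Nat.card_coe_set_eq]
        exact (Nat.eq_of_mul_eq_mul_right Nat.card_pos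
          ((card_ker_mul hf').trans (card_ker_mul hf).symm)).le
      obtain ⟨w, hw, hw'⟩ := SetLike.not_le_iff_exists.1 hsub
      rw [LinearMap.mem_ker] at hw hw'
      refine hg (LinearMap.ext fun v => ?_)
      have h1 : g ((f' v * (f' w)⁻¹) • w) = 0 := by
        refine LinearMap.mem_ker.1 (hKg ?_)
        show f _ = 0
        rw [map_smul, hw, smul_zero]
      have h2 : g (v - (f' v * (f' w)⁻¹) • w) = 0 := by
        refine LinearMap.mem_ker.1 (hLg ((hf'L _).1 ?_))
        rw [_root_.map_sub, map_smul, smul_eq_mul, inv_mul_cancel_right₀ hw', sub_self]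
      rw [_root_.map_sub, h1, sub_zero] at h2
      exact h2
    obtain ⟨u, hu, -⟩ := hcoset c hc.1.1
    refine ⟨χ.ι (-u) • c, ?_, ?_, ?_⟩
    · intro h
      refine hc.1.1 ?_
      rw [← inv_smul_smul (χ.ι (-u)) c, h,
        d.smul_o_iff.2 (d.H.inv_mem (hZ.toSemi.le_H (χ.mem _)))]
    · rw [d.mem_S_smul_iff, ← χ.map_neg, neg_neg]
      exact hu
    · intro v
      rw [← LinearMap.mem_ker, hker, LinearMap.mem_ker, hf'L, ← mul_smul,
        hZ.comm _ (χ.mem v) _ (χ.mem _), mul_smul, smul_left_cancel_iff]
  choose! E hEo hEx hEf using hkerblk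
  -- a block through `x₀` is determined by its stabiliser
  have huniq : ∀ {c c'}, c ≠ d.o → c' ≠ d.o → x₀ ∈ d.S c → x₀ ∈ d.S c' →
      (∀ v, χ.ι v • c = c ↔ χ.ι v • c' = c') → c' = c := by
    intro c c' hc hc' hx hx' hst
    obtain ⟨q, hq, rfl⟩ := hZ.exists_smul_eq_of_stab_eq hc hc'
      ((χ.fixer_eq_iff c' c).1 (Submodule.ext fun v => (hst v).symm))
    obtain ⟨w, rfl⟩ := χ.surj q hq
    obtain ⟨u, -, hu⟩ := hcoset c hc
    rw [d.mem_S_smul_iff, ← χ.map_neg] at hx'
    have h1 := (hu (-w)).1 hx'
    have h2 := (hu 0).1 (by simpa [pt, χ.map_zero] using hx)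
    refine (smul_eq_iff_eq_inv_smul _).2 ?_
    rw [sub_eq_add_neg, χ.map_add, mul_smul, ← zero_sub u, h2, χ.map_neg] at h1
    exact h1.symm
  -- the pencil
  have hpencil : ∀ {c c' : G ⧸ d.H}, c ≠ c' →
      (univ.filter fun c'' => d.S c ∩ d.S c' ⊆ d.S c'').card = e + 1 := by
    intro c c' hne
    obtain ⟨g, hg1, hg2⟩ := d.two_trans_blk (Ne.symm hC) hne
    have h0 : (univ.filter fun c'' => d.S d.o ∩ d.S C ⊆ d.S c'') =
        insert d.o (blkOrbit Z C).toFinset := by
      ext c''
      simp only [Finset.mem_filter, Finset.mem_univ, true_and, Finset.mem_insert,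
        Set.mem_toFinset, d.S_o]
      constructor
      · intro hsub
        by_cases hco : c'' = d.o
        · exact Or.inl hco
        refine Or.inr ?_
        obtain ⟨u'', hu'', -⟩ := hcoset c'' hco
        obtain ⟨u, hu, -⟩ := hcoset C hC
        have hD : pt u'' ∈ d.S (χ.ι (u'' - u) • C) := by
          rw [show pt u'' = χ.ι (u'' - u) • pt u by rw [← hpt_add, sub_add_cancel],
            d.smul_mem_S_iff]
          exact hu
        refine ⟨χ.ι (u'' - u), χ.mem _, ?_⟩
        by_contra hne'
        have hsub2 : insert (pt u'') (d.B ∩ d.S C) ⊆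
            d.S (χ.ι (u'' - u) • C) ∩ d.S c'' := by
          rintro x (rfl | hx)
          · exact ⟨hD, hu''⟩
          · refine ⟨?_, hsub hx⟩
            rw [← hZ.fixB _ (χ.mem (u'' - u)) x hx.1, d.smul_mem_S_iff]
            exact hx.2
        have h := Set.ncard_le_ncard hsub2 (Set.toFinite _)
        have hi := d.card_inter (Ne.symm hC)
        rw [d.S_o] at hi
        rw [d.card_inter hne', Set.ncard_insert_of_notMem (fun h => hptB u'' h.1) (Set.toFinite _),
          hi] at h
        omega
      · rintro (rfl | ⟨q, hq, rfl⟩)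
        · rw [d.S_o]; exact Set.inter_subset_left
        · intro x hx
          show x ∈ d.S (q • C)
          rw [← hZ.fixB q hq x hx.1, d.smul_mem_S_iff]
          exact hx.2
    have h1 : (univ.filter fun c'' => d.S d.o ∩ d.S C ⊆ d.S c'').card = e + 1 := by
      rw [h0, Finset.card_insert_of_notMem, ← Set.ncard_eq_toFinset_card']
      rw [Set.mem_toFinset]
      rintro ⟨q, hq, h⟩
      refine hC ?_
      rw [← inv_smul_smul q C, show q • C = d.o from h,
        d.smul_o_iff.2 (d.H.inv_mem (hZ.toSemi.le_H hq))]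
    rw [← h1]
    refine (Finset.card_equiv (MulAction.toPerm g) fun c'' => ?_).symm
    simp only [Finset.mem_filter, Finset.mem_univ, true_and, MulAction.toPerm_apply]
    rw [← hg1, ← hg2, d.S_smul, d.S_smul, d.S_smul, ← Set.smul_set_inter,
      Set.smul_set_subset_smul_set_iff]
  -- the directions through a point of the block
  have : Finite (Dual F V) := Finite.of_injective _ DFunLike.coe_injective
  have := Fintype.ofFinite (Dual F V)
  have hline : ∀ y ∈ d.B, ∃ v : V, v ≠ 0 ∧
      ∀ f : Dual F V, f ≠ 0 → (y ∈ d.S (E f) ↔ f v = 0) := by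
    intro y hy
    let Γ : Submodule F (Dual F V) :=
      { carrier := {f | f ≠ 0 → y ∈ d.S (E f)}
        zero_mem' := fun h => absurd rfl h
        add_mem' := by
          intro f g hf hg hfg
          rcases eq_or_ne f 0 with rfl | hf0
          · rw [zero_add] at hfg ⊢
            exact hg hfg
          rcases eq_or_ne g 0 with rfl | hg0
          · rw [add_zero] at hfg ⊢
            exact hf hfg
          have hsame : ∀ {f g : Dual F V}, f ≠ 0 → g ≠ 0 → LinearMap.ker f = LinearMap.ker g →
              E f = E g := by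
            intro f g hf hg h
            refine huniq (hEo g hg) (hEo f hf) (hEx g hg) (hEx f hf) fun v => ?_
            rw [← hEf f hf, ← hEf g hg, ← LinearMap.mem_ker, ← LinearMap.mem_ker, h]
          by_cases hk : LinearMap.ker f = LinearMap.ker g
          · obtain ⟨a, ha, rfl⟩ := exists_smul_of_ker_eq hg0 hk
            rw [← one_smul F f, smul_smul, mul_one, ← add_smul] at hfg ⊢
            have h1 : (1 : F) + a ≠ 0 := fun h => hfg (by rw [h, zero_smul])
            rw [hsame hfg hf0 (ker_smul_eq h1)]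
            exact hf hf0
          have hne : E f ≠ E g := by
            intro h
            refine hk (Submodule.ext fun v => ?_)
            rw [LinearMap.mem_ker, LinearMap.mem_ker, hEf f hf0, hEf g hg0, h]
          set P := univ.filter fun c'' => d.S (E f) ∩ d.S (E g) ⊆ d.S c'' with hP
          have hPc : P.card = e + 1 := hpencil hne
          have hPmem : ∀ c ∈ P, c ≠ d.o ∧ x₀ ∈ d.S c ∧
              ∀ v, f v = 0 → g v = 0 → χ.ι v • c = c := by
            intro c hc
            rw [hP, Finset.mem_filter] at hc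
            have hxc : x₀ ∈ d.S c := hc.2 ⟨hEx f hf0, hEx g hg0⟩
            have hco : c ≠ d.o := by
              intro h
              rw [h, d.S_o] at hxc
              exact hx₀ hxc
            refine ⟨hco, hxc, fun v hv1 hv2 => ?_⟩
            obtain ⟨u, -, hu⟩ := hcoset c hco
            have h1 : pt v ∈ d.S c := by
              refine hc.2 ⟨?_, ?_⟩
              · rw [← (hEf f hf0 v).1 hv1]
                exact (d.smul_mem_S_iff _ _ _).2 (hEx f hf0)
              · rw [← (hEf g hg0 v).1 hv2]
                exact (d.smul_mem_S_iff _ _ _).2 (hEx g hg0)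
            have h2 : pt 0 ∈ d.S c := by simpa [pt, χ.map_zero] using hxc
            have h3 := (χ.fixer c).sub_mem ((hu v).1 h1) ((hu 0).1 h2)
            simpa using h3
          -- the `e + 1` members of the pencil cover all functionals vanishing on both kernels
          set T := univ.filter fun h : Dual F V => h ≠ 0 ∧ ∀ v, f v = 0 → g v = 0 → h v = 0 with hT
          set T' := P.biUnion fun c => T.filter fun h => ∀ v, h v = 0 ↔ χ.ι v • c = c with hT'
          have hTle : T.card ≤ e * e - 1 := by
            have h1 : T ⊆ ((univ : Finset (F × F)).erase 0).image fun a => a.1 • f + a.2 • g := by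
              intro h hh
              rw [hT, Finset.mem_filter] at hh
              have h2 := mem_span_of_iInf_ker_le_ker (L := ![f, g]) (K := h) (by
                intro v hv
                simp only [Submodule.mem_iInf, LinearMap.mem_ker] at hv ⊢
                exact hh.2.2 v (hv 0) (hv 1))
              rw [Matrix.range_cons, Matrix.range_cons, Matrix.range_empty, Set.union_empty,
                Set.singleton_union, Submodule.mem_span_pair] at h2
              obtain ⟨a, b, hab⟩ := h2
              refine Finset.mem_image.2 ⟨(a, b), Finset.mem_erase.2 ⟨fun h0 => hh.2.1 ?_,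
                Finset.mem_univ _⟩, hab⟩
              simp only [Prod.mk_eq_zero] at h0
              rw [← hab, h0.1, h0.2, zero_smul, zero_smul, add_zero]
            refine (Finset.card_le_card h1).trans (Finset.card_image_le.trans ?_)
            rw [Finset.card_erase_of_mem (Finset.mem_univ _), Finset.card_univ, Fintype.card_prod, hF]
          have hT'c : T'.card = (e + 1) * (e - 1) := by
            rw [hT', Finset.card_biUnion, Finset.sum_const_nat (m := e - 1), hPc]
            · intro c hc
              obtain ⟨hco, -, hcK⟩ := hPmem c hc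
              obtain ⟨f', hf', hf'L⟩ := hlinv c hco
              rw [← hq, ← card_ker_class hf']
              congr 1
              ext h
              simp only [hT, Finset.mem_filter, Finset.mem_univ, true_and]
              constructor
              · rintro ⟨⟨h0, -⟩, hv⟩
                exact ⟨h0, Submodule.ext fun v => by
                  rw [LinearMap.mem_ker, LinearMap.mem_ker, hv, hf'L]⟩
              · rintro ⟨h0, hv⟩
                have hv' : ∀ v, h v = 0 ↔ χ.ι v • c = c := fun v => by
                  rw [← LinearMap.mem_ker, hv, LinearMap.mem_ker, hf'L]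
                exact ⟨⟨h0, fun v a b => (hv' v).2 (hcK v a b)⟩, hv'⟩
            · intro c hc c' hc' hne'
              show Disjoint _ _
              rw [Finset.disjoint_left]
              intro h hh hh'
              rw [Finset.mem_filter] at hh hh'
              obtain ⟨hco, hxc, -⟩ := hPmem c hc
              obtain ⟨hco', hxc', -⟩ := hPmem c' hc'
              exact hne' (huniq hco' hco hxc' hxc fun v => (hh'.2 v).symm.trans (hh.2 v))
          have hTT : T' = T := by
            refine Finset.eq_of_subset_of_card_le ?_ ?_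
            · intro h hh
              obtain ⟨c, -, hc⟩ := Finset.mem_biUnion.1 hh
              exact (Finset.mem_filter.1 hc).1
            · rw [hT'c]
              refine hTle.trans (le_of_eq ?_)
              obtain ⟨e', he'⟩ : ∃ e', e = e' + 1 := ⟨e - 1, by omega⟩
              rw [he', Nat.add_sub_cancel,
                show (e' + 1) * (e' + 1) = (e' + 1 + 1) * e' + 1 by ring, Nat.add_sub_cancel]
          have hsum : f + g ∈ T' := by
            rw [hTT, hT, Finset.mem_filter]
            exact ⟨Finset.mem_univ _, hfg, fun v a b => by simp [a, b]⟩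
          obtain ⟨c, hc, hcfg⟩ := Finset.mem_biUnion.1 hsum
          obtain ⟨hco, hxc, -⟩ := hPmem c hc
          rw [huniq hco (hEo _ hfg) hxc (hEx _ hfg)
            fun v => ((hEf _ hfg v).symm.trans ((Finset.mem_filter.1 hcfg).2 v)).symm]
          rw [hP, Finset.mem_filter] at hc
          exact hc.2 ⟨hf hf0, hg hg0⟩
        smul_mem' := by
          intro a f hf h
          obtain ⟨ha, hf0⟩ : a ≠ 0 ∧ f ≠ 0 := smul_ne_zero_iff.1 h
          rw [huniq (hEo f hf0) (hEo _ h) (hEx f hf0) (hEx _ h) fun v => ?_]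
          · exact hf hf0
          · rw [← hEf f hf0, ← hEf _ h, LinearMap.smul_apply, smul_eq_zero, or_iff_right ha] }
    have hΓmem : ∀ f, f ∈ Γ ↔ (f ≠ 0 → y ∈ d.S (E f)) := fun f => Iff.rfl
    -- the size of `Γ`
    have hΓcard : Nat.card Γ = s := by
      set Γ' := univ.filter fun f : Dual F V => f ≠ 0 ∧ y ∈ d.S (E f) with hΓ'
      have h1 : Γ'.card = d.lam * (e - 1) := by
        rw [← d.card_through_two (show x₀ ≠ y from fun h => hx₀ (h ▸ hy)),
          Finset.card_eq_sum_card_fiberwise (f := E) (t := d.through x₀ ∩ d.through y),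
          Finset.sum_const_nat (m := e - 1)]
        · intro c hc
          simp only [Finset.mem_inter, mem_through] at hc
          have hco : c ≠ d.o := fun h => hx₀ (by rw [h, d.S_o] at hc; exact hc.1)
          obtain ⟨f', hf', hf'L⟩ := hlinv c hco
          rw [← hq, ← card_ker_class hf']
          congr 1
          ext f
          simp only [hΓ', Finset.mem_filter, Finset.mem_univ, true_and]
          constructor
          · rintro ⟨⟨h0, -⟩, rfl⟩
            exact ⟨h0, Submodule.ext fun v => by
              rw [LinearMap.mem_ker, LinearMap.mem_ker, hEf f h0, hf'L]⟩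
          · rintro ⟨h0, hv⟩
            have hc' : E f = c := huniq hco (hEo f h0) hc.1 (hEx f h0) fun v => by
              rw [← hEf f h0, ← hf'L, ← LinearMap.mem_ker, ← LinearMap.mem_ker, hv]
            exact ⟨⟨h0, hc' ▸ hc.2⟩, hc'⟩
        · intro f hf
          simp only [hΓ', Finset.coe_filter, Finset.mem_univ, true_and, Set.mem_ofPred_eq] at hf
          simpa using ⟨hEx f hf.1, hf.2⟩
      have h2 : Nat.card Γ = Γ'.card + 1 := by
        rw [Nat.card_eq_fintype_card, Fintype.card_subtype,
          ← Finset.card_insert_of_notMem (show (0 : Dual F V) ∉ Γ' by simp [hΓ'])]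
        congr 1
        ext f
        simp only [Finset.mem_filter, Finset.mem_univ, true_and, Finset.mem_insert, hΓmem, hΓ']
        tauto
      obtain ⟨w, -, hkw, -, hws⟩ := hZ.toSemi.exists_w hC
      obtain rfl : w = 1 := by rw [← he] at hkw; omega
      rw [one_mul, ← hs, ← he] at hws
      omega
    have hΓlt : Γ < ⊤ := by
      refine lt_top_iff_ne_top.2 fun h => ?_
      have hd : Nat.card (Dual F V) = Nat.card V :=
        (Nat.card_congr (Module.finBasis F V).toDualEquiv.toEquiv).symm
      rw [h, Nat.card_congr (Submodule.topEquiv (R := F) (M := Dual F V)).toEquiv, hd, hVes] at hΓcard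
      nlinarith
    obtain ⟨Θ, hΘ, hΘle⟩ := Γ.exists_le_ker_of_lt_top hΓlt
    refine ⟨(Module.evalEquiv F V).symm Θ, ?_, fun f hf => ?_⟩
    · intro h
      exact hΘ ((Module.evalEquiv F V).symm.map_eq_zero_iff.1 h)
    · have heq : Γ = LinearMap.ker Θ := by
        refine SetLike.ext' (Set.eq_of_subset_of_ncard_le hΘle ?_ (Set.toFinite _))
        rw [← Nat.card_coe_set_eq, ← Nat.card_coe_set_eq]
        have h1 := card_ker_mul hΘ
        rw [(Nat.card_congr (Module.finBasis F V).toDualEquiv.toEquiv).symm, hVes, hq, mul_comm e] at h1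
        exact ((Nat.eq_of_mul_eq_mul_right (show 0 < e by omega) h1).trans hΓcard.symm).le
      have h1 : f ∈ Γ ↔ y ∈ d.S (E f) := ⟨fun h => h hf, fun h _ => h⟩
      rw [← h1, heq, LinearMap.mem_ker, Module.apply_evalEquiv_symm_apply]
  choose! dir hdir0 hdir using hline
  -- the trace of a block on `B`
  have htrace : ∀ c (hc : c ≠ d.o) (y : Ω), y ∈ d.B →
      (y ∈ d.S c ↔ χ.ι (dir y) • c = c) := by
    intro c hc y hy
    obtain ⟨f, hf, hfL⟩ := hlinv c hc
    have hst : stab Z c = stab Z (E f) :=
      (χ.fixer_eq_iff c (E f)).1 (Submodule.ext fun v => (hfL v).symm.trans (hEf f hf v))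
    obtain ⟨q, hq, rfl⟩ := hZ.exists_smul_eq_of_stab_eq (hEo f hf) hc hst
    rw [← hfL, ← hdir y hy f hf]
    conv_lhs => rw [← hZ.fixB q hq y hy, d.smul_mem_S_iff]
  -- the coordinate map
  let φ₀ : Ω → Projectivization F (F × V) := fun x =>
    if hx : x ∈ d.B then Projectivization.mk F ((0 : F), dir x) (by simpa using hdir0 x hx)
    else Projectivization.mk F ((1 : F), (hpt_surj x hx).choose) (by simp)
  have hφB : ∀ x (hx : x ∈ d.B),
      φ₀ x = Projectivization.mk F ((0 : F), dir x) (by simpa using hdir0 x hx) :=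
    fun x hx => dif_pos hx
  have hφA : ∀ v, φ₀ (pt v) = Projectivization.mk F ((1 : F), v) (by simp) := by
    intro v
    simp only [φ₀, dif_neg (hptB v)]
    have h := hpt_inj (hpt_surj (pt v) (hptB v)).choose_spec
    simp only [h]
  have hinj : Function.Injective φ₀ := by
    intro x y h
    by_cases hx : x ∈ d.B <;> by_cases hy : y ∈ d.B
    · rw [hφB x hx, hφB y hy, Projectivization.mk_eq_mk_iff'] at h
      obtain ⟨a, ha⟩ := h
      simp only [Prod.smul_mk, smul_zero, Prod.mk.injEq, true_and] at ha
      by_contra hne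
      have ha0 : a ≠ 0 := fun h0 => hdir0 x hx (by rw [← ha, h0, zero_smul])
      have hsub : d.through x ⊆ d.through x ∩ d.through y := by
        intro c hc
        refine Finset.mem_inter.2 ⟨hc, ?_⟩
        rw [mem_through] at hc ⊢
        by_cases hco : c = d.o
        · rw [hco, d.S_o]; exact hy
        obtain ⟨f, -, hfL⟩ := hlinv c hco
        rw [htrace c hco x hx, ← hfL, ← ha, map_smul, smul_eq_zero, or_iff_right ha0] at hc
        rwa [htrace c hco y hy, ← hfL]
      have h1 := Finset.card_le_card hsub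
      rw [d.card_through, d.card_through_two hne] at h1
      have := d.lam_add_two_le
      omega
    · obtain ⟨v, rfl⟩ := hpt_surj y hy
      rw [hφB x hx, hφA, Projectivization.mk_eq_mk_iff'] at h
      obtain ⟨a, ha⟩ := h
      simp only [Prod.smul_mk, smul_eq_mul, mul_one, Prod.mk.injEq] at ha
      exact absurd (by rw [← ha.2, ha.1, zero_smul]) (hdir0 x hx)
    · obtain ⟨v, rfl⟩ := hpt_surj x hx
      rw [hφB y hy, hφA, Projectivization.mk_eq_mk_iff'] at h
      obtain ⟨a, ha⟩ := h
      simp at ha
    · obtain ⟨v, rfl⟩ := hpt_surj x hx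
      obtain ⟨w, rfl⟩ := hpt_surj y hy
      rw [hφA, hφA, Projectivization.mk_eq_mk_iff'] at h
      obtain ⟨a, ha⟩ := h
      simp only [Prod.smul_mk, smul_eq_mul, mul_one, Prod.mk.injEq] at ha
      rw [← ha.2, ha.1, one_smul]
  have hfin : Module.finrank F (F × V) = D + 1 := by
    rw [Module.finrank_prod, Module.finrank_self, add_comm]
  have hcard : Nat.card (Projectivization F (F × V)) = Nat.card Ω := by
    have h := Projectivization.card F (F × V)
    rw [Nat.card_prod, hVes, hq] at h
    obtain ⟨w, -, hkw, -, hws⟩ := hZ.toSemi.exists_w hC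
    obtain rfl : w = 1 := by rw [← he] at hkw; omega
    rw [one_mul, ← hs, ← he] at hws
    have hn : d.n = d.k + e * s := by have := d.k_add_two_le; rw [hes, ← hnk]; omega
    show _ = d.n
    apply Nat.eq_of_mul_eq_mul_right (show 0 < e - 1 by omega)
    rw [← h]
    obtain ⟨e', he'⟩ : ∃ e', e = e' + 1 := ⟨e - 1, by omega⟩
    obtain ⟨s', hs'⟩ : ∃ s', s = s' + 1 := ⟨s - 1, by omega⟩
    rw [hn, hk, he', hs', Nat.add_sub_cancel]
    rw [he', hs', Nat.add_sub_cancel, Nat.add_sub_cancel] at hws
    subst hws
    apply Nat.sub_eq_of_eq_add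
    ring
  let φ₁ : Ω ≃ Projectivization F (F × V) :=
    Equiv.ofBijective φ₀ ((Nat.bijective_iff_injective_and_card _).2 ⟨hinj, hcard.symm⟩)
  let b : (F × V) ≃ₗ[F] (Fin (D + 1) → F) :=
    LinearEquiv.ofFinrankEq _ _ (by rw [hfin, Module.finrank_fin_fun])
  refine ⟨F, inferInstance, inferInstance, D, hD2,
    φ₁.trans (Equiv.ofBijective
      (Projectivization.map (b : (F × V) →ₗ[F] (Fin (D + 1) → F)) b.injective) ⟨?_, ?_⟩), ?_⟩
  · exact Projectivization.map_injective _ _
  · intro z
    induction z using Projectivization.ind with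
    | h v hv =>
      refine ⟨Projectivization.mk F (b.symm v) ?_, ?_⟩
      · simpa using hv
      · simp [Projectivization.map_mk]
  -- evaluation of functionals on representatives
  have hrep : ∀ (ψ : Dual F (Fin (D + 1) → F)) (w : F × V) (hw : w ≠ 0),
      ψ (Projectivization.map (b : (F × V) →ₗ[F] (Fin (D + 1) → F)) b.injective
        (Projectivization.mk F w hw)).rep = 0 ↔ ψ (b w) = 0 := by
    intro ψ w hw
    have h := Projectivization.mk_rep (Projectivization.map
      (b : (F × V) →ₗ[F] (Fin (D + 1) → F)) b.injective (Projectivization.mk F w hw))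
    conv_rhs at h => rw [Projectivization.map_mk]
    rw [Projectivization.mk_eq_mk_iff] at h
    obtain ⟨a, ha⟩ := h
    rw [← ha, Units.smul_def, map_smul, smul_eq_zero, or_iff_right a.ne_zero]
    rfl
  -- a functional describes a block
  have hdesc : ∀ (ψ : Dual F (F × V)) (c : G ⧸ d.H),
      (∀ v, pt v ∈ d.S c ↔ ψ (1, v) = 0) →
      (∀ y ∈ d.B, y ∈ d.S c ↔ ψ (0, dir y) = 0) →
      ∀ x, x ∈ d.S c ↔ (ψ.comp b.symm.toLinearMap)
        (Projectivization.map (b : (F × V) →ₗ[F] (Fin (D + 1) → F)) b.injective (φ₁ x)).rep = 0 := by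
    intro ψ c hA hB x
    show _ ↔ (ψ.comp b.symm.toLinearMap) (Projectivization.map
      (b : (F × V) →ₗ[F] (Fin (D + 1) → F)) b.injective (φ₀ x)).rep = 0
    by_cases hx : x ∈ d.B
    · rw [hφB x hx, hrep, hB x hx]
      simp
    · obtain ⟨v, rfl⟩ := hpt_surj x hx
      rw [hφA, hrep, hA]
      simp
  have hblock : ∀ (f : Dual F V) (c : G ⧸ d.H), c ≠ d.o → (∀ v, f v = 0 ↔ χ.ι v • c = c) →
      ∀ u, pt u ∈ d.S c →
        (∀ v, pt v ∈ d.S c ↔
          (f.comp (LinearMap.snd F F V) - f u • LinearMap.fst F F V) (1, v) = 0) ∧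
        ∀ y ∈ d.B, y ∈ d.S c ↔
          (f.comp (LinearMap.snd F F V) - f u • LinearMap.fst F F V) (0, dir y) = 0 := by
    intro f c hc hfL u hu
    refine ⟨fun v => ?_, fun y hy => ?_⟩
    · obtain ⟨u', -, hu'⟩ := hcoset c hc
      rw [hu']
      simp only [LinearMap.sub_apply, LinearMap.comp_apply, LinearMap.snd_apply,
        LinearMap.smul_apply, LinearMap.fst_apply, smul_eq_mul, mul_one]
      have h := (hu' u).1 hu
      rw [← hfL, _root_.map_sub, sub_eq_zero] at h
      rw [← hfL, _root_.map_sub, h]
    · rw [htrace c hc y hy, ← hfL]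
      simp
  refine ⟨fun ψ hψ => ?_, fun c => ?_⟩
  · -- every hyperplane is a block
    set ψ' : Dual F (F × V) := ψ.comp b.toLinearMap with hψ'
    have hψb : ψ = ψ'.comp b.symm.toLinearMap := by
      ext v
      simp [hψ']
    set f : Dual F V := ψ'.comp (LinearMap.inr F F V) with hf
    have hsplit : ∀ t v, ψ' (t, v) = t * ψ' (1, 0) + f v := by
      intro t v
      have h : ((t, v) : F × V) = t • ((1 : F), (0 : V)) + LinearMap.inr F F V v := by simp
      rw [h, map_add, map_smul, smul_eq_mul]
      rfl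
    rcases eq_or_ne f 0 with hf0 | hf0
    · have h10 : ψ' (1, 0) ≠ 0 := by
        intro h
        refine hψ ?_
        rw [hψb]
        refine LinearMap.ext fun v => ?_
        show ψ' ((b.symm v).1, (b.symm v).2) = 0
        rw [hsplit, h, hf0]
        simp
      refine ⟨d.o, fun x => ?_⟩
      rw [hψb]
      refine hdesc ψ' d.o (fun v => ?_) (fun y hy => ?_) x
      · rw [hsplit, hf0]
        simp [h10, hptB v]
      · rw [hsplit, hf0]
        simp [hy]
    · obtain ⟨w, hw⟩ := f.surjective_of_ne_zero hf0 (-ψ' (1, 0))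
      refine ⟨χ.ι w • E f, fun x => ?_⟩
      have hc : χ.ι w • E f ≠ d.o := fun h => hEo f hf0 (by
        rw [← inv_smul_smul (χ.ι w) (E f), h,
          d.smul_o_iff.2 (d.H.inv_mem (hZ.toSemi.le_H (χ.mem _)))])
      have hwu : pt w ∈ d.S (χ.ι w • E f) := (d.smul_mem_S_iff _ _ _).2 (hEx f hf0)
      have hfc : ∀ v, f v = 0 ↔ χ.ι v • χ.ι w • E f = χ.ι w • E f := fun v => by
        rw [← mul_smul, hZ.comm _ (χ.mem v) _ (χ.mem w), mul_smul, smul_left_cancel_iff, hEf f hf0]
      obtain ⟨hA, hB⟩ := hblock f _ hc hfc w hwu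
      have he : ψ' = f.comp (LinearMap.snd F F V) - f w • LinearMap.fst F F V := by
        refine LinearMap.ext fun ⟨t, v⟩ => ?_
        rw [hsplit, hw]
        simp only [LinearMap.sub_apply, LinearMap.comp_apply, LinearMap.snd_apply,
          LinearMap.smul_apply, LinearMap.fst_apply, smul_eq_mul]
        ring
      rw [hψb, he]
      exact hdesc _ _ hA hB x
  · -- every block is a hyperplane
    rcases eq_or_ne c d.o with rfl | hc
    · refine ⟨(LinearMap.fst F F V).comp b.symm.toLinearMap, ?_,
        hdesc (LinearMap.fst F F V) d.o (fun v => by simp [hptB v]) (fun y hy => by simp [hy])⟩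
      intro h
      have := LinearMap.congr_fun h (b (1, 0))
      simp at this
    · obtain ⟨f, hf, hfL⟩ := hlinv c hc
      obtain ⟨u, hu, -⟩ := hcoset c hc
      obtain ⟨hA, hB⟩ := hblock f c hc hfL u hu
      refine ⟨(f.comp (LinearMap.snd F F V) - f u • LinearMap.fst F F V).comp b.symm.toLinearMap,
        ?_, hdesc _ c hA hB⟩
      intro h
      refine hf (LinearMap.ext fun v => ?_)
      have := LinearMap.congr_fun h (b (0, v))
      simpa using this

theorem coords_of_chart (χ : Chart p Z V) (hZ : d.Elem p Z) {C : G ⧸ d.H} (hC : C ≠ d.o)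
    (hbig : (blkOrbit Z C).ncard < Nat.card (stab Z C)) : d.HasCoords := by
  obtain ⟨F, iF, iT, f, hcard, hf⟩ := (χ.family hZ hC hbig).exists_field
  letI : Module F V := Module.compHom V f
  exact coords_of_field χ hZ hC hbig hcard fun c hc a v hv => hf a _ ⟨c, hc, rfl⟩ v hv

theorem hasCoords_of_big (hZ : d.Elem p Z) {C : G ⧸ d.H} (hC : C ≠ d.o)
    (hbig : (blkOrbit Z C).ncard < Nat.card (stab Z C)) : d.HasCoords := by
  haveI := Fact.mk hZ.prime
  letI : CommGroup Z :=
    { (inferInstance : Group Z) with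
      mul_comm := fun a b => Subtype.ext (hZ.comm a a.2 b b.2) }
  letI : Module (ZMod p) (Additive Z) :=
    AddCommGroup.zmodModule fun a => Subtype.ext (hZ.pow_p (Additive.toMul a : Z) (Additive.toMul a : Z).2)
  let χ : Chart p Z (Additive Z) :=
    { ι := fun a => ((Additive.toMul a : Z) : G)
      mem := fun a => (Additive.toMul a : Z).2
      inj := fun a b h => Subtype.ext h
      surj := fun z hz => ⟨Additive.ofMul (⟨z, hz⟩ : Z), rfl⟩
      map_add := fun _ _ => rfl }
  haveI : Finite (Additive Z) := inferInstanceAs (Finite Z)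
  exact coords_of_chart χ hZ hC hbig

end Datum

end Cfsg.Agent.SymDesign
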