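import Cfsg.Agent.Lib.SymDesign.Opp

/-!
# Hyperplanes of an elementary abelian semiregular group
-/

set_option autoImplicit false
set_option linter.unusedSectionVars false

namespace Cfsg.Agent.SymDesign

open MulAction Finset
open scoped Pointwise

section Els

variable {G : Type*} [Group G] [Finite G]

/-- The elements of a subgroup as a finset. -/
noncomputable def els (W : Subgroup G) : Finset G := (Set.toFinite (W : Set G)).toFinset

@[simp] theorem mem_els {W : Subgroup G} {g : G} : g ∈ els W ↔ g ∈ W := by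
  simp [els]

theorem card_els (W : Subgroup G) : (els W).card = Nat.card W := by
  rw [els, ← Set.ncard_eq_toFinset_card]
  exact (Nat.card_coe_set_eq _).symm

/-- A hyperplane of an elementary abelian group. -/
structure Hyperplane (p : ℕ) (Z W : Subgroup G) : Prop where
  le : W ≤ Z
  card : p * Nat.card W = Nat.card Z

variable {p : ℕ} {Z W : Subgroup G}

theorem eq_of_pow_mem (hp : p.Prime) {l : G} (hlp : l ^ p = 1) (hl : l ∉ W) {i j : ℕ}
    (hi : i < p) (hj : j < p) (h : (l ^ i)⁻¹ * l ^ j ∈ W) : i = j := by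
  wlog hij : i ≤ j generalizing i j
  · refine (this hj hi ?_ (by omega)).symm
    simpa using W.inv_mem h
  by_contra hne
  have ht : l ^ (j - i) ∈ W := by
    rw [pow_sub l hij]
    have hc : l ^ j * (l ^ i)⁻¹ = (l ^ i)⁻¹ * l ^ j :=
      ((Commute.refl l).pow_pow j i).inv_right.eq
    rwa [hc]
  have hcop : (j - i).Coprime p :=
    Nat.coprime_comm.1 ((Nat.Prime.coprime_iff_not_dvd hp).2 fun hd => by
      have := Nat.le_of_dvd (by omega) hd
      omega)
  obtain ⟨u, -, hu⟩ := Nat.exists_mul_mod_eq_one_of_coprime hcop hp.one_lt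
  refine hl ?_
  have h1 : l ^ ((j - i) * u) = l := by rw [pow_eq_pow_mod _ hlp, hu, pow_one]
  rw [← h1, pow_mul]
  exact W.pow_mem ht u

/-- An element outside a hyperplane gives coset representatives. -/
theorem Hyperplane.exists_rep (hW : Hyperplane p Z W) (hp : p.Prime) {l : G} (hlp : l ^ p = 1)
    (hlZ : l ∈ Z) (hl : l ∉ W) {z : G} (hz : z ∈ Z) : ∃ i < p, (l ^ i)⁻¹ * z ∈ W := by
  classical
  set f : ℕ × G → G := fun a => l ^ a.1 * a.2 with hf
  have himg : (Finset.range p ×ˢ els W).image f = els Z := by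
    refine Finset.eq_of_subset_of_card_le ?_ ?_
    · intro g hg
      obtain ⟨⟨i, w⟩, hiw, rfl⟩ := Finset.mem_image.1 hg
      simp only [Finset.mem_product, mem_els] at hiw
      exact mem_els.2 (Z.mul_mem (Z.pow_mem hlZ i) (hW.le hiw.2))
    · rw [Finset.card_image_of_injOn, Finset.card_product, Finset.card_range, card_els, card_els,
        hW.card]
      rintro ⟨i, w⟩ hiw ⟨j, w'⟩ hjw he
      simp only [Finset.coe_product, Set.mem_prod, Finset.mem_coe, Finset.mem_range, mem_els]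
        at hiw hjw
      have he' : l ^ i * w = l ^ j * w' := he
      have hij : i = j := by
        refine eq_of_pow_mem hp hlp hl hiw.1 hjw.1 ?_
        have : (l ^ i)⁻¹ * l ^ j = w * w'⁻¹ := by
          rw [inv_mul_eq_iff_eq_mul, ← mul_assoc, he', mul_inv_cancel_right]
        rw [this]
        exact W.mul_mem hiw.2 (W.inv_mem hjw.2)
      subst hij
      rw [mul_left_cancel he']
  have hz' : z ∈ (Finset.range p ×ˢ els W).image f := himg.symm ▸ mem_els.2 hz
  obtain ⟨⟨i, w⟩, hiw, rfl⟩ := Finset.mem_image.1 hz'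
  simp only [Finset.mem_product, Finset.mem_range, mem_els] at hiw
  exact ⟨i, hiw.1, by simpa [hf] using hiw.2⟩

theorem Hyperplane.card_inf (hW : Hyperplane p Z W) (hp : p.Prime)
    (hpow : ∀ a ∈ Z, a ^ p = 1) {L : Subgroup G} (hL : L ≤ Z) (hnle : ¬L ≤ W) :
    p * Nat.card ↥(L ⊓ W) = Nat.card L := by
  classical
  obtain ⟨l, hlL, hlW⟩ := SetLike.not_le_iff_exists.1 hnle
  rw [← card_els, ← card_els]
  conv_lhs => arg 1; rw [← Finset.card_range p]
  rw [← Finset.card_product]
  refine Finset.card_bij (fun a _ => l ^ a.1 * a.2) ?_ ?_ ?_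
  · rintro ⟨i, w⟩ hiw
    simp only [Finset.mem_product, mem_els, Subgroup.mem_inf] at hiw
    exact mem_els.2 (L.mul_mem (L.pow_mem hlL i) hiw.2.1)
  · rintro ⟨i, w⟩ hiw ⟨j, w'⟩ hjw he
    simp only [Finset.mem_product, Finset.mem_range, mem_els, Subgroup.mem_inf] at hiw hjw
    have he' : l ^ i * w = l ^ j * w' := he
    have hij : i = j := by
      refine eq_of_pow_mem hp (hpow l (hL hlL)) hlW hiw.1 hjw.1 ?_
      have : (l ^ i)⁻¹ * l ^ j = w * w'⁻¹ := by
        rw [inv_mul_eq_iff_eq_mul, ← mul_assoc, he', mul_inv_cancel_right]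
      rw [this]
      exact W.mul_mem hiw.2.2 (W.inv_mem hjw.2.2)
    subst hij
    rw [mul_left_cancel he']
  · intro z hz
    rw [mem_els] at hz
    obtain ⟨i, hi, hiW⟩ := hW.exists_rep hp (hpow l (hL hlL)) (hL hlL) hlW (hL hz)
    refine ⟨(i, (l ^ i)⁻¹ * z), ?_, mul_inv_cancel_left _ _⟩
    simp only [Finset.mem_product, Finset.mem_range, mem_els, Subgroup.mem_inf]
    exact ⟨hi, L.mul_mem (L.inv_mem (L.pow_mem hlL i)) hz, hiW⟩

theorem exists_hyperplane (hp : p.Prime) (hcomm : ∀ a ∈ Z, ∀ b ∈ Z, a * b = b * a)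
    (hpow : ∀ a ∈ Z, a ^ p = 1) {L : Subgroup G} (hL : L ≤ Z) {z : G} (hz : z ∈ Z) (hzL : z ∉ L) :
    ∃ W : Subgroup G, Hyperplane p Z W ∧ L ≤ W ∧ z ∉ W := by
  classical
  obtain ⟨W, hLW, hmax⟩ := Finite.exists_le_maximal
    (p := fun W : Subgroup G => L ≤ W ∧ W ≤ Z ∧ z ∉ W) (a := L) ⟨le_rfl, hL, hzL⟩
  obtain ⟨-, hWZ, hzW⟩ := hmax.1
  refine ⟨W, ⟨hWZ, ?_⟩, hLW, hzW⟩
  have hrep : ∀ y ∈ Z, ∃ i < p, (z ^ i)⁻¹ * y ∈ W := by
    intro y hy
    by_cases hyW : y ∈ W
    · exact ⟨0, hp.pos, by simpa using hyW⟩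
    let W' : Subgroup G :=
      { carrier := {g | ∃ j : ℕ, ∃ w ∈ W, y ^ j * w = g}
        one_mem' := ⟨0, 1, W.one_mem, by simp⟩
        mul_mem' := by
          rintro _ _ ⟨j, w, hw, rfl⟩ ⟨j', w', hw', rfl⟩
          refine ⟨j + j', w * w', W.mul_mem hw hw', ?_⟩
          have hc : w * y ^ j' = y ^ j' * w := hcomm w (hWZ hw) _ (Z.pow_mem hy j')
          calc y ^ (j + j') * (w * w') = y ^ j * (y ^ j' * w) * w' := by rw [pow_add]; group
            _ = _ := by rw [← hc]; group
        inv_mem' := by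
          rintro _ ⟨j, w, hw, rfl⟩
          refine ⟨j * (p - 1), w⁻¹, W.inv_mem hw, ?_⟩
          have h1 : y ^ (j * (p - 1)) = (y ^ j)⁻¹ := by
            rw [eq_inv_iff_mul_eq_one, ← pow_add, ← Nat.mul_succ,
              Nat.succ_eq_add_one, Nat.sub_add_cancel hp.one_le, mul_comm, pow_mul, hpow y hy,
              one_pow]
          rw [h1, _root_.mul_inv_rev]
          exact (hcomm _ (Z.inv_mem (Z.pow_mem hy j)) _ (Z.inv_mem (hWZ hw))) }
    have hWW' : W ≤ W' := fun w hw => ⟨0, w, hw, by simp⟩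
    have hyW' : y ∈ W' := ⟨1, 1, W.one_mem, by simp⟩
    have hW'Z : W' ≤ Z := by
      rintro _ ⟨j, w, hw, rfl⟩
      exact Z.mul_mem (Z.pow_mem hy j) (hWZ hw)
    have hzW' : z ∈ W' := by
      by_contra hn
      exact hyW (hmax.le_of_ge ⟨hLW.trans hWW', hW'Z, hn⟩ hWW' hyW')
    obtain ⟨j, w, hw, hjw⟩ := hzW'
    have hj : ¬p ∣ j := by
      rintro ⟨t, rfl⟩
      rw [pow_mul, hpow y hy, one_pow, one_mul] at hjw
      exact hzW (hjw ▸ hw)
    obtain ⟨u, hu, hju⟩ := Nat.exists_mul_mod_eq_one_of_coprime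
      (Nat.coprime_comm.1 ((Nat.Prime.coprime_iff_not_dvd hp).2 hj)) hp.one_lt
    refine ⟨u, hu, ?_⟩
    have h1 : z ^ u = y * w ^ u := by
      rw [← hjw, Commute.mul_pow (hcomm _ (Z.pow_mem hy j) _ (hWZ hw)), ← pow_mul,
        pow_eq_pow_mod _ (hpow y hy), hju, pow_one]
    rw [h1, _root_.mul_inv_rev, inv_mul_cancel_right]
    exact W.inv_mem (W.pow_mem hw u)
  rw [← card_els, ← card_els]
  conv_lhs => arg 1; rw [← Finset.card_range p]
  rw [← Finset.card_product]
  refine Finset.card_bij (fun a _ => z ^ a.1 * a.2) ?_ ?_ ?_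
  · rintro ⟨i, w⟩ hiw
    simp only [Finset.mem_product, mem_els] at hiw
    exact mem_els.2 (Z.mul_mem (Z.pow_mem hz i) (hWZ hiw.2))
  · rintro ⟨i, w⟩ hiw ⟨j, w'⟩ hjw he
    simp only [Finset.mem_product, Finset.mem_range, mem_els] at hiw hjw
    have he' : z ^ i * w = z ^ j * w' := he
    have hij : i = j := by
      refine eq_of_pow_mem hp (hpow z hz) hzW hiw.1 hjw.1 ?_
      have : (z ^ i)⁻¹ * z ^ j = w * w'⁻¹ := by
        rw [inv_mul_eq_iff_eq_mul, ← mul_assoc, he', mul_inv_cancel_right]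
      rw [this]
      exact W.mul_mem hiw.2 (W.inv_mem hjw.2)
    subst hij
    rw [mul_left_cancel he']
  · intro y hy
    rw [mem_els] at hy
    obtain ⟨i, hi, hiW⟩ := hrep y hy
    refine ⟨(i, (z ^ i)⁻¹ * y), ?_, mul_inv_cancel_left _ _⟩
    simp only [Finset.mem_product, Finset.mem_range, mem_els]
    exact ⟨hi, hiW⟩

end Els

variable {G Ω : Type*} [Group G] [MulAction G Ω] [Finite G] [Finite Ω] [FaithfulSMul G Ω]

namespace Datum

variable {d : Datum G Ω} [Fintype Ω] [Fintype (G ⧸ d.H)]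

theorem card_compl_filter [DecidablePred (· ∈ d.B)] :
    (univ.filter fun x : Ω => ¬ x ∈ d.B).card = d.n - d.k := by
  rw [← d.card_compl, Set.ncard_eq_toFinset_card']
  congr 1
  ext x
  simp

theorem card_B_filter [DecidablePred (· ∈ d.B)] :
    (univ.filter fun x : Ω => x ∈ d.B).card = d.k := by
  unfold k
  rw [Set.ncard_eq_toFinset_card']
  congr 1
  ext x
  simp

theorem sum_fix_finset {ι : Type*} [DecidableEq Ω] [DecidableEq (G ⧸ d.H)] (P : Finset ι)
    (f : ι → G) : ∑ x : Ω, (P.filter fun i => f i • x = x).card =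
      ∑ c : G ⧸ d.H, (P.filter fun i => f i • c = c).card := by
  simp only [Finset.card_filter]
  rw [Finset.sum_comm]
  conv_rhs => rw [Finset.sum_comm]
  simp only [← Finset.card_filter, d.card_fix]

variable {p : ℕ} {Z : Subgroup G}

/-- The stabilisers of the other blocks meeting a subgroup of `Z`. -/
theorem Semi.sum_card_inf [DecidableEq (G ⧸ d.H)] (hZ : d.Semi Z) {W : Subgroup G} (hW : W ≤ Z) :
    d.k * Nat.card W + (d.n - d.k) =
      Nat.card W + ∑ c ∈ univ.erase d.o, Nat.card ↥(stab Z c ⊓ W) := by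
  classical
  have h := d.sum_fix_finset (els W) id
  rw [← Finset.sum_filter_add_sum_filter_not univ (fun x : Ω => x ∈ d.B),
    ← Finset.add_sum_erase (univ : Finset (G ⧸ d.H)) _ (Finset.mem_univ d.o)] at h
  have h1 : ∀ x ∈ univ.filter (fun x : Ω => x ∈ d.B),
      ((els W).filter fun g => id g • x = x).card = Nat.card W := by
    intro x hx
    rw [Finset.filter_true_of_mem, card_els]
    exact fun g hg => hZ.fixB g (hW (mem_els.1 hg)) x (Finset.mem_filter.1 hx).2
  have h2 : ∀ x ∈ univ.filter (fun x : Ω => ¬ x ∈ d.B),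
      ((els W).filter fun g => id g • x = x).card = 1 := by
    intro x hx
    rw [Finset.card_eq_one]
    refine ⟨1, ?_⟩
    ext g
    simp only [id, Finset.mem_filter, mem_els, Finset.mem_singleton]
    constructor
    · rintro ⟨hg, hgx⟩
      by_contra h1
      exact (Finset.mem_filter.1 hx).2 (hZ.semi g (hW hg) h1 x hgx)
    · rintro rfl
      exact ⟨W.one_mem, one_smul G x⟩
  have h3 : ((els W).filter fun g => id g • d.o = d.o).card = Nat.card W := by
    rw [Finset.filter_true_of_mem, card_els]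
    exact fun g hg => d.smul_o_iff.2 (hZ.le_H (hW (mem_els.1 hg)))
  have h4 : ∀ c : G ⧸ d.H, ((els W).filter fun g => id g • c = c).card =
      Nat.card ↥(stab Z c ⊓ W) := by
    intro c
    rw [← card_els]
    congr 1
    ext g
    simp only [id, stab, Finset.mem_filter, mem_els, Subgroup.mem_inf, mem_stabilizer_iff]
    exact ⟨fun hg => ⟨⟨hW hg.1, hg.2⟩, hg.1⟩, fun hg => ⟨hg.2, hg.1.2⟩⟩
  rw [Finset.sum_congr rfl h1, Finset.sum_congr rfl h2, h3,
    Finset.sum_congr rfl fun c _ => h4 c, Finset.sum_const, Finset.sum_const, card_B_filter,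
    card_compl_filter, smul_eq_mul, smul_eq_mul, mul_one] at h
  exact h

open scoped Classical in
/-- Exactly `(n - k) / s` other blocks have stabiliser inside a hyperplane. -/
theorem Elem.card_le_hyperplane (hZ : d.Elem p Z) {W : Subgroup G} (hW : Hyperplane p Z W)
    {C : G ⧸ d.H} (hC : C ≠ d.o) :
    ((univ.erase d.o).filter fun c => stab Z c ≤ W).card * Nat.card (stab Z C) = d.n - d.k := by
  have hW' := hZ.toSemi.sum_card_inf hW.le
  have hZ' := hZ.toSemi.sum_card_inf le_rfl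
  have hs : ∀ c ∈ univ.erase d.o, Nat.card ↥(stab Z c ⊓ Z) = Nat.card (stab Z C) := by
    intro c hc
    rw [inf_eq_left.2 (show stab Z c ≤ Z from inf_le_left)]
    exact hZ.toSemi.card_stab_eq (Finset.mem_erase.1 hc).1 hC
  rw [Finset.sum_congr rfl hs, Finset.sum_const, smul_eq_mul] at hZ'
  have hsum : p * ∑ c ∈ univ.erase d.o, Nat.card ↥(stab Z c ⊓ W) =
      (univ.erase d.o).card * Nat.card (stab Z C) +
        ((univ.erase d.o).filter fun c => stab Z c ≤ W).card *
          ((p - 1) * Nat.card (stab Z C)) := by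
    rw [Finset.card_filter, Finset.sum_mul, Finset.mul_sum, ← smul_eq_mul ((univ.erase d.o).card),
      ← Finset.sum_const, ← Finset.sum_add_distrib]
    refine Finset.sum_congr rfl fun c hc => ?_
    have h1 : Nat.card (stab Z c) = Nat.card (stab Z C) :=
      hZ.toSemi.card_stab_eq (Finset.mem_erase.1 hc).1 hC
    split_ifs with hle
    · rw [inf_eq_left.2 hle, h1, one_mul]
      have := hZ.prime.one_le
      nth_rewrite 1 [show p = (p - 1) + 1 by omega]
      ring
    · rw [hW.card_inf hZ.prime hZ.pow_p (show stab Z c ≤ Z from inf_le_left) hle, h1, zero_mul,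
        add_zero]
  have h := congrArg (p * ·) hW'
  simp only [mul_add, hsum] at h
  rw [mul_left_comm, hW.card] at h
  have hp := hZ.prime.two_le
  obtain ⟨t, ht⟩ : ∃ t, p = t + 2 := ⟨p - 2, by omega⟩
  rw [ht, show t + 2 - 1 = t + 1 from by omega] at h
  apply Nat.eq_of_mul_eq_mul_left (show 0 < t + 1 by omega)
  nlinarith

end Datum

end Cfsg.Agent.SymDesign
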