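import Cfsg.Agent.Lib.SymDesign.Axial
import Cfsg.Agent.Lib.Char.FrobeniusKernel
import Mathlib.GroupTheory.GroupAction.FixingSubgroup
import Mathlib.GroupTheory.Perm.Cycle.Type

/-!
# An elementary abelian semiregular normal subgroup in the kernel of an orbit

If `H` is unfaithful on the orbit, the kernel is semiregular on the other orbit or a Frobenius
group there; either way `H` normalises an elementary abelian semiregular subgroup of it.
-/

set_option autoImplicit false
set_option linter.unusedSectionVars false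

namespace Cfsg.Agent.SymDesign

open MulAction Finset
open scoped Pointwise

variable {G Ω : Type*} [Group G] [MulAction G Ω] [Finite G] [Finite Ω] [FaithfulSMul G Ω]

namespace Datum

variable (d : Datum G Ω) [Fintype Ω] [Fintype (G ⧸ d.H)]

/-- An elementary abelian semiregular normal subgroup of the kernel. -/
structure Elem (p : ℕ) (Z : Subgroup G) : Prop extends d.Semi Z where
  prime : p.Prime
  comm : ∀ a ∈ Z, ∀ b ∈ Z, a * b = b * a
  pow_p : ∀ a ∈ Z, a ^ p = 1
  ne_bot : Z ≠ ⊥

theorem exists_elem_of_semi {R : Subgroup G} (hR : d.Semi R) (hne : R ≠ ⊥) :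
    ∃ (p : ℕ) (Z : Subgroup G), d.Elem p Z := by
  obtain ⟨p, hp, hpR⟩ := hR.exists_prime_isPGroup hne
  have := Fact.mk hp
  let Z : Subgroup G :=
    { carrier := {g | g ∈ R ∧ (∀ r ∈ R, r * g = g * r) ∧ g ^ p = 1}
      one_mem' := ⟨R.one_mem, fun r _ => by simp, one_pow p⟩
      mul_mem' := by
        rintro a b ⟨ha, hac, hap⟩ ⟨hb, hbc, hbp⟩
        refine ⟨R.mul_mem ha hb, fun r hr => ?_, ?_⟩
        · rw [← mul_assoc, hac r hr, mul_assoc, hbc r hr, mul_assoc]
        · rw [Commute.mul_pow (hbc a ha), hap, hbp, one_mul]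
      inv_mem' := by
        rintro a ⟨ha, hac, hap⟩
        refine ⟨R.inv_mem ha, fun r hr => ?_, by rw [inv_pow, hap, inv_one]⟩
        exact (Commute.inv_right (hac r hr)).eq }
  refine ⟨p, Z, ⟨fun z hz => hR.fixB z hz.1, ?_, fun z hz => hR.semi z hz.1⟩, hp,
    fun a ha b hb => hb.2.1 a ha.1, fun a ha => ha.2.2, ?_⟩
  · rintro h hh z ⟨hz, hzc, hzp⟩
    refine ⟨hR.norm h hh z hz, fun r hr => ?_, ?_⟩
    · have h1 := hzc (h⁻¹ * r * h) (by simpa using hR.norm h⁻¹ (d.H.inv_mem hh) r hr)
      calc r * (h * z * h⁻¹) = h * (h⁻¹ * r * h * z) * h⁻¹ := by group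
        _ = h * (z * (h⁻¹ * r * h)) * h⁻¹ := by rw [h1]
        _ = _ := by group
    · rw [conj_pow, hzp, mul_one, mul_inv_cancel]
  · have : Nontrivial R := (Subgroup.nontrivial_iff_ne_bot R).2 hne
    have := hpR.center_nontrivial
    obtain ⟨v, hv⟩ := (hpR.to_subgroup (Subgroup.center R)).exists_card_eq
    have hdvd : p ∣ Nat.card (Subgroup.center R) := by
      rcases v with _ | v
      · exact absurd hv (Finite.one_lt_card (α := Subgroup.center R)).ne'
      · exact hv ▸ dvd_pow_self p v.succ_ne_zero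
    obtain ⟨x, hx⟩ := exists_prime_orderOf_dvd_card' p hdvd
    intro hbot
    have hmem : ((x : R) : G) ∈ Z := by
      refine ⟨(x : R).2, fun r hr => congrArg Subtype.val (Subgroup.mem_center_iff.1 x.2 ⟨r, hr⟩), ?_⟩
      have h1 := pow_orderOf_eq_one x
      rw [hx] at h1
      exact congrArg (fun y : Subgroup.center R => ((y : R) : G)) h1
    rw [hbot, Subgroup.mem_bot] at hmem
    have h1 : x = 1 := Subtype.ext (Subtype.ext hmem)
    rw [h1, orderOf_one] at hx
    exact hp.ne_one hx.symm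

/-- The kernel of `H` on the orbit. -/
def ker : Subgroup G := fixingSubgroup G d.B

theorem mem_ker {g : G} : g ∈ d.ker ↔ ∀ b ∈ d.B, g • b = b := mem_fixingSubgroup_iff G

theorem ker_norm {h : G} (hh : h ∈ d.H) {g : G} (hg : g ∈ d.ker) : h * g * h⁻¹ ∈ d.ker := by
  rw [mem_ker] at hg ⊢
  intro b hb
  rw [mul_smul, mul_smul, hg _ ((d.smul_mem_B_iff (d.H.inv_mem hh)).2 hb), smul_inv_smul]

/-- From a nontrivial element fixing the orbit pointwise. -/
theorem exists_elem (hunf : ∃ σ : G, σ ≠ 1 ∧ ∀ b ∈ d.B, σ • b = b) :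
    ∃ (p : ℕ) (Z : Subgroup G), d.Elem p Z := by
  classical
  obtain ⟨σ, hσ, hσB⟩ := hunf
  have hσK : σ ∈ d.ker := d.mem_ker.2 hσB
  by_cases hs : ∀ g ∈ d.ker, g ≠ 1 → ∀ x : Ω, g • x = x → x ∈ d.B
  · exact d.exists_elem_of_semi
      ⟨fun g hg => d.mem_ker.1 hg, fun h hh g hg => d.ker_norm hh hg, hs⟩
      (fun h => hσ (by rw [h, Subgroup.mem_bot] at hσK; exact hσK))
  push Not at hs
  obtain ⟨g₀, hg₀K, hg₀1, x, hg₀x, hxB⟩ := hs
  have := Fintype.ofFinite G
  -- all stabilisers are conjugate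
  set P : Ω → Finset G := fun z => univ.filter fun g => g ∈ d.ker ∧ g • z = z with hP
  have hb : ∀ z, z ∉ d.B → (P z).card = (P x).card := by
    intro z hz
    obtain ⟨h, hh, rfl⟩ := d.trans_compl x z hxB hz
    refine (Finset.card_equiv (MulAut.conj h).toEquiv fun g => ?_).symm
    simp only [hP, Finset.mem_filter, Finset.mem_univ, true_and, MulEquiv.toEquiv_eq_coe,
      EquivLike.coe_coe, MulAut.conj_apply]
    constructor
    · rintro ⟨hg, hgx⟩
      exact ⟨d.ker_norm hh hg, by rw [mul_smul, mul_smul, inv_smul_smul, hgx]⟩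
    · rintro ⟨hg, hgx⟩
      refine ⟨by simpa [mul_assoc] using d.ker_norm (d.H.inv_mem hh) hg, ?_⟩
      rw [mul_smul, mul_smul, inv_smul_smul] at hgx
      exact MulAction.injective h hgx
  have hb2 : 2 ≤ (P x).card := Finset.one_lt_card.2
    ⟨1, by simp [hP, d.ker.one_mem], g₀, by simp [hP, hg₀K, hg₀x], Ne.symm hg₀1⟩
  set Kf : Finset G := univ.filter fun g => g ∈ d.ker with hKf
  -- orbit-stabiliser
  have horb : ∀ z, (Kf.image fun g => g • z).card * (P z).card = Kf.card := by
    intro z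
    rw [Finset.card_eq_sum_card_image (fun g => g • z) Kf, eq_comm, ← smul_eq_mul,
      ← Finset.sum_const]
    refine Finset.sum_congr rfl fun w hw => ?_
    obtain ⟨g₁, hg₁, rfl⟩ := Finset.mem_image.1 hw
    simp only [hKf, Finset.mem_filter, Finset.mem_univ, true_and] at hg₁
    refine (Finset.card_equiv (Equiv.mulLeft g₁) fun g => ?_).symm
    simp only [hP, hKf, Finset.mem_filter, Finset.mem_univ, true_and, Equiv.coe_mulLeft]
    rw [d.ker.mul_mem_cancel_left hg₁, mul_smul, smul_left_cancel_iff]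
  have htrans : ∀ y, y ∉ d.B → ∃ g ∈ d.ker, g • x = y := by
    intro y hy
    by_contra hno
    set Af : Finset Ω := univ.filter fun z => z ∉ d.B with hAf
    have hsum : ∑ z ∈ Af, ((P z).erase 1).card ≤ (Kf.erase 1).card := by
      rw [← Finset.card_biUnion]
      · refine Finset.card_le_card fun g hg => ?_
        simp only [hP, hKf, Finset.mem_biUnion, Finset.mem_erase, Finset.mem_filter,
          Finset.mem_univ, true_and] at hg ⊢
        obtain ⟨z, -, h1, h2, -⟩ := hg
        exact ⟨h1, h2⟩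
      · intro z hz z' hz' hne
        show Disjoint _ _
        rw [Finset.disjoint_left]
        intro g hg hg'
        simp only [hP, hAf, Finset.coe_filter, Finset.mem_univ, true_and, Set.mem_ofPred_eq,
          Finset.mem_erase, Finset.mem_filter] at hz hz' hg hg'
        exact hne (d.fix_le_one (d.mem_ker.1 hg.2.1) hg.1 hg.2.2 hg'.2.2 hz hz')
    have hconst : ∀ z ∈ Af, ((P z).erase 1).card = (P x).card - 1 := by
      intro z hz
      rw [Finset.card_erase_of_mem (by simp [hP, d.ker.one_mem]), hb z (by simpa [hAf] using hz)]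
    rw [Finset.sum_congr rfl hconst, Finset.sum_const, smul_eq_mul,
      Finset.card_erase_of_mem (by simp [hKf, d.ker.one_mem])] at hsum
    have hsub : ∀ z, z ∉ d.B → (Kf.image fun g => g • z) ⊆ Af := by
      intro z hz w hw
      obtain ⟨g, hg, rfl⟩ := Finset.mem_image.1 hw
      simp only [hKf, Finset.mem_filter, Finset.mem_univ, true_and] at hg
      simp [hAf, d.smul_mem_B_iff (d.mem_H_of_fix (d.mem_ker.1 hg)), hz]
    have hdis : Disjoint (Kf.image fun g => g • x) (Kf.image fun g => g • y) := by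
      rw [Finset.disjoint_left]
      intro w hw hw'
      obtain ⟨g, hg, rfl⟩ := Finset.mem_image.1 hw
      obtain ⟨g', hg', he⟩ := Finset.mem_image.1 hw'
      simp only [hKf, Finset.mem_filter, Finset.mem_univ, true_and] at hg hg'
      exact hno ⟨g'⁻¹ * g, d.ker.mul_mem (d.ker.inv_mem hg') hg,
        by rw [mul_smul, ← he, inv_smul_smul]⟩
    have h2 := Finset.card_le_card (Finset.union_subset (hsub x hxB) (hsub y hy))
    rw [Finset.card_union_of_disjoint hdis] at h2
    have h3 := horb x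
    have h4 := horb y
    rw [hb y hy] at h4
    have hK1 : 1 ≤ Kf.card := Finset.card_pos.2 ⟨1, by simp [hKf, d.ker.one_mem]⟩
    obtain ⟨t, ht⟩ : ∃ t, (P x).card = t + 2 := ⟨(P x).card - 2, by omega⟩
    obtain ⟨u, hu⟩ : ∃ u, Kf.card = u + 1 := ⟨Kf.card - 1, by omega⟩
    rw [ht, hu, show t + 2 - 1 = t + 1 from by omega, Nat.add_sub_cancel] at hsum
    rw [ht, hu] at h3 h4
    have h5 := Nat.mul_le_mul_right (t + 2) h2
    have h6 := Nat.mul_le_mul_right (t + 2) hsum
    nlinarith
  -- the Frobenius kernel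
  let Hx : Subgroup d.ker := (stabilizer G x).subgroupOf d.ker
  have hmal : Char.Malnormal Hx := by
    intro g hg h hh hgh
    by_contra h1
    refine hg ?_
    simp only [Hx, Subgroup.mem_subgroupOf, mem_stabilizer_iff, Subgroup.coe_mul,
      Subgroup.coe_inv] at hh hgh ⊢
    rw [mul_smul, mul_smul, smul_eq_iff_eq_inv_smul] at hgh
    have hB' : (g : G)⁻¹ • x ∉ d.B := fun hm =>
      hxB ((d.smul_mem_B_iff (d.H.inv_mem (d.mem_H_of_fix (d.mem_ker.1 g.2)))).1 hm)
    have h2 := d.fix_le_one (d.mem_ker.1 h.2) (fun h' => h1 (Subtype.ext h')) hh hgh hxB hB'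
    rw [eq_inv_smul_iff] at h2
    exact h2
  obtain ⟨T, -, -, hTc, hTmem⟩ := Char.exists_frobenius_kernel hmal
  have hT : ∀ g : G, g ∈ T.map d.ker.subtype ↔
      g ∈ d.ker ∧ (g = 1 ∨ ∀ y, y ∉ d.B → g • y ≠ y) := by
    intro g
    constructor
    · rintro ⟨⟨g, hg⟩, hgT, rfl⟩
      refine ⟨hg, ?_⟩
      rcases (hTmem _).1 hgT with h | h
      · exact Or.inl (congrArg Subtype.val h)
      · refine Or.inr fun y hy hfix => ?_
        obtain ⟨k, hk, rfl⟩ := htrans y hy
        refine h ⟨k, hk⟩ ?_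
        simp only [Hx, Subgroup.mem_subgroupOf, mem_stabilizer_iff, Subgroup.coe_mul,
          Subgroup.coe_inv, mul_smul]
        rw [inv_smul_eq_iff]
        exact hfix
    · rintro ⟨hg, h⟩
      refine ⟨⟨g, hg⟩, (hTmem _).2 ?_, rfl⟩
      rcases h with h | h
      · exact Or.inl (Subtype.ext h)
      · refine Or.inr fun k hk => ?_
        simp only [Hx, Subgroup.mem_subgroupOf, mem_stabilizer_iff, Subgroup.coe_mul,
          Subgroup.coe_inv, mul_smul, inv_smul_eq_iff] at hk
        exact h _ (fun hm => hxB ((d.smul_mem_B_iff (d.mem_H_of_fix (d.mem_ker.1 k.2))).1 hm)) hk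
  refine d.exists_elem_of_semi (R := T.map d.ker.subtype)
    ⟨fun g hg => d.mem_ker.1 ((hT g).1 hg).1, ?_, ?_⟩ ?_
  · intro h hh g hg
    obtain ⟨hgK, hg'⟩ := (hT g).1 hg
    refine (hT _).2 ⟨d.ker_norm hh hgK, ?_⟩
    rcases hg' with rfl | hg'
    · exact Or.inl (by simp)
    · refine Or.inr fun y hy hfix => ?_
      rw [mul_smul, mul_smul, smul_eq_iff_eq_inv_smul] at hfix
      exact hg' _ (fun hm => hy ((d.smul_mem_B_iff (d.H.inv_mem hh)).1 hm)) hfix
  · intro g hg h1 y hfix
    by_contra hy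
    exact ((hT g).1 hg).2.elim h1 fun h => h y hy hfix
  · intro hbot
    rw [Subgroup.map_eq_bot_iff_of_injective _ d.ker.subtype_injective] at hbot
    rw [hbot, Subgroup.isComplement'_bot_left] at hTc
    obtain ⟨y, hy, hyx⟩ : ∃ y, y ∉ d.B ∧ y ≠ x := by
      by_contra hh
      push Not at hh
      have h := Set.ncard_le_ncard (show d.Bᶜ ⊆ {x} from fun y hy => hh y hy) (Set.toFinite _)
      rw [Set.ncard_singleton] at h
      have := d.two_le_compl
      omega
    obtain ⟨k, hk, rfl⟩ := htrans y hy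
    have hm : (⟨k, hk⟩ : d.ker) ∈ Hx := hTc ▸ Subgroup.mem_top _
    exact hyx hm

end Datum

end Cfsg.Agent.SymDesign
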