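import Cfsg.Agent.Lib.SymDesign.Kernel

/-!
# The opposite group of a block

For a block `C` other than the base block, the elements of `H` in the axial group of `C` commute
with the stabiliser of `C` in the axial group of the base block.
-/

set_option autoImplicit false
set_option linter.unusedSectionVars false

namespace Cfsg.Agent.SymDesign

open MulAction Finset
open scoped Pointwise

variable {G Ω : Type*} [Group G] [MulAction G Ω] [Finite G] [Finite Ω] [FaithfulSMul G Ω]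

namespace Datum

variable {d : Datum G Ω} [Fintype Ω] [Fintype (G ⧸ d.H)]

/-- A chosen element taking the base block to `c`. -/
noncomputable def pick (c : G ⧸ d.H) : G := (d.exists_smul_o c).choose

theorem pick_spec (c : G ⧸ d.H) : pick c • d.o = c := (d.exists_smul_o c).choose_spec

/-- The axial group at the block `c`. -/
noncomputable def axial (Z : Subgroup G) (c : G ⧸ d.H) : Subgroup G :=
  Z.map (MulAut.conj (pick c)).toMonoidHom

theorem mem_axial {Z : Subgroup G} {c : G ⧸ d.H} {g : G} :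
    g ∈ axial Z c ↔ (pick c)⁻¹ * g * pick c ∈ Z := by
  constructor
  · rintro ⟨z, hz, rfl⟩
    simpa [mul_assoc] using hz
  · intro h
    exact ⟨_, h, by simp [mul_assoc]⟩

/-- The part of the axial group of `c` inside `H`. -/
noncomputable def opp (Z : Subgroup G) (c : G ⧸ d.H) : Subgroup G := axial Z c ⊓ d.H

variable {p : ℕ} {Z : Subgroup G}

theorem Semi.conj_mem_axial {c c' : G ⧸ d.H} (hZ : d.Semi Z) {g u : G} (hg : g • c = c')
    (hu : u ∈ axial Z c) : g * u * g⁻¹ ∈ axial Z c' := by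
  rw [mem_axial] at hu ⊢
  have hh : (pick c')⁻¹ * g * pick c ∈ d.H := by
    rw [← d.smul_o_iff, mul_smul, mul_smul, pick_spec, hg, inv_smul_eq_iff, pick_spec]
  convert hZ.norm _ hh _ hu using 1
  group

theorem Semi.axial_fix_iff {c : G ⧸ d.H} (hZ : d.Semi Z) {u : G} (hu : u ∈ axial Z c) (h1 : u ≠ 1)
    (x : Ω) : u • x = x ↔ x ∈ d.S c := by
  have h2 : (pick c)⁻¹ * u * pick c ≠ 1 := fun h =>
    h1 (conj_eq_one_iff.1 (by simpa using h : (pick c)⁻¹ * u * ((pick c)⁻¹)⁻¹ = 1))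
  conv_rhs => rw [← pick_spec c, d.mem_S_smul_iff, d.S_o]
  rw [← hZ.fix_iff (mem_axial.1 hu) h2, mul_smul, mul_smul, smul_inv_smul, smul_left_cancel_iff]

theorem Semi.axial_fix {c : G ⧸ d.H} (hZ : d.Semi Z) {u : G} (hu : u ∈ axial Z c) {x : Ω}
    (hx : x ∈ d.S c) : u • x = x := by
  rcases eq_or_ne u 1 with rfl | h
  · exact one_smul G x
  · exact (hZ.axial_fix_iff hu h x).2 hx

theorem Semi.axial_smul_self {c : G ⧸ d.H} (hZ : d.Semi Z) {u : G} (hu : u ∈ axial Z c) :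
    u • c = c := by
  refine d.S_injective ?_
  rw [d.S_smul]
  ext x
  rw [Set.mem_smul_set]
  constructor
  · rintro ⟨y, hy, rfl⟩
    rwa [hZ.axial_fix hu hy]
  · exact fun hx => ⟨x, hx, hZ.axial_fix hu hx⟩

theorem card_axial_inf {c e : G ⧸ d.H} (Z : Subgroup G) :
    Nat.card ↥(axial Z c ⊓ stabilizer G e) = Nat.card (stab Z ((pick c)⁻¹ • e)) := by
  refine (Nat.card_congr ((MulAut.conj (pick c)).toEquiv.subtypeEquiv fun g => ?_)).symm
  simp only [stab, Subgroup.mem_inf, mem_stabilizer_iff, MulEquiv.toEquiv_eq_coe,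
    EquivLike.coe_coe, MulAut.conj_apply, mem_axial]
  refine and_congr ?_ ?_
  · simp [mul_assoc]
  · rw [mul_smul, mul_smul, ← eq_inv_smul_iff (g := pick c)]

theorem Semi.card_axial_stab (hZ : d.Semi Z) {C c e : G ⧸ d.H} (hC : C ≠ d.o) (hne : e ≠ c) :
    Nat.card ↥(axial Z c ⊓ stabilizer G e) = Nat.card (stab Z C) := by
  rw [card_axial_inf]
  refine hZ.card_stab_eq ?_ hC
  intro h
  refine hne ?_
  rw [← pick_spec c, ← h, smul_inv_smul]

theorem opp_eq_inf (Z : Subgroup G) (c : G ⧸ d.H) : opp Z c = axial Z c ⊓ stabilizer G d.o := by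
  ext g
  simp [opp, d.smul_o_iff]

theorem Semi.card_opp (hZ : d.Semi Z) {C : G ⧸ d.H} (hC : C ≠ d.o) :
    Nat.card (opp Z C) = Nat.card (stab Z C) := by
  rw [opp_eq_inf, hZ.card_axial_stab hC hC.symm]

theorem Semi.inter_axial_eq_one (hZ : d.Semi Z) {C : G ⧸ d.H} (hC : C ≠ d.o) {u : G} (h1 : u ∈ Z)
    (h2 : u ∈ axial Z C) : u = 1 := by
  by_contra hu
  refine hC (d.S_injective ?_)
  rw [d.S_o]
  ext x
  rw [← hZ.axial_fix_iff h2 hu, hZ.fix_iff h1 hu]

theorem Semi.stab_comm_opp (hZ : d.Semi Z) {C : G ⧸ d.H} (hC : C ≠ d.o) {l m : G}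
    (hl : l ∈ stab Z C) (hm : m ∈ opp Z C) : l * m = m * l := by
  have h1 : l * m * l⁻¹ * m⁻¹ ∈ Z := by
    have := Z.mul_mem hl.1 (hZ.norm m hm.2 _ (Z.inv_mem hl.1))
    simpa [mul_assoc] using this
  have h2 : l * m * l⁻¹ * m⁻¹ ∈ axial Z C :=
    (axial Z C).mul_mem (hZ.conj_mem_axial hl.2 hm.1) ((axial Z C).inv_mem hm.1)
  have h := hZ.inter_axial_eq_one hC h1 h2
  rwa [mul_inv_eq_one, mul_inv_eq_iff_eq_mul] at h

theorem Semi.commute_opp_stab (hZ : d.Semi Z) {C : G ⧸ d.H} {q m : G} (hm : m ∈ opp Z C)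
    (h1 : m ≠ 1) (hc : q * m = m * q) : q • C = C := by
  refine d.S_injective ?_
  rw [d.S_smul]
  ext x
  have h2 : m * q⁻¹ = q⁻¹ * m := by
    rw [eq_inv_mul_iff_mul_eq, ← mul_assoc, hc, mul_inv_cancel_right]
  rw [Set.mem_smul_set_iff_inv_smul_mem, ← hZ.axial_fix_iff hm.1 h1, ← hZ.axial_fix_iff hm.1 h1,
    ← mul_smul, h2, mul_smul, smul_left_cancel_iff]

theorem Elem.stab_translate (hZ : d.Elem p Z) {q : G} (hq : q ∈ Z) (c : G ⧸ d.H) :
    stab Z (q • c) = stab Z c := by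
  ext g
  simp only [stab, Subgroup.mem_inf, mem_stabilizer_iff]
  refine and_congr_right fun hg => ?_
  rw [← mul_smul, hZ.comm g hg q hq, mul_smul, smul_left_cancel_iff]

/-- The key lemma: the opposite group fixes the blocks with the same stabiliser. -/
theorem Elem.opp_smul (hZ : d.Elem p Z) {C Y : G ⧸ d.H} (hC : C ≠ d.o) (hY : Y ≠ d.o)
    (hst : stab Z Y = stab Z C) {m : G} (hm : m ∈ opp Z C) : m • Y = Y := by
  classical
  rcases eq_or_ne Y C with rfl | hne
  · exact hZ.toSemi.axial_smul_self hm.1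
  have := Fintype.ofFinite G
  set U : Finset G := univ.filter fun g => g ∈ axial Z C ⊓ stabilizer G Y with hU
  have hUc : U.card = Nat.card (stab Z C) := by
    rw [← hZ.toSemi.card_axial_stab hC hne, Nat.card_eq_fintype_card, Fintype.card_subtype]
  have hsub : ∀ u ∈ U, u ∈ d.H := by
    intro u hu
    by_contra huH
    simp only [hU, Finset.mem_filter, Finset.mem_univ, true_and] at hu
    set L : Finset G := univ.filter fun g => g ∈ stab Z C with hL
    have h : L.card ≤ (U.erase 1).card := by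
      refine Finset.card_le_card_of_injOn (fun l => l * u * l⁻¹) ?_ ?_
      · intro l hl
        simp only [hL, Finset.coe_filter, Finset.mem_univ, true_and, Set.mem_ofPred_eq] at hl
        have hlY : l • Y = Y := by
          have : l ∈ stab Z Y := hst ▸ hl
          exact this.2
        simp only [hU, Finset.coe_erase, Finset.coe_filter, Finset.mem_univ, true_and,
          Set.mem_sdiff, Set.mem_ofPred_eq, Set.mem_singleton_iff, conj_eq_one_iff,
          Subgroup.mem_inf, mem_stabilizer_iff]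
        refine ⟨⟨hZ.toSemi.conj_mem_axial hl.2 hu.1, ?_⟩, fun h => huH (h ▸ d.H.one_mem)⟩
        rw [mul_smul, mul_smul, (inv_smul_eq_iff.2 hlY.symm), hu.2, hlY]
      · intro l hl l' hl' he
        simp only [hL, Finset.coe_filter, Finset.mem_univ, true_and, Set.mem_ofPred_eq] at hl hl'
        by_contra hne'
        have h0 : l'⁻¹ * l ∈ stab Z C := (stab Z C).mul_mem ((stab Z C).inv_mem hl') hl
        have h1 : l'⁻¹ * l ≠ 1 := by rwa [Ne, inv_mul_eq_one, eq_comm]
        have h2 : (l'⁻¹ * l) * u = u * (l'⁻¹ * l) := by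
          have he' : l * u * l⁻¹ = l' * u * l'⁻¹ := he
          calc (l'⁻¹ * l) * u = l'⁻¹ * (l * u * l⁻¹) * l := by group
            _ = _ := by rw [he']; group
        refine huH (d.mem_H_of_smul_B ?_)
        ext x
        rw [Set.mem_smul_set_iff_inv_smul_mem, ← hZ.toSemi.fix_iff h0.1 h1,
          ← hZ.toSemi.fix_iff h0.1 h1]
        have h3 : (l'⁻¹ * l) * u⁻¹ = u⁻¹ * (l'⁻¹ * l) := by
          rw [eq_inv_mul_iff_mul_eq, ← mul_assoc, ← h2, mul_inv_cancel_right]
        rw [← mul_smul, h3, mul_smul, smul_left_cancel_iff]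
    rw [Finset.card_erase_of_mem (by simp [hU, Subgroup.one_mem]), hUc, hL, ← Fintype.card_subtype,
      ← Nat.card_eq_fintype_card] at h
    have : 0 < Nat.card (stab Z C) := Nat.card_pos
    omega
  have heq : U = univ.filter fun g => g ∈ opp Z C := by
    refine Finset.eq_of_subset_of_card_le ?_ ?_
    · intro u hu
      have h1 := hsub u hu
      simp only [hU, Finset.mem_filter, Finset.mem_univ, true_and] at hu ⊢
      exact ⟨hu.1, h1⟩
    · rw [hUc, ← Fintype.card_subtype, ← Nat.card_eq_fintype_card]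
      exact (hZ.toSemi.card_opp hC).le
  have hmU : m ∈ U := by rw [heq]; simpa using hm
  simp only [hU, Finset.mem_filter, Finset.mem_univ, true_and] at hmU
  exact hmU.2

/-- Commutators of `Z` with the opposite group lie in the stabiliser. -/
theorem Elem.comm_mem_stab (hZ : d.Elem p Z) {C : G ⧸ d.H} (hC : C ≠ d.o) {q m : G} (hq : q ∈ Z)
    (hm : m ∈ opp Z C) : q * m * q⁻¹ * m⁻¹ ∈ stab Z C := by
  refine ⟨?_, ?_⟩
  · simpa [mul_assoc] using Z.mul_mem hq (hZ.norm m hm.2 _ (Z.inv_mem hq))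
  · show (q * m * q⁻¹ * m⁻¹) • C = C
    have hY : q⁻¹ • C ≠ d.o := by
      intro h
      refine hC ?_
      rw [← smul_inv_smul q C, h, d.smul_o_iff.2 (hZ.toSemi.le_H hq)]
    have h := hZ.opp_smul hC hY (hZ.stab_translate (Z.inv_mem hq) C) hm
    rw [mul_smul, mul_smul, mul_smul, inv_smul_eq_iff.2 (hZ.toSemi.axial_smul_self hm.1).symm, h,
      smul_inv_smul]

theorem Elem.mem_stab_of_comm_eq (hZ : d.Elem p Z) {C : G ⧸ d.H} {q q' m : G} (hq : q ∈ Z)
    (hq' : q' ∈ Z) (hm : m ∈ opp Z C) (h1 : m ≠ 1)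
    (h : q * m * q⁻¹ * m⁻¹ = q' * m * q'⁻¹ * m⁻¹) : q'⁻¹ * q ∈ stab Z C := by
  refine ⟨Z.mul_mem (Z.inv_mem hq') hq, hZ.toSemi.commute_opp_stab hm h1 ?_⟩
  calc q'⁻¹ * q * m = q'⁻¹ * (q * m * q⁻¹ * m⁻¹) * m * q := by group
    _ = q'⁻¹ * (q' * m * q'⁻¹ * m⁻¹) * m * q := by rw [h]
    _ = _ := by group

theorem Elem.eq_of_comm_eq (hZ : d.Elem p Z) {C : G ⧸ d.H} {q m m' : G} (hq : q ∈ Z)
    (hqC : q ∉ stab Z C) (hm : m ∈ opp Z C) (hm' : m' ∈ opp Z C)
    (h : q * m * q⁻¹ * m⁻¹ = q * m' * q⁻¹ * m'⁻¹) : m = m' := by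
  by_contra hne
  refine hqC ?_
  have h1 : m⁻¹ * m' ≠ 1 := by rwa [Ne, inv_mul_eq_one]
  have h2 : q⁻¹ * (m⁻¹ * m') = (m⁻¹ * m') * q⁻¹ := by
    have h' : m * q⁻¹ * m⁻¹ = m' * q⁻¹ * m'⁻¹ := by
      simpa [mul_assoc] using h
    calc q⁻¹ * (m⁻¹ * m') = m⁻¹ * (m * q⁻¹ * m⁻¹) * m' := by group
      _ = _ := by rw [h']; group
  have h3 := hZ.toSemi.commute_opp_stab
    ((opp Z C).mul_mem ((opp Z C).inv_mem hm) hm') h1 h2
  exact inv_inv q ▸ (stab Z C).inv_mem ⟨Z.inv_mem hq, h3⟩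

end Datum

end Cfsg.Agent.SymDesign
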