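import Cfsg.Agent.Lib.SymDesign.Hyper

/-!
# The semiregular group is regular outside the block

Counting fixed points of products `z * m`, with `z` in the elementary abelian group and `m` in the
opposite group of a block, shows that the elementary abelian group is transitive outside the
block and that every hyperplane contains only one block stabiliser.
-/

set_option autoImplicit false
set_option linter.unusedSectionVars false

namespace Cfsg.Agent.SymDesign

open MulAction Finset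
open scoped Pointwise Classical

variable {G Ω : Type*} [Group G] [MulAction G Ω] [Finite G] [Finite Ω] [FaithfulSMul G Ω]

/-- The number of pairs in `W × M` whose product fixes a given element. -/
noncomputable def cnt {α : Type*} [MulAction G α] (M W : Subgroup G) (x : α) : ℕ :=
  ((els W ×ˢ els M).filter fun a => (a.1 * a.2) • x = x).card

theorem cnt_eq {α : Type*} [MulAction G α] (M W : Subgroup G) (x : α)
    [DecidablePred fun a : G × G => (a.1 * a.2) • x = x] :
    cnt M W x = ((els W ×ˢ els M).filter fun a => (a.1 * a.2) • x = x).card := by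
  unfold cnt
  congr 1
  ext a
  simp only [Finset.mem_filter]

theorem cnt_mono {α : Type*} [MulAction G α] (M : Subgroup G) {V W : Subgroup G} (h : V ≤ W)
    (x : α) : cnt M V x ≤ cnt M W x := by
  refine Finset.card_le_card fun a ha => ?_
  simp only [Finset.mem_filter, Finset.mem_product, mem_els] at ha ⊢
  exact ⟨⟨h ha.1.1, ha.1.2⟩, ha.2⟩

namespace Datum

variable {d : Datum G Ω} [Fintype Ω] [Fintype (G ⧸ d.H)]
variable {p : ℕ} {Z : Subgroup G} {C : G ⧸ d.H}

theorem Semi.mem_stab_smul (hZ : d.Semi Z) {h : G} (hh : h ∈ d.H) (c : G ⧸ d.H) (g : G) :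
    g ∈ stab Z (h • c) ↔ h⁻¹ * g * h ∈ stab Z c := by
  simp only [stab, Subgroup.mem_inf, mem_stabilizer_iff]
  refine and_congr ⟨fun hg => by simpa using hZ.norm h⁻¹ (d.H.inv_mem hh) g hg,
    fun hg => by simpa [mul_assoc] using hZ.norm h hh _ hg⟩ ?_
  rw [mul_smul, mul_smul, inv_smul_eq_iff]

/-- The parameters: `k = λ e + w`. -/
theorem Semi.exists_w (hZ : d.Semi Z) (hC : C ≠ d.o) :
    ∃ w, 1 ≤ w ∧ d.k = d.lam * (blkOrbit Z C).ncard + w ∧
      d.k = d.lam + Nat.card (stab Z C) * w ∧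
      w * (Nat.card (stab Z C) - 1) = d.lam * ((blkOrbit Z C).ncard - 1) := by
  have heq := hZ.card_eq hC
  have hle := hZ.lam_mul_card_le hC
  have hes := card_blkOrbit Z C
  set s := Nat.card (stab Z C) with hs
  set e := (blkOrbit Z C).ncard with he
  rw [← hes] at heq hle
  have hs1 : 1 ≤ s := Nat.card_pos
  have hk : 2 ≤ d.k := d.two_le
  have hN : 1 ≤ e * s := by rw [hes]; exact Nat.card_pos
  have hlt : d.lam * e < d.k := by
    by_contra hcon
    push Not at hcon
    have h1 : d.k * s ≤ d.lam * e * s := Nat.mul_le_mul_right _ hcon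
    have h2 : (d.k - 1) * s < d.k * s := Nat.mul_lt_mul_of_pos_right (by omega) hs1
    rw [mul_assoc] at h1
    omega
  obtain ⟨w, hw⟩ : ∃ w, d.k = d.lam * e + w := ⟨d.k - d.lam * e, by omega⟩
  have he1 : 1 ≤ e := by
    rcases Nat.eq_zero_or_pos e with h | h
    · rw [h, zero_mul] at hN; omega
    · exact h
  refine ⟨w, by omega, hw, ?_, ?_⟩
  · obtain ⟨t, ht⟩ : ∃ t, s = t + 1 := ⟨s - 1, by omega⟩
    obtain ⟨u, hu⟩ : ∃ u, e * s = u + 1 := ⟨e * s - 1, by omega⟩
    rw [hu, ht, Nat.add_sub_cancel, Nat.add_sub_cancel, hw] at heq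
    rw [hw, ht]
    rw [ht] at hu
    nlinarith
  · obtain ⟨t, ht⟩ : ∃ t, s = t + 1 := ⟨s - 1, by omega⟩
    obtain ⟨u, hu⟩ : ∃ u, e = u + 1 := ⟨e - 1, by omega⟩
    have hprod : e * s = (u * t + u + t) + 1 := by rw [ht, hu]; ring
    rw [hprod, Nat.add_sub_cancel, ht, Nat.add_sub_cancel, hw, hu] at heq
    rw [ht, hu, Nat.add_sub_cancel, Nat.add_sub_cancel]
    nlinarith

/-- The number of orbits is at most the order of a stabiliser. -/
theorem Elem.card_le_sq (hZ : d.Elem p Z) (hC : C ≠ d.o) :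
    Nat.card Z ≤ Nat.card (stab Z C) * Nat.card (stab Z C) := by
  rcases eq_or_ne (Nat.card (stab Z C)) 1 with h1 | h1
  · have h := hZ.toSemi.card_eq hC
    rw [h1, Nat.sub_self, mul_zero, eq_comm, Nat.mul_eq_zero] at h
    have := d.lam_pos
    rw [h1]
    omega
  have hne : opp Z C ≠ ⊥ := by
    intro h
    rw [← hZ.toSemi.card_opp hC, h, Subgroup.card_bot] at h1
    exact h1 rfl
  obtain ⟨m, hm, hm1⟩ := (Subgroup.bot_or_exists_ne_one _).resolve_left hne
  rw [← card_els, ← card_els (stab Z C)]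
  refine Finset.card_le_mul_card_image_of_maps_to (f := fun q => q * m * q⁻¹ * m⁻¹)
    (t := els (stab Z C)) ?_ _ ?_
  · exact fun q hq => mem_els.2 (hZ.comm_mem_stab hC (mem_els.1 hq) hm)
  · intro b _
    rcases ((els Z).filter fun q => q * m * q⁻¹ * m⁻¹ = b).eq_empty_or_nonempty with h | ⟨q₀, hq₀⟩
    · rw [h]; simp
    simp only [Finset.mem_filter, mem_els] at hq₀
    refine Finset.card_le_card_of_injOn (fun q => q₀⁻¹ * q) ?_
      (fun x _ y _ hxy => mul_left_cancel hxy)
    intro q hq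
    simp only [Finset.coe_filter, mem_els, Set.mem_ofPred_eq] at hq
    exact mem_els.2 (hZ.mem_stab_of_comm_eq hq.1 hq₀.1 hm hm1 (hq.2.trans hq₀.2.symm))

section Counting

variable {W : Subgroup G}

/-- Points of the block: both counts are proportional. -/
theorem Elem.cnt_B (hZ : d.Elem p Z) (hV : W ≤ Z) {x : Ω} (hx : x ∈ d.B) :
    cnt (opp Z C) W x = Nat.card W * ((els (opp Z C)).filter fun m => m • x = x).card := by
  rw [cnt, ← card_els, ← Finset.card_product]
  congr 1
  ext ⟨z, m⟩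
  simp only [Finset.mem_filter, Finset.mem_product, mem_els]
  refine ⟨fun ⟨⟨hz, hm⟩, h⟩ => ⟨hz, hm, ?_⟩, fun ⟨hz, hm, h⟩ => ⟨⟨hz, hm⟩, ?_⟩⟩
  · rwa [mul_smul, hZ.fixB z (hV hz) _ ((d.smul_mem_B_iff hm.2).2 hx)] at h
  · rw [mul_smul, h, hZ.fixB z (hV hz) x hx]

theorem Elem.sum_B (hZ : d.Elem p Z) (hC : C ≠ d.o) :
    ∑ x ∈ univ.filter (fun x => x ∈ d.B), ((els (opp Z C)).filter fun m => m • x = x).card =
      d.lam * Nat.card (stab Z C) + (d.k - d.lam) := by
  rw [← Finset.sum_filter_add_sum_filter_not (univ.filter fun x => x ∈ d.B) (fun x => x ∈ d.S C)]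
  have h1 : ∀ x ∈ (univ.filter fun x => x ∈ d.B).filter (fun x => x ∈ d.S C),
      ((els (opp Z C)).filter fun m => m • x = x).card = Nat.card (stab Z C) := by
    intro x hx
    rw [Finset.filter_true_of_mem, card_els, hZ.toSemi.card_opp hC]
    exact fun m hm => hZ.toSemi.axial_fix (mem_els.1 hm).1 (Finset.mem_filter.1 hx).2
  have h2 : ∀ x ∈ (univ.filter fun x => x ∈ d.B).filter (fun x => ¬ x ∈ d.S C),
      ((els (opp Z C)).filter fun m => m • x = x).card = 1 := by
    intro x hx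
    rw [Finset.card_eq_one]
    refine ⟨1, ?_⟩
    ext m
    simp only [Finset.mem_filter, mem_els, Finset.mem_singleton]
    constructor
    · rintro ⟨hm, hmx⟩
      by_contra h1
      exact (Finset.mem_filter.1 hx).2 ((hZ.toSemi.axial_fix_iff hm.1 h1 x).1 hmx)
    · rintro rfl
      exact ⟨(opp Z C).one_mem, one_smul G x⟩
  rw [Finset.sum_congr rfl h1, Finset.sum_congr rfl h2, Finset.sum_const, Finset.sum_const,
    smul_eq_mul, smul_eq_mul, mul_one]
  have hc : ((univ.filter fun x => x ∈ d.B).filter fun x => x ∈ d.S C).card = d.lam := by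
    rw [← d.card_inter hC.symm, Set.ncard_eq_toFinset_card']
    congr 1
    ext x
    simp
  have hc2 := Finset.card_filter_add_card_filter_not
    (s := univ.filter fun x => x ∈ d.B) (fun x => x ∈ d.S C)
  rw [hc, card_B_filter] at hc2
  rw [hc, show ((univ.filter fun x => x ∈ d.B).filter fun x => ¬ x ∈ d.S C).card = d.k - d.lam by
    omega]

/-- Points outside the block: at most one element of `Z` for each `m`. -/
theorem Elem.cnt_out_le (hZ : d.Elem p Z) (hC : C ≠ d.o) {x : Ω} (hx : x ∉ d.B) :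
    cnt (opp Z C) Z x ≤ Nat.card (stab Z C) := by
  rw [← hZ.toSemi.card_opp hC, ← card_els (opp Z C)]
  refine Finset.card_le_card_of_injOn Prod.snd ?_ ?_
  · intro a ha
    simp only [Finset.coe_filter, Finset.mem_product, Set.mem_ofPred_eq] at ha
    exact ha.1.2
  · rintro ⟨z, m⟩ hz ⟨z', m'⟩ hz' h
    simp only [Finset.coe_filter, Finset.mem_product, mem_els, Set.mem_ofPred_eq] at hz hz'
    obtain rfl : m = m' := h
    have h' : z • m • x = z' • m • x := by rw [← mul_smul, ← mul_smul, hz.2, hz'.2]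
    have hmx : m • x ∉ d.B := fun hh => hx ((d.smul_mem_B_iff hz.1.2.2).1 hh)
    by_contra hne
    refine hmx (hZ.semi (z'⁻¹ * z) (Z.mul_mem (Z.inv_mem hz'.1.1) hz.1.1) ?_ _ ?_)
    · rw [Ne, inv_mul_eq_one]
      exact fun e => hne (by rw [e])
    · rw [mul_smul, h', inv_smul_smul]

/-- Points outside the block: a hyperplane containing the stabiliser keeps at least a `p`-th. -/
theorem Elem.cnt_out_ge (hZ : d.Elem p Z) (hC : C ≠ d.o) (hW : Hyperplane p Z W)
    (hLW : stab Z C ≤ W) (x : Ω) : cnt (opp Z C) Z x ≤ p * cnt (opp Z C) W x := by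
  have hnW : ¬ Z ≤ W := fun h => by
    have h1 : Nat.card Z ≤ Nat.card W := Subgroup.card_le_of_le h
    have h2 := hW.card
    have h3 := hZ.prime.two_le
    have h4 : 0 < Nat.card W := Nat.card_pos
    nlinarith
  obtain ⟨l, hlZ, hlW⟩ := SetLike.not_le_iff_exists.1 hnW
  have hlp := hZ.pow_p l hlZ
  have hrep : ∀ z : G, ∃ i : ℕ, z ∈ Z → i < p ∧ (l ^ i)⁻¹ * z ∈ W := by
    intro z
    by_cases hz : z ∈ Z
    · obtain ⟨i, hi⟩ := hW.exists_rep hZ.prime hlp hlZ hlW hz
      exact ⟨i, fun _ => hi⟩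
    · exact ⟨0, fun h => absurd h hz⟩
  choose ι hι using hrep
  rw [← Finset.card_range p, mul_comm]
  refine Finset.card_le_mul_card_image_of_maps_to (f := fun a : G × G => ι a.1) ?_ _ ?_
  · intro a ha
    simp only [Finset.mem_filter, Finset.mem_product, mem_els] at ha
    exact Finset.mem_range.2 (hι _ ha.1.1).1
  · intro b _
    rcases (((els Z ×ˢ els (opp Z C)).filter fun a => (a.1 * a.2) • x = x).filter
      fun a => ι a.1 = b).eq_empty_or_nonempty with h | ⟨a₀, ha₀⟩
    · rw [h]; simp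
    obtain ⟨z₀, m₀⟩ := a₀
    simp only [Finset.mem_filter, Finset.mem_product, mem_els] at ha₀
    obtain ⟨⟨⟨hz₀, hm₀⟩, hfix₀⟩, hi₀⟩ := ha₀
    refine Finset.card_le_card_of_injOn
      (fun a => (a.1 * ((a.2 * m₀⁻¹) * z₀⁻¹ * (a.2 * m₀⁻¹)⁻¹), a.2 * m₀⁻¹)) ?_ ?_
    · rintro ⟨z, m⟩ ha
      simp only [Finset.coe_filter, Finset.mem_filter, Finset.mem_product, mem_els,
        Set.mem_ofPred_eq] at ha ⊢
      obtain ⟨⟨⟨hz, hm⟩, hfix⟩, hi⟩ := ha
      have hc : m * m₀⁻¹ ∈ opp Z C := (opp Z C).mul_mem hm ((opp Z C).inv_mem hm₀)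
      refine ⟨⟨?_, hc⟩, ?_⟩
      · -- `z z₀⁻¹` and the commutator lie in `W`
        have h1 : z₀⁻¹ * z ∈ W := by
          have e1 := (hι z hz).2
          have e2 := (hι z₀ hz₀).2
          rw [hi] at e1
          rw [hi₀] at e2
          have := W.mul_mem (W.inv_mem e2) e1
          simpa [mul_assoc] using this
        have h2 := hLW (hZ.comm_mem_stab hC hz₀ hc)
        have h3 : z * (m * m₀⁻¹ * z₀⁻¹ * (m * m₀⁻¹)⁻¹) =
            z₀⁻¹ * z * (z₀ * (m * m₀⁻¹) * z₀⁻¹ * (m * m₀⁻¹)⁻¹) := by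
          rw [hZ.comm z₀⁻¹ (Z.inv_mem hz₀) z hz]
          group
        rw [h3]
        exact W.mul_mem h1 h2
      · have e3 : z * (m * m₀⁻¹ * z₀⁻¹ * (m * m₀⁻¹)⁻¹) * (m * m₀⁻¹) = z * m * (z₀ * m₀)⁻¹ := by
          group
        rw [e3, mul_smul, inv_smul_eq_iff.2 hfix₀.symm, hfix]
    · rintro ⟨z, m⟩ - ⟨z', m'⟩ - h
      simp only [Prod.mk.injEq] at h
      obtain rfl : m = m' := mul_right_cancel h.2
      exact Prod.ext (mul_right_cancel h.1) rfl

/-- Points on translates of `C`: every `m` is matched inside the stabiliser. -/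
theorem Elem.cnt_translate (hZ : d.Elem p Z) (hC : C ≠ d.o) (hLW : stab Z C ≤ W) {q : G}
    (hq : q ∈ Z) {y : Ω} (hy : y ∈ d.S C) :
    Nat.card (stab Z C) ≤ cnt (opp Z C) W (q • y) := by
  rw [← hZ.toSemi.card_opp hC, ← card_els]
  refine Finset.card_le_card_of_injOn (fun m => (q * m * q⁻¹ * m⁻¹, m)) ?_ ?_
  · intro m hm
    rw [Finset.mem_coe, mem_els] at hm
    simp only [Finset.coe_filter, Finset.mem_product, mem_els, Set.mem_ofPred_eq]
    refine ⟨⟨hLW (hZ.comm_mem_stab hC hq hm), hm⟩, ?_⟩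
    rw [inv_mul_cancel_right, mul_smul, inv_smul_smul, mul_smul, hZ.toSemi.axial_fix hm.1 hy]
  · intro m _ m' _ h
    exact (Prod.ext_iff.1 h).2

/-- Blocks with stabiliser outside the hyperplane: proportional. -/
theorem Elem.cnt_not_le (hZ : d.Elem p Z) (hW : Hyperplane p Z W) {c : G ⧸ d.H}
    (hnle : ¬ stab Z c ≤ W) : p * cnt (opp Z C) W c = cnt (opp Z C) Z c := by
  obtain ⟨l, hl, hlW⟩ := SetLike.not_le_iff_exists.1 hnle
  have hlp := hZ.pow_p l hl.1
  have hfix : ∀ (i : ℕ) (g : G), (l ^ i * g) • c = c ↔ g • c = c := by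
    intro i g
    have : l ^ i • c = c := (stabilizer G c).pow_mem hl.2 i
    rw [mul_smul]
    conv_lhs => rhs; rw [← this]
    exact smul_left_cancel_iff _
  conv_lhs => arg 1; rw [← Finset.card_range p]
  unfold cnt
  rw [← Finset.card_product]
  refine Finset.card_bij (fun a _ => (l ^ a.1 * a.2.1, a.2.2)) ?_ ?_ ?_
  · rintro ⟨i, w, m⟩ h
    simp only [Finset.mem_product, Finset.mem_filter, mem_els] at h ⊢
    exact ⟨⟨Z.mul_mem (Z.pow_mem hl.1 i) (hW.le h.2.1.1), h.2.1.2⟩,
      by rw [mul_assoc, hfix]; exact h.2.2⟩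
  · rintro ⟨i, w, m⟩ h ⟨j, w', m'⟩ h' he
    simp only [Finset.mem_product, Finset.mem_range, Finset.mem_filter, mem_els] at h h'
    simp only [Prod.mk.injEq] at he
    obtain ⟨he, rfl⟩ := he
    have hij : i = j := by
      refine eq_of_pow_mem hZ.prime hlp hlW h.1 h'.1 ?_
      have : (l ^ i)⁻¹ * l ^ j = w * w'⁻¹ := by
        rw [inv_mul_eq_iff_eq_mul, ← mul_assoc, he, mul_inv_cancel_right]
      rw [this]
      exact W.mul_mem h.2.1.1 (W.inv_mem h'.2.1.1)
    subst hij
    rw [mul_left_cancel he]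
  · rintro ⟨z, m⟩ h
    simp only [Finset.mem_filter, Finset.mem_product, mem_els] at h
    obtain ⟨i, hi, hiW⟩ := hW.exists_rep hZ.prime hlp hl.1 hlW h.1.1
    refine ⟨(i, (l ^ i)⁻¹ * z, m), ?_, ?_⟩
    · simp only [Finset.mem_product, Finset.mem_range, Finset.mem_filter, mem_els]
      refine ⟨hi, ⟨hiW, h.1.2⟩, ?_⟩
      rw [← hfix i, ← mul_assoc, mul_inv_cancel_left]
      exact h.2
    · simp only [mul_inv_cancel_left]

/-- Blocks: the pairs are bounded by the common part of the stabilisers. -/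
theorem Elem.cnt_blk_le (hZ : d.Elem p Z) (hC : C ≠ d.o) {c : G ⧸ d.H} (hc : c ≠ d.o) :
    cnt (opp Z C) Z c ≤ Nat.card (stab Z C) * Nat.card ↥(stab Z C ⊓ stab Z c) := by
  set Mn : Finset G := (els (opp Z C)).filter fun m => ∀ g ∈ stab Z c, m * g * m⁻¹ ∈ stab Z c
  have h1 : cnt (opp Z C) Z c ≤ Nat.card (stab Z C) * Mn.card := by
    refine Finset.card_le_mul_card_image_of_maps_to (f := Prod.snd) ?_ _ ?_
    · rintro ⟨z, m⟩ h
      simp only [Finset.mem_filter, Finset.mem_product, mem_els] at h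
      refine Finset.mem_filter.2 ⟨mem_els.2 h.1.2, fun g hg => ?_⟩
      have hzm : m • c = z⁻¹ • c := by rw [eq_inv_smul_iff, ← mul_smul]; exact h.2
      rw [← hZ.stab_translate (Z.inv_mem h.1.1) c, ← hzm, hZ.toSemi.mem_stab_smul h.1.2.2]
      simpa [mul_assoc] using hg
    · intro b _
      by_cases hex : ∃ z₀ m₀ : G, ((z₀ ∈ Z ∧ m₀ ∈ opp Z C) ∧ (z₀ * m₀) • c = c) ∧ m₀ = b
      swap
      · refine le_of_eq_of_le (Finset.card_eq_zero.2 (Finset.eq_empty_of_forall_notMem ?_))
          (Nat.zero_le _)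
        rintro ⟨z, m⟩ ha
        simp only [Finset.mem_filter, Finset.mem_product, mem_els] at ha
        exact hex ⟨z, m, ha⟩
      obtain ⟨z₀, m₀, ha₀⟩ := hex
      obtain ⟨⟨⟨hz₀, hm₀⟩, hfix₀⟩, rfl⟩ := ha₀
      rw [← hZ.toSemi.card_stab_eq hc hC, ← card_els]
      refine Finset.card_le_card_of_injOn (fun a => a.1 * z₀⁻¹) ?_ ?_
      · rintro ⟨z, m⟩ ha
        simp only [Finset.coe_filter, Finset.mem_filter, Finset.mem_product, mem_els,
          Set.mem_ofPred_eq] at ha
        obtain ⟨⟨⟨hz, hm⟩, hfix⟩, rfl⟩ := ha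
        refine mem_els.2 ⟨Z.mul_mem hz (Z.inv_mem hz₀), ?_⟩
        show (z * z₀⁻¹) • c = c
        rw [show z * z₀⁻¹ = z * m * (z₀ * m)⁻¹ by group, mul_smul,
          inv_smul_eq_iff.2 hfix₀.symm, hfix]
      · rintro ⟨z, m⟩ ha ⟨z', m'⟩ ha' h
        simp only [Finset.coe_filter, Finset.mem_filter, Finset.mem_product, mem_els,
          Set.mem_ofPred_eq] at ha ha'
        exact Prod.ext (mul_right_cancel h) (ha.2.trans ha'.2.symm)
  refine h1.trans (Nat.mul_le_mul_left _ ?_)
  by_cases hle : stab Z c ≤ stab Z C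
  · have heq : stab Z c = stab Z C :=
      Subgroup.eq_of_le_of_card_ge hle (hZ.toSemi.card_stab_eq hc hC).ge
    rw [heq, inf_idem, ← hZ.toSemi.card_opp hC, ← card_els]
    exact Finset.card_filter_le _ _
  · obtain ⟨q, hq, hqC⟩ := SetLike.not_le_iff_exists.1 hle
    rw [← card_els]
    refine Finset.card_le_card_of_injOn (fun m => q * m * q⁻¹ * m⁻¹) ?_ ?_
    · intro m hm
      simp only [Mn, Finset.coe_filter, mem_els, Set.mem_ofPred_eq] at hm
      refine mem_els.2 ⟨hZ.comm_mem_stab hC hq.1 hm.1, ?_⟩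
      have := (stab Z c).mul_mem hq (hm.2 _ ((stab Z c).inv_mem hq))
      simpa [mul_assoc] using this
    · intro m hm m' hm' h
      simp only [Mn, Finset.coe_filter, mem_els, Set.mem_ofPred_eq] at hm hm'
      exact hZ.eq_of_comm_eq hq.1 hqC hm.1 hm'.1 h

/-- The main double count. -/
theorem Elem.balance (hZ : d.Elem p Z) (hC : C ≠ d.o) (hW : Hyperplane p Z W) :
    p * ∑ x ∈ univ.filter (fun x => ¬ x ∈ d.B), cnt (opp Z C) W x +
        ∑ c ∈ (univ.erase d.o).filter (fun c => stab Z c ≤ W), cnt (opp Z C) Z c =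
      p * ∑ c ∈ (univ.erase d.o).filter (fun c => stab Z c ≤ W), cnt (opp Z C) W c +
        ∑ x ∈ univ.filter (fun x => ¬ x ∈ d.B), cnt (opp Z C) Z x := by
  have key : ∀ V : Subgroup G, ∑ x : Ω, cnt (opp Z C) V x = ∑ c : G ⧸ d.H, cnt (opp Z C) V c := by
    intro V
    simp only [cnt_eq]
    exact d.sum_fix_finset (els V ×ˢ els (opp Z C)) fun a => a.1 * a.2
  have e1 := key W
  have e2 := key Z
  rw [← Finset.sum_filter_add_sum_filter_not univ (fun x : Ω => x ∈ d.B),
    ← Finset.add_sum_erase (univ : Finset (G ⧸ d.H)) _ (Finset.mem_univ d.o),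
    ← Finset.sum_filter_add_sum_filter_not (univ.erase d.o) (fun c => stab Z c ≤ W)] at e1 e2
  have hB : p * ∑ x ∈ univ.filter (fun x => x ∈ d.B), cnt (opp Z C) W x =
      ∑ x ∈ univ.filter (fun x => x ∈ d.B), cnt (opp Z C) Z x := by
    rw [Finset.mul_sum]
    refine Finset.sum_congr rfl fun x hx => ?_
    rw [hZ.cnt_B hW.le (Finset.mem_filter.1 hx).2, hZ.cnt_B le_rfl (Finset.mem_filter.1 hx).2,
      ← hW.card, mul_assoc]
  have ho : ∀ V : Subgroup G, V ≤ Z → cnt (opp Z C) V d.o = Nat.card V * Nat.card (opp Z C) := by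
    intro V hV
    rw [cnt_eq, Finset.filter_true_of_mem, Finset.card_product, card_els, card_els]
    intro a ha
    simp only [Finset.mem_product, mem_els] at ha
    exact d.smul_o_iff.2 (d.H.mul_mem (hZ.toSemi.le_H (hV ha.1)) ha.2.2)
  have ho' : p * cnt (opp Z C) W d.o = cnt (opp Z C) Z d.o := by
    rw [ho W hW.le, ho Z le_rfl, ← hW.card, mul_assoc]
  have h0 : p * ∑ c ∈ (univ.erase d.o).filter (fun c => ¬ stab Z c ≤ W), cnt (opp Z C) W c =
      ∑ c ∈ (univ.erase d.o).filter (fun c => ¬ stab Z c ≤ W), cnt (opp Z C) Z c := by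
    rw [Finset.mul_sum]
    exact Finset.sum_congr rfl fun c hc => hZ.cnt_not_le hW (Finset.mem_filter.1 hc).2
  have e1' := congrArg (p * ·) e1
  simp only [mul_add, hB, ho', h0] at e1'
  omega

theorem Elem.sum_translates_le (hZ : d.Elem p Z) (hC : C ≠ d.o) (hW : Hyperplane p Z W)
    (hLW : stab Z C ≤ W) :
    Nat.card (stab Z C) * ((blkOrbit Z C).ncard * (d.k - d.lam)) ≤
      ∑ c ∈ (univ.erase d.o).filter (fun c => stab Z c ≤ W), cnt (opp Z C) Z c := by
  set AC : Finset Ω := (blkOrbit Z C).toFinset.biUnion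
    fun D => univ.filter fun x => x ∈ d.S D ∧ x ∉ d.B with hAC
  have hD : ∀ D ∈ blkOrbit Z C, D ≠ d.o ∧ d.S D ∩ d.B = d.S C ∩ d.B := by
    rintro _ ⟨q, hq, rfl⟩
    refine ⟨fun h => hC ?_, ?_⟩
    · rw [← inv_smul_smul q C]
      show q⁻¹ • q • C = d.o
      rw [show q • C = d.o from h, d.smul_o_iff.2 (d.H.inv_mem (hZ.toSemi.le_H hq))]
    · ext x
      simp only [Set.mem_inter_iff]
      refine and_congr_left fun hx => ?_
      show x ∈ d.S (q • C) ↔ _
      rw [d.mem_S_smul_iff, hZ.fixB q⁻¹ (Z.inv_mem hq) x hx]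
  have hcard : AC.card = (blkOrbit Z C).ncard * (d.k - d.lam) := by
    rw [hAC, Finset.card_biUnion, Set.ncard_eq_toFinset_card', Finset.sum_const_nat]
    · intro D hD'
      have hDo := hD D (Set.mem_toFinset.1 hD')
      have h := Finset.card_filter_add_card_filter_not
        (s := univ.filter fun x => x ∈ d.S D) (fun x => x ∈ d.B)
      rw [d.card_S, Finset.filter_filter, Finset.filter_filter] at h
      have h1 : (univ.filter fun x => x ∈ d.S D ∧ x ∈ d.B).card = d.lam := by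
        rw [← d.card_inter hDo.1, Set.ncard_eq_toFinset_card', d.S_o]
        congr 1
        ext x
        simp
      omega
    · intro D hD1 D' hD2 hne
      show Disjoint _ _
      rw [Finset.disjoint_left]
      intro x hx hx'
      simp only [Finset.mem_filter, Finset.mem_univ, true_and] at hx hx'
      simp only [Finset.mem_coe, Set.mem_toFinset] at hD1 hD2
      have hsub : insert x (d.S D ∩ d.S d.o) ⊆ d.S D ∩ d.S D' := by
        rw [d.S_o]
        rintro y (rfl | hy)
        · exact ⟨hx.1, hx'.1⟩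
        · refine ⟨hy.1, ?_⟩
          rw [(hD D hD1).2, ← (hD D' hD2).2] at hy
          exact hy.1
      have h := Set.ncard_le_ncard hsub (Set.toFinite _)
      rw [d.card_inter hne, Set.ncard_insert_of_notMem (by simp [hx.2]) (Set.toFinite _),
        d.card_inter (hD D hD1).1] at h
      omega
  have hbal := hZ.balance hC hW
  have hA : ∑ x ∈ univ.filter (fun x => ¬ x ∈ d.B),
      (cnt (opp Z C) Z x + if x ∈ AC then (p - 1) * Nat.card (stab Z C) else 0) ≤
      p * ∑ x ∈ univ.filter (fun x => ¬ x ∈ d.B), cnt (opp Z C) W x := by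
    rw [Finset.mul_sum]
    refine Finset.sum_le_sum fun x hx => ?_
    have hxB := (Finset.mem_filter.1 hx).2
    split_ifs with hxA
    · simp only [hAC, Finset.mem_biUnion, Set.mem_toFinset, Finset.mem_filter, Finset.mem_univ,
        true_and] at hxA
      obtain ⟨D, ⟨q, hq, rfl⟩, hxD, -⟩ := hxA
      have h1 := hZ.cnt_translate hC hLW hq (y := q⁻¹ • x) ((d.mem_S_smul_iff q x C).1 hxD)
      rw [smul_inv_smul] at h1
      have h2 := hZ.cnt_out_le hC hxB
      have h3 := cnt_mono (opp Z C) hW.le x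
      have hp := hZ.prime.one_le
      have heq : cnt (opp Z C) W x = Nat.card (stab Z C) := by omega
      have heq2 : cnt (opp Z C) Z x = Nat.card (stab Z C) := by omega
      obtain ⟨t, ht⟩ : ∃ t, p = t + 1 := ⟨p - 1, by omega⟩
      rw [heq, heq2, ht, Nat.add_sub_cancel, add_mul, one_mul, add_comm]
    · rw [add_zero]
      exact hZ.cnt_out_ge hC hW hLW x
  rw [Finset.sum_add_distrib, ← Finset.sum_filter, Finset.sum_const, smul_eq_mul,
    Finset.filter_filter] at hA
  have hfilter : (univ.filter fun x => ¬ x ∈ d.B ∧ x ∈ AC) = AC := by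
    ext x
    simp only [Finset.mem_filter, Finset.mem_univ, true_and, and_iff_right_iff_imp]
    intro hx
    simp only [hAC, Finset.mem_biUnion, Finset.mem_filter] at hx
    obtain ⟨D, -, -, -, h⟩ := hx
    exact h
  rw [hfilter, hcard] at hA
  have hT : ∑ c ∈ (univ.erase d.o).filter (fun c => stab Z c ≤ W), cnt (opp Z C) W c ≤
      ∑ c ∈ (univ.erase d.o).filter (fun c => stab Z c ≤ W), cnt (opp Z C) Z c :=
    Finset.sum_le_sum fun c _ => cnt_mono _ hW.le c
  have hT' := Nat.mul_le_mul_left p hT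
  have hp := hZ.prime.two_le
  obtain ⟨t, ht⟩ : ∃ t, p = t + 1 := ⟨p - 1, by omega⟩
  rw [ht, Nat.add_sub_cancel] at hA
  rw [ht] at hT' hbal
  nlinarith

/-- A hyperplane containing a stabiliser contains only that one. -/
theorem Elem.stab_eq_of_le (hZ : d.Elem p Z) (hC : C ≠ d.o) (hW : Hyperplane p Z W)
    (hLW : stab Z C ≤ W) {c : G ⧸ d.H} (hc : c ≠ d.o) (hcW : stab Z c ≤ W) :
    stab Z c = stab Z C := by
  by_contra hne
  have := Fact.mk hZ.prime
  obtain ⟨w, hw1, hkw, hkl, hws⟩ := hZ.toSemi.exists_w hC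
  have hes := card_blkOrbit Z C
  have hsq := hZ.card_le_sq hC
  have hineq := hZ.sum_translates_le hC hW hLW
  have hQ := hZ.card_le_hyperplane hW hC
  have hkk := d.k_sub_one_mul
  have hlam := d.lam_pos
  set s := Nat.card (stab Z C) with hs
  set e := (blkOrbit Z C).ncard with he
  set P1 := (univ.erase d.o).filter (fun c => stab Z c ≤ W) with hP1
  set P0 : G ⧸ d.H → Finset (G ⧸ d.H) :=
    fun C => (univ.erase d.o).filter fun c => stab Z c = stab Z C with hP0
  -- the two classes are disjoint and equally large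
  have hconst : (P0 c).card = (P0 C).card := by
    obtain ⟨h, hh, rfl⟩ := d.trans_blk hC hc
    refine (Finset.card_equiv (MulAction.toPerm h) fun a => ?_).symm
    simp only [hP0, Finset.mem_filter, Finset.mem_erase, Finset.mem_univ, and_true,
      MulAction.toPerm_apply]
    refine and_congr ⟨fun ha hh' => ha ?_, fun ha hh' => ha (by rw [hh', d.smul_o_iff.2 hh])⟩ ?_
    · rw [← inv_smul_smul h a, hh', d.smul_o_iff.2 (d.H.inv_mem hh)]
    · constructor
      · intro ha
        ext g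
        rw [hZ.toSemi.mem_stab_smul hh, hZ.toSemi.mem_stab_smul hh, ha]
      · intro ha
        ext g
        have := SetLike.ext_iff.1 ha (h * g * h⁻¹)
        simpa [hZ.toSemi.mem_stab_smul hh, mul_assoc] using this
  have hsub : P0 C ⊆ P1 := by
    intro a ha
    simp only [hP0, hP1, Finset.mem_filter] at ha ⊢
    exact ⟨ha.1, ha.2.trans_le hLW⟩
  have h2μ : 2 * (P0 C).card ≤ P1.card := by
    have hsub' : P0 c ⊆ P1 \ P0 C := by
      intro a ha
      simp only [hP0, hP1, Finset.mem_filter, Finset.mem_sdiff, not_and] at ha ⊢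
      exact ⟨⟨ha.1, ha.2.trans_le hcW⟩, fun _ h => hne (ha.2.symm.trans h)⟩
    have := Finset.card_le_card hsub'
    rw [Finset.card_sdiff_of_subset hsub, hconst] at this
    omega
  -- bound the sum
  have hP : p * ∑ a ∈ P1, cnt (opp Z C) Z a ≤
      p * ((P0 C).card * (s * s)) + (P1.card - (P0 C).card) * (s * s) := by
    rw [← Finset.sum_sdiff hsub, mul_add, add_comm (p * _) (p * _)]
    refine add_le_add (Nat.mul_le_mul_left _ ?_) ?_
    · refine (Finset.sum_le_card_nsmul _ _ (s * s) fun a ha => ?_).trans_eq (smul_eq_mul _ _)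
      simp only [hP0, Finset.mem_filter, Finset.mem_erase] at ha
      refine (hZ.cnt_blk_le hC ha.1.1).trans (Nat.mul_le_mul_left _ ?_)
      exact Subgroup.card_le_of_le inf_le_left
    · rw [Finset.mul_sum, ← Finset.card_sdiff_of_subset hsub]
      refine (Finset.sum_le_card_nsmul _ _ (s * s) fun a ha => ?_).trans_eq (smul_eq_mul _ _)
      simp only [hP0, hP1, Finset.mem_sdiff, Finset.mem_filter, Finset.mem_erase, not_and] at ha
      refine (Nat.mul_le_mul_left p (hZ.cnt_blk_le hC ha.1.1.1)).trans ?_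
      rw [mul_left_comm, ← hs]
      refine Nat.mul_le_mul_left _ ?_
      -- a proper subgroup of a `p`-group
      have hpg : IsPGroup p (stab Z C) :=
        fun g => ⟨1, Subtype.ext (by simpa using hZ.pow_p g.1 g.2.1)⟩
      obtain ⟨i, hi⟩ := hpg.exists_card_eq
      have hdvd : Nat.card ↥(stab Z C ⊓ stab Z a) ∣ p ^ i :=
        hi ▸ Subgroup.card_dvd_of_le inf_le_left
      obtain ⟨j, hj, hjc⟩ := (Nat.dvd_prime_pow hZ.prime).1 hdvd
      have hlt : j < i := by
        rcases hj.lt_or_eq with h | h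
        · exact h
        exfalso
        refine ha.2 ha.1.1 ?_
        have : stab Z C ⊓ stab Z a = stab Z C :=
          Subgroup.eq_of_le_of_card_ge inf_le_left (by rw [hjc, hi, h])
        exact (Subgroup.eq_of_le_of_card_ge (this ▸ inf_le_right)
          (hZ.toSemi.card_stab_eq ha.1.1.1 hC).le).symm
      rw [hjc, hs, hi, ← pow_succ']
      exact Nat.pow_le_pow_right hZ.prime.pos hlt
  -- `e` is at least `p²`
  have hpe : p * p ≤ e := by
    have hpg : IsPGroup p Z := fun g => ⟨1, Subtype.ext (by simpa using hZ.pow_p g.1 g.2)⟩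
    obtain ⟨N, hN⟩ := hpg.exists_card_eq
    have hlt : Nat.card (stab Z C) < Nat.card W := by
      refine lt_of_le_of_ne (Subgroup.card_le_of_le hLW) fun h => hne ?_
      have h1 : stab Z C = W := Subgroup.eq_of_le_of_card_ge hLW h.ge
      exact Subgroup.eq_of_le_of_card_ge (h1.symm ▸ hcW) (hZ.toSemi.card_stab_eq hc hC).ge
    have hWc := hW.card
    have hsd : Nat.card (stab Z C) ∣ p ^ N := hN ▸ Subgroup.card_dvd_of_le inf_le_left
    have hWd : Nat.card W ∣ p ^ N := hN ▸ Subgroup.card_dvd_of_le hW.le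
    obtain ⟨i, -, hi⟩ := (Nat.dvd_prime_pow hZ.prime).1 hsd
    obtain ⟨j, -, hj⟩ := (Nat.dvd_prime_pow hZ.prime).1 hWd
    have hij : i < j := by
      by_contra hcon
      push Not at hcon
      have := Nat.pow_le_pow_right hZ.prime.pos hcon
      rw [← hi, ← hj] at this
      omega
    have hsp : 0 < p ^ i := pow_pos hZ.prime.pos i
    rw [← hes, hs, hi, hj] at hWc
    apply Nat.le_of_mul_le_mul_right _ hsp
    rw [← hWc, mul_assoc]
    refine Nat.mul_le_mul_left _ ?_
    rw [← pow_succ']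
    exact Nat.pow_le_pow_right hZ.prime.pos hij
  -- arithmetic
  have hs1 : 1 ≤ s := Nat.card_pos
  have hp := hZ.prime.two_le
  set μ := (P0 C).card with hμ
  set Q := P1.card with hQdef
  have hsub_k : d.k - d.lam = s * w := by omega
  rw [hsub_k] at hineq hkk
  have e1 : p * (s * (e * (s * w))) ≤ p * (μ * (s * s)) + (Q - μ) * (s * s) :=
    (Nat.mul_le_mul_left p hineq).trans hP
  obtain ⟨r, hr⟩ : ∃ r, Q = μ + r := ⟨Q - μ, by omega⟩
  rw [hr, Nat.add_sub_cancel_left] at e1
  have e2 : p * (e * w) ≤ p * μ + r := by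
    apply Nat.le_of_mul_le_mul_right _ (Nat.mul_pos hs1 hs1)
    calc p * (e * w) * (s * s) = p * (s * (e * (s * w))) := by ring
      _ ≤ _ := e1
      _ = _ := by ring
  have e3 : (d.k - 1) * w = d.lam * Q := by
    apply Nat.eq_of_mul_eq_mul_right hs1
    calc (d.k - 1) * w * s = (d.k - 1) * (s * w) := by ring
      _ = d.lam * (d.n - d.k) := hkk
      _ = d.lam * Q * s := by rw [← hQ]; ring
  have hes' : e ≤ s := Nat.le_of_mul_le_mul_right (hes.trans_le hsq) hs1
  obtain ⟨w', hw'⟩ : ∃ w', w = w' + 1 := ⟨w - 1, by omega⟩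
  obtain ⟨e', he'⟩ : ∃ e', e = e' + 1 := ⟨e - 1, by have : 4 ≤ p * p := Nat.mul_le_mul hp hp; omega⟩
  obtain ⟨s', hs'⟩ : ∃ s', s = s' + 1 := ⟨s - 1, by omega⟩
  rw [hs', he', Nat.add_sub_cancel, Nat.add_sub_cancel] at hws
  have hwl : w ≤ d.lam := by
    by_contra hcon
    push Not at hcon
    have h4 : d.lam * e' < w * e' := Nat.mul_lt_mul_of_pos_right hcon (by
      have : 4 ≤ p * p := Nat.mul_le_mul hp hp
      omega)
    have h5 : w * e' ≤ w * s' := Nat.mul_le_mul_left _ (by omega)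
    omega
  rw [show d.k - 1 = d.lam * e + w' by omega] at e3
  have e4 : Q < w * (e + 1) := by
    apply Nat.lt_of_mul_lt_mul_left (a := d.lam)
    rw [← e3]
    have h7 : (d.lam * e + w') * w < (d.lam * e + d.lam) * w :=
      Nat.mul_lt_mul_of_pos_right (by omega) hw1
    calc (d.lam * e + w') * w < (d.lam * e + d.lam) * w := h7
      _ = _ := by ring
  obtain ⟨t, ht⟩ : ∃ t, p = t + 2 := ⟨p - 2, by omega⟩
  have e5 : 2 * (p * e) * w ≤ (p + 1) * Q := by
    have h8 : (t + 1) * μ ≤ (t + 1) * r := Nat.mul_le_mul_left _ (by omega)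
    calc 2 * (p * e) * w = 2 * (p * (e * w)) := by ring
      _ ≤ 2 * (p * μ + r) := Nat.mul_le_mul_left _ e2
      _ ≤ _ := by rw [hr, ht]; linarith
  have e6 : 2 * (p * e) * w < (p + 1) * (e + 1) * w := by
    calc 2 * (p * e) * w ≤ (p + 1) * Q := e5
      _ < (p + 1) * (w * (e + 1)) := Nat.mul_lt_mul_of_pos_left e4 (by omega)
      _ = _ := by ring
  have e7 : 2 * (p * e) < (p + 1) * (e + 1) := Nat.lt_of_mul_lt_mul_right e6
  have h9 : 2 * e ≤ p * e := Nat.mul_le_mul_right _ hp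
  have h10 : p * (2 * 2) ≤ p * e := Nat.mul_le_mul_left _ ((Nat.mul_le_mul hp hp).trans hpe)
  have h11 : (p + 1) * (e + 1) = p * e + p + e + 1 := by ring
  omega

/-- All stabiliser pairs outside the block are matched. -/
theorem Elem.sum_out_eq (hZ : d.Elem p Z) (hC : C ≠ d.o) :
    ∑ x ∈ univ.filter (fun x => ¬ x ∈ d.B), cnt (opp Z C) Z x =
      (d.n - d.k) * Nat.card (stab Z C) := by
  obtain ⟨z, hzZ, hzL⟩ : ∃ z ∈ Z, z ∉ stab Z C := by
    by_contra h
    push Not at h
    have h1 : Nat.card (stab Z C) = Nat.card Z :=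
      le_antisymm (Subgroup.card_le_of_le inf_le_left) (Subgroup.card_le_of_le h)
    have h2 := hZ.toSemi.card_eq hC
    rw [h1] at h2
    have h3 := (Subgroup.one_lt_card_iff_ne_bot Z).2 hZ.ne_bot
    have h4 := d.lam_add_two_le
    have h5 := Nat.eq_of_mul_eq_mul_right (by omega) h2
    omega
  obtain ⟨W, hW, hLW, -⟩ :=
    exists_hyperplane hZ.prime hZ.comm hZ.pow_p (L := stab Z C) inf_le_left hzZ hzL
  have hbal := hZ.balance hC hW
  have hQ := hZ.card_le_hyperplane hW hC
  set s := Nat.card (stab Z C) with hs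
  set P1 := (univ.erase d.o).filter (fun c => stab Z c ≤ W) with hP1
  have hP : ∀ c ∈ P1, cnt (opp Z C) W c = s * s ∧ cnt (opp Z C) Z c = s * s := by
    intro c hc
    simp only [hP1, Finset.mem_filter, Finset.mem_erase] at hc
    have hst := hZ.stab_eq_of_le hC hW hLW hc.1.1 hc.2
    have h1 : s * s ≤ cnt (opp Z C) W c := by
      conv_lhs => arg 2; rw [hs, ← hZ.toSemi.card_opp hC, ← card_els]
      rw [hs, ← card_els, ← Finset.card_product]
      refine Finset.card_le_card fun a ha => ?_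
      simp only [Finset.mem_product, mem_els, Finset.mem_filter] at ha ⊢
      refine ⟨⟨hLW ha.1, ha.2⟩, ?_⟩
      rw [mul_smul, hZ.opp_smul hC hc.1.1 hst ha.2]
      rw [← hst] at ha
      exact ha.1.2
    have h2 := (hZ.cnt_blk_le hC hc.1.1).trans
      (Nat.mul_le_mul_left _ (Subgroup.card_le_of_le inf_le_left))
    have h3 := cnt_mono (opp Z C) hW.le c
    rw [← hs] at h2
    omega
  rw [Finset.sum_congr rfl fun c hc => (hP c hc).1, Finset.sum_congr rfl fun c hc => (hP c hc).2,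
    Finset.sum_const, smul_eq_mul, ← mul_assoc P1.card, hQ] at hbal
  have hmono : ∑ x ∈ univ.filter (fun x => ¬ x ∈ d.B), cnt (opp Z C) W x ≤
      ∑ x ∈ univ.filter (fun x => ¬ x ∈ d.B), cnt (opp Z C) Z x :=
    Finset.sum_le_sum fun x _ => cnt_mono _ hW.le x
  have hup : ∑ x ∈ univ.filter (fun x => ¬ x ∈ d.B), cnt (opp Z C) Z x ≤ (d.n - d.k) * s := by
    rw [← card_compl_filter, ← smul_eq_mul]
    exact Finset.sum_le_card_nsmul _ _ _ fun x hx => hZ.cnt_out_le hC (Finset.mem_filter.1 hx).2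
  have hp := hZ.prime.two_le
  obtain ⟨t, ht⟩ : ∃ t, p = t + 2 := ⟨p - 2, by omega⟩
  rw [ht] at hbal
  nlinarith

/-- `w = 1`. -/
theorem Elem.k_eq (hZ : d.Elem p Z) (hC : C ≠ d.o) :
    d.k = d.lam * (blkOrbit Z C).ncard + 1 := by
  obtain ⟨w, hw1, hkw, hkl, -⟩ := hZ.toSemi.exists_w hC
  have hes := card_blkOrbit Z C
  have hout := hZ.sum_out_eq hC
  have hB := hZ.sum_B hC
  have h := d.sum_fix_finset (els Z ×ˢ els (opp Z C)) fun a => a.1 * a.2
  have hL := hZ.toSemi.sum_card_inf (W := stab Z C) inf_le_left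
  replace h : ∑ x : Ω, cnt (opp Z C) Z x = ∑ c : G ⧸ d.H, cnt (opp Z C) Z c := by
    simp only [cnt_eq]
    exact h
  rw [← Finset.sum_filter_add_sum_filter_not univ (fun x : Ω => x ∈ d.B),
    ← Finset.add_sum_erase (univ : Finset (G ⧸ d.H)) _ (Finset.mem_univ d.o), hout,
    Finset.sum_congr rfl fun x hx => hZ.cnt_B le_rfl (Finset.mem_filter.1 hx).2,
    ← Finset.mul_sum, hB] at h
  have ho : cnt (opp Z C) Z d.o = Nat.card Z * Nat.card (stab Z C) := by
    rw [cnt_eq, Finset.filter_true_of_mem, Finset.card_product, card_els, card_els,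
      hZ.toSemi.card_opp hC]
    intro a ha
    simp only [Finset.mem_product, mem_els] at ha
    exact d.smul_o_iff.2 (d.H.mul_mem (hZ.toSemi.le_H ha.1) ha.2.2)
  have hle : ∑ c ∈ univ.erase d.o, cnt (opp Z C) Z c ≤
      Nat.card (stab Z C) * ∑ c ∈ univ.erase d.o, Nat.card ↥(stab Z c ⊓ stab Z C) := by
    rw [Finset.mul_sum]
    refine Finset.sum_le_sum fun c hc => ?_
    rw [inf_comm]
    exact hZ.cnt_blk_le hC (Finset.mem_erase.1 hc).1
  set s := Nat.card (stab Z C) with hs
  set e := (blkOrbit Z C).ncard with he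
  rw [← hes] at h ho
  have hs1 : 1 ≤ s := Nat.card_pos
  have he2 : 2 ≤ e := by
    by_contra hcon
    interval_cases he' : e
    · rw [zero_mul] at hes
      exact absurd hes.symm Nat.card_pos.ne'
    · rw [one_mul] at hes
      have h2 := hZ.toSemi.card_eq hC
      rw [← hs, hes] at h2
      have h3 := (Subgroup.one_lt_card_iff_ne_bot Z).2 hZ.ne_bot
      have h5 := Nat.eq_of_mul_eq_mul_right (by omega) h2
      have h4 := d.lam_add_two_le
      omega
  rcases eq_or_lt_of_le hw1 with h1 | h1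
  · rw [hkw, ← h1]
  exfalso
  rw [show d.k - d.lam = s * w by omega, ho] at h
  obtain ⟨S', hS'⟩ : ∃ S', S' = ∑ c ∈ univ.erase d.o, Nat.card ↥(stab Z c ⊓ stab Z C) := ⟨_, rfl⟩
  rw [← hS'] at hle hL
  obtain ⟨e', rfl⟩ : ∃ e', w = e' + 2 := ⟨w - 2, by omega⟩
  obtain ⟨f, hf⟩ : ∃ f, e = f + 2 := ⟨e - 2, by omega⟩
  rw [hf] at h hkw
  have hA : s * (d.k * s + (d.n - d.k)) = s * (s + S') := congrArg (s * ·) hL
  rw [hkw] at hA
  have hpos : 0 < (f + 1) * (e' + 1) * (s * s) := by positivity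
  nlinarith

/-- The group is regular outside the block, the number of blocks there is `|Z|`. -/
theorem Elem.card_compl_eq (hZ : d.Elem p Z) : d.n - d.k = Nat.card Z := by
  obtain ⟨C, hC⟩ := Semi.exists_ne_o (d := d)
  have hk := hZ.k_eq hC
  have hes := card_blkOrbit Z C
  obtain ⟨w, -, hkw, hkl, -⟩ := hZ.toSemi.exists_w hC
  obtain rfl : w = 1 := by omega
  have h := d.k_sub_one_mul
  rw [show d.k - d.lam = Nat.card (stab Z C) by omega, hk, Nat.add_sub_cancel, mul_assoc, hes] at h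
  rw [← hk] at h
  exact (Nat.eq_of_mul_eq_mul_left d.lam_pos h).symm

theorem Elem.k_sub_lam (hZ : d.Elem p Z) (hC : C ≠ d.o) :
    d.k = d.lam + Nat.card (stab Z C) := by
  have hk := hZ.k_eq hC
  obtain ⟨w, -, hkw, hkl, -⟩ := hZ.toSemi.exists_w hC
  obtain rfl : w = 1 := by omega
  omega

/-- A hyperplane contains exactly `e` block stabilisers, all of one class. -/
theorem Elem.card_hyperplane (hZ : d.Elem p Z) (hC : C ≠ d.o) (hW : Hyperplane p Z W) :
    ((univ.erase d.o).filter fun c => stab Z c ≤ W).card = (blkOrbit Z C).ncard := by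
  have h := hZ.card_le_hyperplane hW hC
  rw [hZ.card_compl_eq, ← card_blkOrbit Z C] at h
  exact Nat.eq_of_mul_eq_mul_right Nat.card_pos h

/-- Blocks with the same stabiliser form one orbit. -/
theorem Elem.exists_smul_eq_of_stab_eq (hZ : d.Elem p Z) (hC : C ≠ d.o) {c : G ⧸ d.H}
    (hc : c ≠ d.o) (h : stab Z c = stab Z C) : ∃ q ∈ Z, q • C = c := by
  obtain ⟨z, hzZ, hzL⟩ : ∃ z ∈ Z, z ∉ stab Z C := by
    by_contra h
    push Not at h
    have h1 : Nat.card (stab Z C) = Nat.card Z :=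
      le_antisymm (Subgroup.card_le_of_le inf_le_left) (Subgroup.card_le_of_le h)
    have h2 := hZ.toSemi.card_eq hC
    rw [h1] at h2
    have h3 := (Subgroup.one_lt_card_iff_ne_bot Z).2 hZ.ne_bot
    have h4 := d.lam_add_two_le
    have h5 := Nat.eq_of_mul_eq_mul_right (by omega) h2
    omega
  obtain ⟨W, hW, hLW, -⟩ :=
    exists_hyperplane hZ.prime hZ.comm hZ.pow_p (L := stab Z C) inf_le_left hzZ hzL
  have hsub : (blkOrbit Z C).toFinset ⊆ (univ.erase d.o).filter fun c => stab Z c ≤ W := by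
    intro a ha
    rw [Set.mem_toFinset] at ha
    obtain ⟨q, hq, rfl⟩ := ha
    refine Finset.mem_filter.2 ⟨Finset.mem_erase.2 ⟨fun hh => hC ?_, Finset.mem_univ _⟩, ?_⟩
    · rw [← inv_smul_smul q C]
      show q⁻¹ • q • C = d.o
      rw [show q • C = d.o from hh, d.smul_o_iff.2 (d.H.inv_mem (hZ.toSemi.le_H hq))]
    · show stab Z (q • C) ≤ W
      rw [hZ.stab_translate hq]
      exact hLW
  have heq := Finset.eq_of_subset_of_card_le hsub
    (by rw [hZ.card_hyperplane hC hW, Set.ncard_eq_toFinset_card'])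
  have hmem : c ∈ (blkOrbit Z C).toFinset := by
    rw [heq]
    exact Finset.mem_filter.2 ⟨Finset.mem_erase.2 ⟨hc, Finset.mem_univ _⟩, h.trans_le hLW⟩
  rw [Set.mem_toFinset] at hmem
  exact hmem

end Counting

end Datum

end Cfsg.Agent.SymDesign
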