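import Mathlib.GroupTheory.Index
import Mathlib.Algebra.Group.Subgroup.Finite
import Mathlib.Tactic.Abel

/-!
# Spreads closed under planes are desarguesian

A partition of a finite abelian group into subgroups of equal order, in which the sum of two
components is a union of components and is never the whole group, has all the homotheties.
-/

set_option autoImplicit false
set_option linter.unusedSectionVars false

namespace Cfsg.Agent.SymDesign

variable {X : Type*} [AddCommGroup X] [Finite X]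

/-- A spread of subgroups, the component of each element, closed under planes. -/
structure Spread (e : ℕ) (C : X → AddSubgroup X) : Prop where
  mem : ∀ y, y ∈ C y
  eq_of_mem : ∀ y z, z ∈ C y → z ≠ 0 → C z = C y
  card : ∀ y, y ≠ 0 → Nat.card (C y) = e
  plane : ∀ y z u, u ∈ C y ⊔ C z → u ≠ 0 → C u ≤ C y ⊔ C z
  third : ∀ y z, C y ⊔ C z ≠ ⊤
  zero : C 0 = ⊥

namespace Spread

variable {e : ℕ} {C : X → AddSubgroup X} (S : Spread e C)
include S

theorem e_pos {y : X} (hy : y ≠ 0) : 0 < e := S.card y hy ▸ Nat.card_pos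

theorem card_le (y : X) {a : X} (ha : a ≠ 0) : Nat.card (C y) ≤ e := by
  rcases eq_or_ne y 0 with rfl | h
  · rw [S.zero, AddSubgroup.card_bot]
    exact S.e_pos ha
  · exact (S.card y h).le

theorem eq_zero_of_mem {y z u : X} (hy : u ∈ C y) (hz : u ∈ C z) (h : C y ≠ C z) : u = 0 := by
  by_contra hu
  exact h ((S.eq_of_mem y u hy hu).symm.trans (S.eq_of_mem z u hz hu))

theorem neg_eq (y : X) : C (-y) = C y := by
  rcases eq_or_ne y 0 with rfl | h
  · rw [neg_zero]
  · exact S.eq_of_mem y (-y) ((C y).neg_mem (S.mem y)) (neg_ne_zero.2 h)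

theorem notMem_symm {y z : X} (hy : y ≠ 0) (h : z ∉ C y) : y ∉ C z := by
  intro hm
  rw [S.eq_of_mem z y hm hy] at h
  exact h (S.mem z)

/-- Two components of a plane generate it. -/
theorem sup_eq {y z u v : X} (hu : u ∈ C y ⊔ C z) (hv : v ∈ C y ⊔ C z) (hu0 : u ≠ 0)
    (hv0 : v ≠ 0) (h : v ∉ C u) : C u ⊔ C v = C y ⊔ C z := by
  refine AddSubgroup.eq_of_le_of_card_ge (sup_le (S.plane y z u hu hu0) (S.plane y z v hv hv0)) ?_
  have h1 : Nat.card ↥(C y ⊔ C z) ≤ Nat.card (C y) * Nat.card (C z) := by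
    rw [← Nat.card_prod]
    refine Nat.card_le_card_of_surjective
      (fun a => ⟨a.1 + a.2, AddSubgroup.mem_sup.2 ⟨a.1, a.1.2, a.2, a.2.2, rfl⟩⟩) ?_
    rintro ⟨w, hw⟩
    obtain ⟨b, hb, c, hc, rfl⟩ := AddSubgroup.mem_sup.1 hw
    exact ⟨(⟨b, hb⟩, ⟨c, hc⟩), rfl⟩
  have h2 : e * e ≤ Nat.card ↥(C u ⊔ C v) := by
    conv_lhs => arg 1; rw [← S.card u hu0]
    conv_lhs => arg 2; rw [← S.card v hv0]
    rw [← Nat.card_prod]
    refine Nat.card_le_card_of_injective
      (fun a => (⟨a.1 + a.2, AddSubgroup.mem_sup.2 ⟨a.1, a.1.2, a.2, a.2.2, rfl⟩⟩ :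
        ↥(C u ⊔ C v))) ?_
    rintro ⟨⟨a, ha⟩, ⟨b, hb⟩⟩ ⟨⟨a', ha'⟩, ⟨b', hb'⟩⟩ he
    have he' : a + b = a' + b' := congrArg Subtype.val he
    have hne : C u ≠ C v := fun hh => h (hh ▸ S.mem v)
    have h3 : a - a' = b' - b := by
      rw [sub_eq_sub_iff_add_eq_add, he', add_comm]
    have h4 : a - a' = 0 :=
      S.eq_zero_of_mem ((C u).sub_mem ha ha') (h3 ▸ (C v).sub_mem hb' hb) hne
    rw [h4, eq_comm, sub_eq_zero] at h3
    rw [sub_eq_zero] at h4
    subst h3 h4
    rfl
  exact h1.trans ((Nat.mul_le_mul (S.card_le y hu0) (S.card_le z hu0)).trans h2)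

/-- The defining property of the image of `y` under the homothety taking `a` to `a'`. -/
def Img (C : X → AddSubgroup X) (a a' y b : X) : Prop := b ∈ C y ∧ b - a' ∈ C (y - a)

theorem exists_img {a a' y : X} (ha : a ≠ 0) (ha' : a' ∈ C a) : ∃ b, Img C a a' y b := by
  have h1 : a ∈ C y ⊔ C (y - a) := by
    have := AddSubgroup.sub_mem _ (AddSubgroup.mem_sup_left (T := C (y - a)) (S.mem y))
      (AddSubgroup.mem_sup_right (S := C y) (S.mem (y - a)))
    simpa using this
  obtain ⟨b, hb, c, hc, hbc⟩ := AddSubgroup.mem_sup.1 (S.plane y (y - a) a h1 ha ha')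
  refine ⟨b, hb, ?_⟩
  rw [← hbc, show b - (b + c) = -c by abel]
  exact (C (y - a)).neg_mem hc

theorem img_unique {a a' y b b' : X} (ha : a ≠ 0) (hy : y ∉ C a) (h : Img C a a' y b)
    (h' : Img C a a' y b') : b = b' := by
  have h1 : b - b' ∈ C y := (C y).sub_mem h.1 h'.1
  have h2 : b - b' ∈ C (y - a) := by simpa using (C (y - a)).sub_mem h.2 h'.2
  by_contra hne
  have h3 := (S.eq_of_mem _ _ h1 (sub_ne_zero.2 hne)).symm.trans
    (S.eq_of_mem _ _ h2 (sub_ne_zero.2 hne))
  have h4 : a ∈ C y := by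
    have := (C y).sub_mem (S.mem y) (show y - a ∈ C y by rw [h3]; exact S.mem _)
    simpa using this
  exact hy (S.eq_of_mem y a h4 ha ▸ S.mem y)

theorem img_sub {a a' y z b c : X} (hy0 : y ≠ 0) (hzy : z ∉ C y)
    (haP : a ∉ C y ⊔ C z) (hb : Img C a a' y b) (hc : Img C a a' z c) : b - c ∈ C (y - z) := by
  rcases eq_or_ne (b - c) 0 with h | h
  · rw [h]; exact zero_mem _
  by_contra hn
  have hu0 : y - z ≠ 0 := sub_ne_zero.2 fun hh => hzy (hh ▸ S.mem y)
  have huP : y - z ∈ C y ⊔ C z :=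
    AddSubgroup.sub_mem _ (AddSubgroup.mem_sup_left (S.mem y))
      (AddSubgroup.mem_sup_right (S.mem z))
  have huQ : y - z ∈ C (y - a) ⊔ C (z - a) := by
    have := AddSubgroup.sub_mem _ (AddSubgroup.mem_sup_left (T := C (z - a)) (S.mem (y - a)))
      (AddSubgroup.mem_sup_right (S := C (y - a)) (S.mem (z - a)))
    simpa using this
  have hvP : b - c ∈ C y ⊔ C z :=
    AddSubgroup.sub_mem _ (AddSubgroup.mem_sup_left hb.1) (AddSubgroup.mem_sup_right hc.1)
  have hvQ : b - c ∈ C (y - a) ⊔ C (z - a) := by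
    have := AddSubgroup.sub_mem _ (AddSubgroup.mem_sup_left (T := C (z - a)) hb.2)
      (AddSubgroup.mem_sup_right (S := C (y - a)) hc.2)
    simpa using this
  have heq : C y ⊔ C z = C (y - a) ⊔ C (z - a) :=
    (S.sup_eq huP hvP hu0 h hn).symm.trans (S.sup_eq huQ hvQ hu0 h hn)
  refine haP ?_
  have := AddSubgroup.sub_mem _ (AddSubgroup.mem_sup_left (T := C z) (S.mem y))
    (show y - a ∈ C y ⊔ C z by rw [heq]; exact AddSubgroup.mem_sup_left (S.mem _))
  simpa using this

/-- The image depends only on the homothety. -/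
theorem img_transfer {a a' b b' y v : X} (ha : a ≠ 0) (hb0 : b ≠ 0)
    (hba : b ∉ C a) (hbb : Img C a a' b b') (hy : y ∉ C a ⊔ C b) (h : Img C a a' y v) :
    Img C b b' y v := by
  refine ⟨h.1, ?_⟩
  have hy0 : y ≠ 0 := fun hh => hy (hh ▸ zero_mem _)
  have hby : b ∉ C y := fun hm => hy (AddSubgroup.mem_sup_right (S.eq_of_mem y b hm hb0 ▸ S.mem y))
  refine S.img_sub hy0 hby ?_ h hbb
  intro hm
  refine hy ?_
  have h2 : b ∈ C y ⊔ C b := AddSubgroup.mem_sup_right (S.mem b)
  rw [S.sup_eq hm h2 ha hb0 hba]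
  exact AddSubgroup.mem_sup_left (S.mem y)

/-- All homotheties exist. -/
theorem exists_end {a a' : X} (ha : a ≠ 0) (ha' : a' ∈ C a) :
    ∃ φ : X →+ X, (∀ y, φ y ∈ C y) ∧ φ a = a' := by
  classical
  obtain ⟨b, hbA⟩ : ∃ b, b ∉ C a ⊔ C a := by
    by_contra h
    push Not at h
    exact S.third a a ((AddSubgroup.eq_top_iff' _).2 h)
  rw [sup_idem] at hbA
  have hb0 : b ≠ 0 := fun h => hbA (h ▸ zero_mem _)
  choose g hg using fun y => S.exists_img (y := y) ha ha'
  choose g' hg' using fun y => S.exists_img (y := y) hb0 (hg b).1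
  let φ : X → X := fun y => if y = 0 then 0 else if y ∈ C a then g' y else g y
  have hmem : ∀ y, φ y ∈ C y := by
    intro y
    simp only [φ]
    split_ifs with h1 h2
    · exact zero_mem _
    · exact (hg' y).1
    · exact (hg y).1
  have hI : ∀ u v, u ≠ 0 → v ≠ 0 → v ∉ C u → φ u - φ v ∈ C (u - v) := by
    intro u v hu hv huv
    by_cases haP : a ∈ C u ⊔ C v
    · obtain ⟨c, hc1, hc2⟩ : ∃ c, c ∉ C u ⊔ C v ∧ c ∉ C a ⊔ C b := by
        by_contra hh
        push Not at hh
        rcases (em (∃ x, x ∉ C u ⊔ C v)) with ⟨x, hx⟩ | hall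
        · rcases (em (∃ z, z ∉ C a ⊔ C b)) with ⟨z, hz⟩ | hall
          · have hz1 : z ∈ C u ⊔ C v := by
              by_contra h
              exact hz (hh z h)
            have h1 : x + z ∉ C u ⊔ C v := fun h => hx (by simpa using AddSubgroup.sub_mem _ h hz1)
            have := AddSubgroup.sub_mem _ (hh _ h1) (hh x hx)
            exact hz (by simpa using this)
          · push Not at hall
            exact S.third a b ((AddSubgroup.eq_top_iff' _).2 hall)
        · push Not at hall
          exact S.third u v ((AddSubgroup.eq_top_iff' _).2 hall)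
      have hc0 : c ≠ 0 := fun h => hc1 (h ▸ zero_mem _)
      have hca : c ∉ C a := fun h => hc2 (AddSubgroup.mem_sup_left h)
      have key : ∀ y, y ∈ C u ⊔ C v → y ≠ 0 → Img C c (g c) y (φ y) := by
        intro y hyP hy0
        have hcy : c ∉ C y := fun h => hc1 (S.plane u v y hyP hy0 h)
        by_cases hyA : y ∈ C a
        · simp only [φ, if_neg hy0, if_pos hyA]
          have hbb : Img C b (g b) c (g c) :=
            S.img_transfer ha hb0 hbA (hg b) hc2 (hg c)
          refine S.img_transfer hb0 hc0 (fun h => hc2 (AddSubgroup.mem_sup_right h)) hbb ?_ (hg' y)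
          intro hm
          refine hc2 ?_
          have hyb : b ∉ C y := fun h => hbA (S.eq_of_mem a y hyA hy0 ▸ h)
          have h2 : b ∈ C b ⊔ C c := AddSubgroup.mem_sup_left (S.mem b)
          have h3 := S.sup_eq hm h2 hy0 hb0 hyb
          rw [S.eq_of_mem a y hyA hy0] at h3
          rw [h3]
          exact AddSubgroup.mem_sup_right (S.mem c)
        · simp only [φ, if_neg hy0, if_neg hyA]
          refine S.img_transfer ha hc0 hca (hg c) ?_ (hg y)
          intro hm
          refine hc1 ?_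
          have h2 : a ∈ C a ⊔ C c := AddSubgroup.mem_sup_left (S.mem a)
          have h3 := S.sup_eq h2 hm ha hy0 hyA
          have h4 : C a ⊔ C y ≤ C u ⊔ C v :=
            sup_le (S.plane u v a haP ha) (S.plane u v y hyP hy0)
          rw [h3] at h4
          exact h4 (AddSubgroup.mem_sup_right (S.mem c))
      exact S.img_sub hu huv hc1 (key u (AddSubgroup.mem_sup_left (S.mem u)) hu)
        (key v (AddSubgroup.mem_sup_right (S.mem v)) hv)
    · have hu' : u ∉ C a := fun h => haP (AddSubgroup.mem_sup_left (S.eq_of_mem a u h hu ▸ S.mem a))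
      have hv' : v ∉ C a := fun h => haP (AddSubgroup.mem_sup_right (S.eq_of_mem a v h hv ▸ S.mem a))
      simp only [φ, if_neg hu, if_neg hv, if_neg hu', if_neg hv']
      exact S.img_sub hu huv haP (hg u) (hg v)
  have hadd₁ : ∀ u v, u ≠ 0 → v ≠ 0 → v ∉ C u → φ (u + v) = φ u + φ v := by
    intro u v hu hv huv
    have hw0 : u + v ≠ 0 := fun h => huv (by
      rw [show v = -u from (neg_eq_of_add_eq_zero_right h).symm]
      exact (C u).neg_mem (S.mem u))
    have hwu : u ∉ C (u + v) := fun h => huv (by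
      rw [S.eq_of_mem (u + v) u h hu]
      simpa using (C (u + v)).sub_mem (S.mem (u + v)) h)
    have hwv : v ∉ C (u + v) := fun h => huv (by
      have h1 : u ∈ C (u + v) := by simpa using (C (u + v)).sub_mem (S.mem (u + v)) h
      rwa [S.eq_of_mem (u + v) u h1 hu])
    have h1 : φ (u + v) - φ v ∈ C u := by simpa using hI (u + v) v hw0 hv hwv
    have h2 : φ (u + v) - φ u ∈ C v := by simpa using hI (u + v) u hw0 hu hwu
    have h3 : φ (u + v) - φ u - φ v ∈ C u := by
      have := (C u).sub_mem h1 (hmem u)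
      rwa [sub_right_comm] at this
    have h4 : φ (u + v) - φ u - φ v ∈ C v := (C v).sub_mem h2 (hmem v)
    have := S.eq_zero_of_mem h3 h4 (fun h => huv (h ▸ S.mem v))
    rwa [sub_sub, sub_eq_zero] at this
  have h0 : φ 0 = 0 := if_pos rfl
  have hadd : ∀ u v, φ (u + v) = φ u + φ v := by
    intro u v
    rcases eq_or_ne u 0 with rfl | hu
    · rw [zero_add, h0, zero_add]
    rcases eq_or_ne v 0 with rfl | hv
    · rw [add_zero, h0, add_zero]
    by_cases huv : v ∈ C u
    · obtain ⟨w, hw⟩ : ∃ w, w ∉ C u ⊔ C u := by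
        by_contra h
        push Not at h
        exact S.third u u ((AddSubgroup.eq_top_iff' _).2 h)
      rw [sup_idem] at hw
      have hCv := S.eq_of_mem u v huv hv
      have hw0 : w ≠ 0 := fun h => hw (h ▸ zero_mem _)
      have hvw : v + w ∉ C u := fun h => hw (by simpa using (C u).sub_mem h huv)
      have e1 : φ (u + (v + w)) = φ u + (φ v + φ w) := by
        rw [hadd₁ u (v + w) hu (fun h => hvw (h ▸ zero_mem _)) hvw,
          hadd₁ v w hv hw0 (hCv ▸ hw)]
      rcases eq_or_ne (u + v) 0 with h | h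
      · rw [← add_assoc, h, zero_add, ← add_assoc] at e1
        rw [h, h0]
        exact (right_eq_add.1 e1).symm
      · have e2 : φ (u + (v + w)) = φ (u + v) + φ w := by
          rw [← add_assoc]
          refine hadd₁ (u + v) w h hw0 ?_
          rwa [S.eq_of_mem u (u + v) ((C u).add_mem (S.mem u) huv) h]
        rw [e1, ← add_assoc] at e2
        exact (add_right_cancel e2).symm
    · exact hadd₁ u v hu hv huv
  refine ⟨AddMonoidHom.mk' φ hadd, hmem, ?_⟩
  show φ a = a'
  simp only [φ, if_neg ha, if_pos (S.mem a)]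
  refine S.img_unique hb0 (S.notMem_symm ha hbA) (hg' a) ⟨ha', ?_⟩
  have := (C (b - a)).neg_mem (hg b).2
  rw [neg_sub] at this
  rwa [← neg_sub b a, S.neg_eq]

/-- A homothety killing a nonzero element is zero. -/
theorem eq_zero_of_apply {φ : X →+ X} (hφ : ∀ y, φ y ∈ C y) {y : X} (hy : y ≠ 0)
    (h : φ y = 0) : φ = 0 := by
  have hout : ∀ z, z ∉ C y → φ z = 0 := by
    intro z hz
    have hz0 : z ≠ 0 := fun hh => hz (hh ▸ zero_mem _)
    have h1 : φ z ∈ C (y + z) := by simpa [h] using hφ (y + z)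
    refine S.eq_zero_of_mem (hφ z) h1 fun hh => ?_
    have h2 : y ∈ C z := by
      have := (C z).sub_mem (show y + z ∈ C z by rw [hh]; exact S.mem _) (S.mem z)
      simpa using this
    exact hz (S.eq_of_mem z y h2 hy ▸ S.mem z)
  ext z
  rw [AddMonoidHom.zero_apply]
  by_cases hz : z ∈ C y
  · obtain ⟨w, hw⟩ : ∃ w, w ∉ C y ⊔ C y := by
      by_contra h
      push Not at h
      exact S.third y y ((AddSubgroup.eq_top_iff' _).2 h)
    rw [sup_idem] at hw
    have hzw : z + w ∉ C y := fun h' => hw (by simpa using (C y).sub_mem h' hz)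
    have h3 := hout _ hzw
    rwa [map_add, hout w hw, add_zero] at h3
  · exact hout z hz

end Spread

end Cfsg.Agent.SymDesign
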