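import Cfsg.Agent.Lib.SymDesign.Coord
import Cfsg.Agent.Lib.Classical.SL
import Mathlib.LinearAlgebra.Projectivization.Action
import Mathlib.LinearAlgebra.Matrix.SchurComplement

/-!
# The group contains the projective special linear group

The axial group of a block acts as all transvections with the corresponding axis.
-/

set_option autoImplicit false
set_option linter.unusedSectionVars false
set_option linter.style.haveILetI false

namespace Cfsg.Agent.SymDesign

open MulAction Finset Module
open scoped Pointwise Classical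

variable {G Ω : Type*} [Group G] [MulAction G Ω] [Finite G] [Finite Ω] [FaithfulSMul G Ω]

namespace Datum

variable {d : Datum G Ω} [Fintype Ω] [Fintype (G ⧸ d.H)]
variable {p : ℕ} {Z : Subgroup G}

theorem Elem.axial_trans (hZ : d.Elem p Z) {D : G ⧸ d.H} {x y : Ω} (hx : x ∉ d.S D)
    (hy : y ∉ d.S D) : ∃ σ ∈ axial Z D, σ • x = y := by
  have hcr : ∀ z, z ∉ d.S D → (pick D)⁻¹ • z ∉ d.B := fun z hz h => hz (by
    rw [← pick_spec D, d.mem_S_smul_iff, d.S_o]
    exact h)
  set x' := (pick D)⁻¹ • x with hx'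
  have hrange : (els Z).image (fun z => z • x') = univ.filter fun z => z ∉ d.B := by
    refine Finset.eq_of_subset_of_card_le ?_ ?_
    · intro w hw
      obtain ⟨z, hz, rfl⟩ := Finset.mem_image.1 hw
      exact Finset.mem_filter.2 ⟨Finset.mem_univ _,
        fun h => hcr x hx ((d.smul_mem_B_iff (hZ.toSemi.le_H (mem_els.1 hz))).1 h)⟩
    · rw [card_compl_filter, hZ.card_compl_eq, Finset.card_image_of_injOn, card_els]
      intro z hz z' hz' h
      rw [Finset.mem_coe, mem_els] at hz hz'
      by_contra hne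
      refine hcr x hx (hZ.semi (z'⁻¹ * z) (Z.mul_mem (Z.inv_mem hz') hz) ?_ x' ?_)
      · rwa [Ne, inv_mul_eq_one, eq_comm]
      · rw [mul_smul, show z • x' = z' • x' from h, inv_smul_smul]
  have hy' : (pick D)⁻¹ • y ∈ (els Z).image (fun z => z • x') := by
    rw [hrange]
    exact Finset.mem_filter.2 ⟨Finset.mem_univ _, hcr y hy⟩
  obtain ⟨z, hz, hzy⟩ := Finset.mem_image.1 hy'
  refine ⟨pick D * z * (pick D)⁻¹, mem_axial.2 (by simpa [mul_assoc] using mem_els.1 hz), ?_⟩
  rw [mul_smul, mul_smul, ← hx', hzy, smul_inv_smul]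

/-- Transport of the action to a set in bijection. -/
def transport {α : Type*} (φ : Ω ≃ α) : G →* Equiv.Perm α where
  toFun g := φ.permCongr (MulAction.toPerm g)
  map_one' := by
    ext x
    simp
  map_mul' g h := by
    ext x
    simp [mul_smul]

@[simp] theorem transport_apply {α : Type*} (φ : Ω ≃ α) (g : G) (a : α) :
    transport φ g a = φ (g • φ.symm a) := rfl

theorem conclusion (hZ : d.Elem p Z) (hc : d.HasCoords) :
    ∃ (m : ℕ) (F : Type) (_ : Field F) (_ : Fintype F), 2 ≤ m ∧
      Nat.card Ω = (Fintype.card F ^ (m + 1) - 1) / (Fintype.card F - 1) ∧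
      ∃ N : Subgroup G, N.Normal ∧
        Nonempty (N ≃* Matrix.ProjectiveSpecialLinearGroup (Fin (m + 1)) F) ∧
        Subgroup.centralizer (N : Set G) = ⊥ := by
  obtain ⟨F, iF, iT, m, hm, φ, hψD, hDψ⟩ := hc
  have hcard : Nat.card Ω = (Fintype.card F ^ (m + 1) - 1) / (Fintype.card F - 1) := by
    rw [Nat.card_congr φ, Projectivization.card'', Nat.card_eq_fintype_card (α := F), Nat.card_fun]
    simp
  refine ⟨m, F, iF, iT, hm, hcard, ?_⟩
  set N : Subgroup G := Subgroup.closure {g | ∃ D : G ⧸ d.H, g ∈ axial Z D} with hN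
  have hgen : ∀ {D : G ⧸ d.H} {g : G}, g ∈ axial Z D → g ∈ N :=
    fun {D g} h => Subgroup.subset_closure ⟨D, h⟩
  -- the point of a vector
  let pt : ∀ v : Fin (m + 1) → F, v ≠ 0 → Ω := fun v hv => φ.symm (Projectivization.mk F v hv)
  have hpt : ∀ (ψ : Dual F (Fin (m + 1) → F)) (D : G ⧸ d.H),
      (∀ x, x ∈ d.S D ↔ ψ (φ x).rep = 0) → ∀ v hv, pt v hv ∈ d.S D ↔ ψ v = 0 := by
    intro ψ D h v hv
    rw [h, show φ (pt v hv) = Projectivization.mk F v hv from φ.apply_symm_apply _]
    have hr := Projectivization.mk_rep (Projectivization.mk F v hv)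
    rw [Projectivization.mk_eq_mk_iff] at hr
    obtain ⟨a, ha⟩ := hr
    rw [← ha, Units.smul_def, map_smul, smul_eq_zero, or_iff_right a.ne_zero]
  have hpt_surj : ∀ x : Ω, ∃ v hv, pt v hv = x := by
    intro x
    exact ⟨(φ x).rep, Projectivization.rep_nonzero _, by
      simp only [pt, Projectivization.mk_rep, Equiv.symm_apply_apply]⟩
  have hpt_eq : ∀ v hv w hw, pt v hv = pt w hw ↔ ∃ a : F, a • w = v := by
    intro v hv w hw
    rw [φ.symm.injective.eq_iff, Projectivization.mk_eq_mk_iff']
  -- lines are preserved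
  have hcol : ∀ (g : G) (a b c a' b' c' : Fin (m + 1) → F) (ha : a ≠ 0) (hb : b ≠ 0) (hc : c ≠ 0)
      (ha' : a' ≠ 0) (hb' : b' ≠ 0) (hc' : c' ≠ 0), c ∈ Submodule.span F {a, b} →
      g • pt a ha = pt a' ha' → g • pt b hb = pt b' hb' → g • pt c hc = pt c' hc' →
      c' ∈ Submodule.span F {a', b'} := by
    intro g a b c a' b' c' ha hb hc ha' hb' hc' hmem hga hgb hgc
    by_contra hn
    obtain ⟨ψ, hψc, hψ⟩ := Submodule.exists_dual_map_eq_bot_of_notMem hn inferInstance
    replace hψ : ∀ z ∈ Submodule.span F {a', b'}, ψ z = 0 := fun z hz =>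
      (Submodule.eq_bot_iff _).1 hψ _ ⟨z, hz, rfl⟩
    have hψ0 : ψ ≠ 0 := fun h => hψc (by rw [h]; rfl)
    obtain ⟨D, hD⟩ := hψD ψ hψ0
    obtain ⟨θ, -, hθ⟩ := hDψ (g⁻¹ • D)
    have key : ∀ w w' hw hw', g • pt w hw = pt w' hw' → (θ w = 0 ↔ ψ w' = 0) := by
      intro w w' hw hw' hgw
      rw [← hpt θ _ hθ w hw, ← hpt ψ D hD w' hw', d.mem_S_smul_iff, inv_inv, hgw]
    refine hψc ((key c c' hc hc' hgc).1 ?_)
    obtain ⟨x, y, rfl⟩ := Submodule.mem_span_pair.1 hmem
    rw [map_add, map_smul, map_smul, (key a a' ha ha' hga).2 (hψ _ (Submodule.subset_span (by simp))),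
      (key b b' hb hb' hgb).2 (hψ _ (Submodule.subset_span (by simp))), smul_zero, smul_zero, add_zero]
  -- elements of an axial group are transvections
  have htr : ∀ (ψ : Dual F (Fin (m + 1) → F)) (D : G ⧸ d.H), ψ ≠ 0 →
      (∀ x, x ∈ d.S D ↔ ψ (φ x).rep = 0) → ∀ σ ∈ axial Z D,
      ∃ a, ψ a = 0 ∧ ∀ v hv, ∃ hv', σ • pt v hv = pt (v + ψ v • a) hv' := by
    intro ψ D hψ hD σ hσ
    rcases eq_or_ne σ 1 with rfl | hσ1
    · exact ⟨0, map_zero _, fun v hv => ⟨by simpa using hv, by simp [one_smul]⟩⟩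
    have hfix : ∀ v hv, σ • pt v hv = pt v hv ↔ ψ v = 0 := fun v hv => by
      rw [hZ.toSemi.axial_fix_iff hσ hσ1, hpt ψ D hD]
    have hne0 : ∀ v, ψ v = 1 → v ≠ 0 := fun v h h0 => by
      rw [h0, map_zero] at h
      exact zero_ne_one h
    have himg : ∀ v (h : ψ v = 1), ∃ a, ψ a = 0 ∧ a ≠ 0 ∧
        ∀ (h' : v + a ≠ 0), σ • pt v (hne0 v h) = pt (v + a) h' := by
      intro v h
      obtain ⟨w, hw, hwx⟩ := hpt_surj (σ • pt v (hne0 v h))
      have hψw : ψ w ≠ 0 := by
        intro h0
        have h1 : σ • pt v (hne0 v h) ∈ d.S D := hwx ▸ (hpt ψ D hD w hw).2 h0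
        have h2 := hZ.toSemi.axial_fix hσ h1
        rw [smul_left_cancel_iff] at h2
        exact one_ne_zero (h ▸ (hfix v (hne0 v h)).1 h2)
      refine ⟨(ψ w)⁻¹ • w - v, ?_, ?_, fun h' => ?_⟩
      · rw [map_sub, map_smul, smul_eq_mul, inv_mul_cancel₀ hψw, h, sub_self]
      · intro h0
        rw [sub_eq_zero] at h0
        refine one_ne_zero (h ▸ (hfix v (hne0 v h)).1 ?_)
        rw [← hwx, hpt_eq]
        exact ⟨ψ w, by rw [← h0, smul_inv_smul₀ hψw]⟩
      · rw [← hwx, hpt_eq]
        exact ⟨ψ w, by rw [add_sub_cancel, smul_inv_smul₀ hψw]⟩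
    choose A hA0 hAne hA using himg
    have hA1 : ∀ v h, ψ (v + A v h) = 1 := fun v h => by rw [map_add, h, hA0, add_zero]
    have hA' : ∀ v h, σ • pt v (hne0 v h) = pt (v + A v h) (hne0 _ (hA1 v h)) :=
      fun v h => hA v h _
    -- two points off the axis
    have hpair : ∀ v w hv hw, w - v ∉ Submodule.span F {A v hv} → A w hw = A v hv := by
      intro v w hv hw hnp
      have hd0 : w - v ≠ 0 := fun h => hnp (h ▸ Submodule.zero_mem _)
      have hψd : ψ (w - v) = 0 := by rw [map_sub, hv, hw, sub_self]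
      have h1 := hcol σ v (w - v) w (v + A v hv) (w - v) (w + A w hw) (hne0 v hv) hd0 (hne0 w hw)
        (hne0 _ (hA1 v hv)) hd0 (hne0 _ (hA1 w hw))
        (Submodule.mem_span_pair.2 ⟨1, 1, by simp⟩) (hA' v hv) ((hfix _ hd0).2 hψd) (hA' w hw)
      obtain ⟨x, y, hxy⟩ := Submodule.mem_span_pair.1 h1
      have hx : x = 1 := by
        have := congrArg ψ hxy
        rw [map_add, map_smul, map_smul, hA1, hA1, hψd, smul_zero, add_zero, smul_eq_mul,
          mul_one] at this
        exact this
      subst hx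
      have hrel : A w hw - A v hv = (y - 1) • (w - v) := by
        rw [one_smul] at hxy
        rw [sub_smul, one_smul, eq_comm, ← sub_eq_zero]
        rw [← sub_eq_zero] at hxy
        rw [← hxy]
        abel
      by_contra hne
      have hy : y - 1 ≠ 0 := fun h => hne (by rwa [h, zero_smul, sub_eq_zero] at hrel)
      set δ := (y - 1)⁻¹ with hδ
      have hwv : w - v = δ • (A w hw - A v hv) := by
        rw [hrel, smul_smul, inv_mul_cancel₀ hy, one_smul]
      by_cases hpar : A w hw ∈ Submodule.span F {A v hv}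
      · refine hnp (hwv ▸ Submodule.smul_mem _ _ (Submodule.sub_mem _ hpar ?_))
        exact Submodule.mem_span_singleton_self _
      -- the common point of the two invariant lines
      set u := v - δ • A v hv with hu
      have hu' : u = w - δ • A w hw := by
        have h0 := hwv
        rw [smul_sub, sub_eq_sub_iff_add_eq_add] at h0
        rw [hu, sub_eq_sub_iff_add_eq_add, h0]
        exact add_comm _ _
      have hu1 : ψ u = 1 := by rw [hu, map_sub, map_smul, hA0, smul_zero, sub_zero, hv]
      have hline : ∀ z hz, u ∈ Submodule.span F {z, A z hz} →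
          ∃ x : F, u + A u hu1 = z + x • A z hz := by
        intro z hz hmem
        have h2 := hcol σ z (A z hz) u (z + A z hz) (A z hz) (u + A u hu1) (hne0 z hz) (hAne z hz)
          (hne0 u hu1) (hne0 _ (hA1 z hz)) (hAne z hz) (hne0 _ (hA1 u hu1)) hmem (hA' z hz)
          ((hfix _ (hAne z hz)).2 (hA0 z hz)) (hA' u hu1)
        obtain ⟨x₁, x₂, hx⟩ := Submodule.mem_span_pair.1 h2
        have hx₁ : x₁ = 1 := by
          have := congrArg ψ hx
          rw [map_add, map_smul, map_smul, hA1, hA1, hA0, smul_zero, add_zero, smul_eq_mul,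
            mul_one] at this
          exact this
        subst hx₁
        refine ⟨1 + x₂, ?_⟩
        rw [← hx, add_smul, one_smul, one_smul]
        abel
      obtain ⟨s, hs⟩ := hline v hv (Submodule.mem_span_pair.2 ⟨1, -δ, by rw [hu, one_smul, neg_smul, sub_eq_add_neg]⟩)
      obtain ⟨t, ht⟩ := hline w hw (Submodule.mem_span_pair.2 ⟨1, -δ, by rw [hu', one_smul, neg_smul, sub_eq_add_neg]⟩)
      have h3 : (t + δ) • A w hw = (s + δ) • A v hv := by
        have h4 : w + t • A w hw = v + s • A v hv := ht.symm.trans hs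
        have e1 : w = u + δ • A w hw := by rw [hu']; abel
        have e2 : v = u + δ • A v hv := by rw [hu]; abel
        have h5 : u + δ • A w hw + t • A w hw = u + δ • A v hv + s • A v hv := by
          rw [← e1, ← e2]; exact h4
        rw [add_assoc, add_assoc, add_right_inj] at h5
        rw [add_smul, add_smul, add_comm (t • _), add_comm (s • _)]
        exact h5
      have ht0 : t + δ = 0 := by
        by_contra h0
        refine hpar (Submodule.mem_span_singleton.2 ⟨(t + δ)⁻¹ * (s + δ), ?_⟩)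
        rw [mul_smul, ← h3, inv_smul_smul₀ h0]
      refine hAne u hu1 (add_eq_left.1 (ht.trans ?_))
      rw [eq_neg_of_add_eq_zero_left ht0, neg_smul, ← sub_eq_add_neg]
      exact hu'.symm
    obtain ⟨v₀, hv₀⟩ := ψ.surjective_of_ne_zero hψ 1
    refine ⟨A v₀ hv₀, hA0 _ _, ?_⟩
    have hconst : ∀ w hw, A w hw = A v₀ hv₀ := by
      intro w hw
      by_cases hnp : w - v₀ ∈ Submodule.span F {A v₀ hv₀}
      · obtain ⟨u, hu, hun⟩ : ∃ u, ψ u = 0 ∧ u ∉ Submodule.span F {A v₀ hv₀} := by
          by_contra hh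
          push Not at hh
          have h1 : LinearMap.ker ψ ≤ Submodule.span F {A v₀ hv₀} := fun u hu => hh u hu
          have h2 := (Submodule.finrank_mono h1).trans (finrank_span_singleton (hAne v₀ hv₀)).le
          have h3 := LinearMap.finrank_range_add_finrank_ker ψ
          have h4 := LinearMap.range_eq_top.2 (ψ.surjective_of_ne_zero hψ)
          rw [h4, finrank_top, Module.finrank_self, Module.finrank_fin_fun] at h3
          omega
        have hv2 : ψ (v₀ + u) = 1 := by rw [map_add, hv₀, hu, add_zero]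
        have e1 := hpair v₀ (v₀ + u) hv₀ hv2 (by simpa using hun)
        have e2 : A w hw = A (v₀ + u) hv2 := by
          refine hpair _ _ _ _ fun h => hun ?_
          rw [e1] at h
          have := Submodule.sub_mem _ hnp h
          rwa [show w - v₀ - (w - (v₀ + u)) = u by abel] at this
        exact e2.trans e1
      · exact hpair _ _ _ _ hnp
    intro v hv
    by_cases h0 : ψ v = 0
    · refine ⟨by simpa [h0] using hv, ?_⟩
      rw [(hfix v hv).2 h0]
      simp [h0]
    · set w := (ψ v)⁻¹ • v with hw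
      have hw1 : ψ w = 1 := by rw [hw, map_smul, smul_eq_mul, inv_mul_cancel₀ h0]
      have hv' : v + ψ v • A v₀ hv₀ ≠ 0 := by
        intro h
        have := congrArg ψ h
        rw [map_add, map_smul, hA0, smul_zero, add_zero, map_zero] at this
        exact h0 this
      refine ⟨hv', ?_⟩
      have e : pt v hv = pt w (hne0 w hw1) :=
        (hpt_eq _ _ _ _).2 ⟨ψ v, by rw [hw, smul_inv_smul₀ h0]⟩
      rw [e, hA' w hw1, hpt_eq]
      exact ⟨(ψ v)⁻¹, by rw [hconst w hw1, smul_add, inv_smul_smul₀ h0]⟩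
  -- the image of the special linear group
  set ρ := transport (G := G) φ with hρ
  have hρinj : Function.Injective ρ := by
    intro g h hgh
    refine eq_of_smul_eq_smul (α := Ω) fun x => ?_
    have := congrArg (fun π : Equiv.Perm _ => π (φ x)) hgh
    simpa [hρ] using this
  set P := MulAction.toPermHom (Matrix.SpecialLinearGroup (Fin (m + 1)) F)
    (Projectivization F (Fin (m + 1) → F)) with hP
  have hρtr : ∀ (g : G) (M : Matrix.SpecialLinearGroup (Fin (m + 1)) F),
      (∀ v hv, ∃ hv', g • pt v hv = pt (M • v) hv') → ρ g = P M := by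
    intro g M h
    ext z
    induction z using Projectivization.ind with
    | h v hv =>
      obtain ⟨hv', he⟩ := h v hv
      show φ (g • pt v hv) = M • Projectivization.mk F v hv
      rw [he, Projectivization.smul_mk]
      exact φ.apply_symm_apply _
  have hmap : N.map ρ = P.range := by
    refine le_antisymm ?_ ?_
    · rw [hN, MonoidHom.map_closure, Subgroup.closure_le]
      rintro _ ⟨σ, ⟨D, hσ⟩, rfl⟩
      obtain ⟨ψ, hψ, hD⟩ := hDψ D
      obtain ⟨a, ha, hσa⟩ := htr ψ D hψ hD σ hσ
      set r : Fin (m + 1) → F := fun i => ψ (Pi.single i 1) with hr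
      have hψr : ∀ v, r ⬝ᵥ v = ψ v := by
        intro v
        conv_rhs => rw [pi_eq_sum_univ' v]
        simp [dotProduct, hr, mul_comm]
      have hdet : (1 + Matrix.vecMulVec a r).det = 1 := by
        rw [Matrix.vecMulVec_eq Unit, Matrix.det_one_add_replicateCol_mul_replicateRow, hψr, ha,
          add_zero]
      let M : Matrix.SpecialLinearGroup (Fin (m + 1)) F := ⟨1 + Matrix.vecMulVec a r, hdet⟩
      refine ⟨M, (hρtr σ M fun v hv => ?_).symm⟩
      obtain ⟨hv', he⟩ := hσa v hv
      have hM : M • v = v + ψ v • a := by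
        show (1 + Matrix.vecMulVec a r) • v = _
        rw [Matrix.smul_eq_mulVec, Matrix.add_mulVec, Matrix.one_mulVec, Matrix.vecMulVec_mulVec,
          hψr]
        simp
      exact ⟨hM ▸ hv', by simp only [hM]; exact he⟩
    · haveI : Nontrivial (Fin (m + 1)) := Fin.nontrivial_iff_two_le.2 (by omega)
      rw [MonoidHom.range_eq_map, ← ClassicalSL.closure_elemTransvections, MonoidHom.map_closure,
        Subgroup.closure_le]
      rintro _ ⟨_, ⟨i, j, hij, c, rfl⟩, rfl⟩
      rcases eq_or_ne c 0 with rfl | hc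
      · rw [Matrix.SpecialLinearGroup.transvection_coeff_zero, map_one]
        exact one_mem _
      let ψ : Dual F (Fin (m + 1) → F) := LinearMap.proj j
      have hψ : ψ ≠ 0 := fun h => by
        have := LinearMap.congr_fun h (Pi.single j 1)
        simp [ψ] at this
      obtain ⟨D, hD⟩ := hψD ψ hψ
      have hej : (Pi.single j 1 : Fin (m + 1) → F) ≠ 0 := by simp
      have hu1 : (Pi.single j 1 + c • Pi.single i 1 : Fin (m + 1) → F) ≠ 0 := fun h => by
        have := congrFun h j
        simp [Pi.single_eq_of_ne hij.symm] at this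
      obtain ⟨σ, hσ, hσx⟩ := hZ.axial_trans (D := D) (x := pt _ hej) (y := pt _ hu1)
        (fun h => by simpa [ψ] using (hpt ψ D hD _ _).1 h)
        (fun h => by simpa [ψ, Pi.single_eq_of_ne hij.symm] using (hpt ψ D hD _ _).1 h)
      obtain ⟨a, ha, hσa⟩ := htr ψ D hψ hD σ hσ
      obtain ⟨h', he⟩ := hσa _ hej
      rw [hσx, hpt_eq] at he
      obtain ⟨t, ht⟩ := he
      have haj : a j = 0 := ha
      have ht1 : t = 1 := by
        have := congrFun ht j
        simpa [ψ, haj, Pi.single_eq_of_ne hij.symm] using this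
      subst ht1
      have hac : a = c • Pi.single i 1 := by simpa [ψ] using ht
      refine ⟨σ, hgen hσ, hρtr σ _ fun v hv => ?_⟩
      obtain ⟨hv', he⟩ := hσa v hv
      have hM : Matrix.SpecialLinearGroup.transvection hij c • v = v + ψ v • a := by
        show (Matrix.SpecialLinearGroup.transvection hij c).1 • v = _
        rw [Matrix.SpecialLinearGroup.transvection_coe, Matrix.smul_eq_mulVec, Matrix.add_mulVec,
          Matrix.one_mulVec, Matrix.single_mulVec, hac]
        ext l
        rcases eq_or_ne l i with rfl | hl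
        · simp [ψ, mul_comm]
        · simp [ψ, hl, Function.update_of_ne hl]
      exact ⟨hM ▸ hv', by simp only [hM]; exact he⟩
  refine ⟨N, ⟨fun n hn g => ?_⟩, ?_, ?_⟩
  · have h : N.map (MulAut.conj g).toMonoidHom ≤ N := by
      rw [hN, MonoidHom.map_closure, Subgroup.closure_le]
      rintro _ ⟨σ, ⟨D, hσ⟩, rfl⟩
      exact Subgroup.subset_closure ⟨g • D, hZ.toSemi.conj_mem_axial rfl hσ⟩
    exact h ⟨n, hn, rfl⟩
  · have hPrange : P.range =
        (Projectivization.PSLAction.toPermHom (K := F) (ι := Fin (m + 1))).range := by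
      ext π
      constructor
      · rintro ⟨M, rfl⟩
        exact ⟨QuotientGroup.mk M, rfl⟩
      · rintro ⟨M, rfl⟩
        induction M using QuotientGroup.induction_on with
        | H M => exact ⟨M, rfl⟩
    exact ⟨((N.equivMapOfInjective ρ hρinj).trans
      (MulEquiv.subgroupCongr (hmap.trans hPrange))).trans
      (MonoidHom.ofInjective Matrix.ProjectiveSpecialLinearGroup.toPermHom_injective).symm⟩
  · refine (Subgroup.eq_bot_iff_forall _).2 fun c hc => eq_of_smul_eq_smul (α := Ω) fun x => ?_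
    rw [Subgroup.mem_centralizer_iff] at hc
    rw [one_smul]
    have hblk : ∀ D : G ⧸ d.H, c • D = D := by
      intro D
      obtain ⟨z, hzZ, hz1⟩ := (Subgroup.bot_or_exists_ne_one Z).resolve_left hZ.ne_bot
      have hσ : pick D * z * (pick D)⁻¹ ∈ axial Z D :=
        mem_axial.2 (by simpa [mul_assoc] using hzZ)
      have hσ1 : pick D * z * (pick D)⁻¹ ≠ 1 := fun h => hz1 (conj_eq_one_iff.1 h)
      have hcomm := hc _ (hgen hσ)
      refine d.S_injective ?_
      rw [d.S_smul]
      ext w
      rw [Set.mem_smul_set_iff_inv_smul_mem, ← hZ.toSemi.axial_fix_iff hσ hσ1,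
        ← hZ.toSemi.axial_fix_iff hσ hσ1, ← mul_smul,
        show pick D * z * (pick D)⁻¹ * c⁻¹ = c⁻¹ * (pick D * z * (pick D)⁻¹) by
          rw [eq_inv_mul_iff_mul_eq, ← mul_assoc, ← hcomm, mul_inv_cancel_right],
        mul_smul, smul_left_cancel_iff]
    have h1 := d.card_fix c
    rw [Finset.filter_true_of_mem (fun D _ => hblk D), Finset.card_univ, d.card_blk,
      ← d.card_pts, Finset.card_eq_iff_eq_univ] at h1
    have h2 := Finset.mem_univ x
    rw [← h1] at h2
    exact (Finset.mem_filter.1 h2).2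

end Datum

end Cfsg.Agent.SymDesign
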